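import Mathlib
import Cfsg.Agent.Lib.PSolvable
import Cfsg.Agent.Lib.Cores

/-!
# Class sizes of `q`-elements: basic facts (helper630)
-/

set_option autoImplicit false
open Pointwise
open Cfsg

namespace Cfsg.Agent.H630.CLib

open Cfsg.Agent.Lib

/-- `q`-elements of `G` have class sizes prime to `p`. -/
def Cond (p q : ℕ) (G : Type*) [Group G] : Prop :=
  ∀ y : G, (∃ k : ℕ, orderOf y = q ^ k) → ¬ p ∣ (Subgroup.centralizer ({y} : Set G)).index

/-- Elements of `q`-power order lift along surjective homomorphisms of finite groups. -/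
theorem exists_lift {G H : Type*} [Group G] [Finite G] [Group H] (q : ℕ) [Fact q.Prime]
    (f : G →* H) (hf : Function.Surjective f) (y : H) (hy : ∃ k : ℕ, orderOf y = q ^ k) :
    ∃ x : G, (∃ k : ℕ, orderOf x = q ^ k) ∧ f x = y := by
  have hH : Finite H := Finite.of_surjective f hf
  obtain ⟨k, hk⟩ := hy
  have h1 : IsPGroup q (Subgroup.zpowers y) := by
    apply IsPGroup.of_card (n := k)
    rw [Nat.card_zpowers, hk]
  obtain ⟨Q, hQ⟩ := h1.exists_le_sylow
  obtain ⟨R, hR⟩ := Sylow.mapSurjective_surjective hf q Q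
  have hy1 : y ∈ (Q : Subgroup H) := hQ (Subgroup.mem_zpowers y)
  rw [← hR, Sylow.coe_mapSurjective] at hy1
  obtain ⟨x, hx, hxy⟩ := Subgroup.mem_map.mp hy1
  refine ⟨x, ?_, hxy⟩
  have hx2 := (IsPGroup.iff_orderOf.mp R.isPGroup') ⟨x, hx⟩
  obtain ⟨m, hm⟩ := hx2
  exact ⟨m, by rw [← hm, Subgroup.orderOf_mk]⟩

/-- The condition passes to epimorphic images. -/
theorem Cond.of_surjective {G H : Type*} [Group G] [Finite G] [Group H] (p q : ℕ) [Fact q.Prime]
    (h : Cond p q G) (f : G →* H) (hf : Function.Surjective f) : Cond p q H := by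
  intro y hy hd
  obtain ⟨x, hx, rfl⟩ := exists_lift q f hf y hy
  apply h x hx
  refine hd.trans ((Subgroup.index_dvd_of_le ?_).trans (Subgroup.index_map_dvd _ hf))
  rintro _ ⟨c, hc, rfl⟩
  rw [Subgroup.mem_centralizer_singleton_iff]
  rw [SetLike.mem_coe, Subgroup.mem_centralizer_singleton_iff] at hc
  rw [← map_mul, ← map_mul, hc]

/-- The relative index in a normal subgroup. -/
theorem relIndex_normal {G : Type*} [Group G] [Finite G] (S K : Subgroup G) [K.Normal] :
    S.relIndex (S ⊔ K) = S.relIndex K := by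
  have h1 : Nat.card S * S.relIndex (S ⊔ K) = Nat.card (S ⊔ K : Subgroup G) := by
    rw [← Subgroup.relIndex_bot_left, ← Subgroup.relIndex_bot_left,
      Subgroup.relIndex_mul_relIndex _ _ _ bot_le le_sup_left]
  have h2 : Nat.card K * K.relIndex S = Nat.card (S ⊔ K : Subgroup G) := by
    rw [← Subgroup.relIndex_sup_right S K, ← Subgroup.relIndex_bot_left, ← Subgroup.relIndex_bot_left,
      Subgroup.relIndex_mul_relIndex _ _ _ bot_le le_sup_right]
  have h3 : Nat.card (K ⊓ S : Subgroup G) * K.relIndex S = Nat.card S := by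
    rw [← Subgroup.inf_relIndex_right, ← Subgroup.relIndex_bot_left, ← Subgroup.relIndex_bot_left,
      Subgroup.relIndex_mul_relIndex _ _ _ bot_le inf_le_right]
  have h4 : Nat.card (K ⊓ S : Subgroup G) * S.relIndex K = Nat.card K := by
    rw [inf_comm, ← Subgroup.inf_relIndex_right, ← Subgroup.relIndex_bot_left,
      ← Subgroup.relIndex_bot_left, Subgroup.relIndex_mul_relIndex _ _ _ bot_le inf_le_right]
  have hpos : 0 < Nat.card S := Nat.card_pos
  apply Nat.eq_of_mul_eq_mul_left hpos
  rw [h1, ← h2, ← h4, ← h3]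
  ring

/-- A subgroup of index prime to `p` contains a Sylow `p`-subgroup of the group. -/
theorem exists_sylow_le {G : Type*} [Group G] [Finite G] (p : ℕ) [Fact p.Prime] (C : Subgroup G)
    (hC : ¬ p ∣ C.index) : ∃ S : Sylow p G, (S : Subgroup G) ≤ C := by
  obtain ⟨S⟩ : Nonempty (Sylow p C) := inferInstance
  have hSi : ¬ p ∣ ((S : Subgroup C).map C.subtype).index := by
    rw [Subgroup.index_map_subtype]
    intro hd
    rcases (Fact.out : p.Prime).dvd_mul.mp hd with h1 | h1
    · exact S.not_dvd_index h1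
    · exact hC h1
  exact ⟨(S.isPGroup'.map C.subtype).toSylow hSi, Subgroup.map_subtype_le _⟩

/-- The intersection of a Sylow subgroup with a normal subgroup. -/
theorem exists_sylow_inf {G : Type*} [Group G] [Finite G] (p : ℕ) [Fact p.Prime] (S : Sylow p G)
    (K : Subgroup G) [K.Normal] : ∃ T : Sylow p K, (T : Subgroup K).map K.subtype ≤ (S : Subgroup G) := by
  have h1 : IsPGroup p ((S : Subgroup G).subgroupOf K) := S.isPGroup'.comap_of_injective _ K.subtype_injective
  have h2 : ¬ p ∣ ((S : Subgroup G).subgroupOf K).index := by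
    intro hd
    have h3 : ((S : Subgroup G).subgroupOf K).index = (S : Subgroup G).relIndex K := rfl
    rw [h3, ← relIndex_normal] at hd
    exact S.not_dvd_index (hd.trans (Subgroup.relIndex_dvd_index_of_le le_sup_left))
  refine ⟨h1.toSylow h2, ?_⟩
  show ((S : Subgroup G).subgroupOf K).map K.subtype ≤ (S : Subgroup G)
  rw [Subgroup.subgroupOf_map_subtype]
  exact inf_le_left

theorem card_map_mk {G : Type*} [Group G] (N L : Subgroup G) [N.Normal] :
    Nat.card (L.map (QuotientGroup.mk' N)) = N.relIndex L := by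
  rw [← Subgroup.relIndex_ker, QuotientGroup.ker_mk']

end Cfsg.Agent.H630.CLib
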