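import Cfsg.Agent.H630.ExcTabB
import Cfsg.Agent.S1059
import Cfsg.Agent.S1062
import Cfsg.Agent.S1065

/-!
# The rows of `G₂`, `F₄`, `E₈` in cross characteristic (helper630)
-/

set_option autoImplicit false
set_option linter.unusedSectionVars false
set_option linter.unusedVariables false

namespace Cfsg.Agent.H630.Exc

open CoxeterSystem Cfsg Cfsg.Lie Cfsg.Lie.ChevalleyDatum
open Cfsg.Agent.ChevalleyStructure Cfsg.Agent.ChevalleyStructure.Elts Cfsg.Agent.ChevalleyStructure.CoxeterGeom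
  Cfsg.Agent.ChevalleyStructure.CoxeterGeomTypes Cfsg.Agent.ChevalleyStructure.NPerm
open Cfsg.Agent.Tits.Roots Cfsg.Agent.Tits.Core Cfsg.Agent.Nodes Cfsg.Agent.Nodes.Reps Cfsg.Agent.Nodes.BNOf
  Cfsg.Agent.Nodes.RGDChev Cfsg.Agent.Nodes.Bruhat Cfsg.Agent.Nodes.SubComb Cfsg.Agent.Nodes.Coroot
open Cfsg.Agent.KFacts.RgdField Cfsg.Agent.KFacts.RgdChevCoord Cfsg.Agent.BpExc.TorCent Cfsg.Agent.BpExc.TorChev
open Cfsg.Agent.GpExc.Field Cfsg.Agent.BpExc.Tow Cfsg.Agent.BpExc.TowChev Cfsg.Agent.BpExc.Fr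
  Cfsg.Agent.BpExc.LangFr Cfsg.Agent.LangThm Cfsg.Agent.BpExc Cfsg.Agent.H129.TorusChar Cfsg.Agent.H129.TorusMain
open Cfsg.Agent.H630.NH Cfsg.Agent.H130.WeylCk Cfsg.Agent.H130.PolyL Cfsg.Agent.H130.WeylTab

universe u v

section Bad

variable {D : ChevalleyDatum} {l : ℕ} {M : CoxeterMatrix (Fin l)} (hp : IsType D l M)
  {W : Type*} [Group W] (cs : CoxeterSystem M W)
variable {k' : Type u} [Field k'] {p e : ℕ} [hpF : Fact p.Prime] [CharP k' p] {σ : MulAut ↥(D.group k')}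
  {g : (Fin l → ℤ) ≃+ (Fin l → ℤ)} {X : Type v} [Group X] {e0 : X →* ↥(D.group k')} {d : ℕ}
  (S : Setup hp cs p e σ g e0 d)

/-- replace `Q` by `-Q` -/
theorem exists_eps {ε Q : ℤ} (hε : ε = 1 ∨ ε = -1) (hQ : Q = ε * (p ^ e : ℕ)) {r : ℕ} (hr : r.Prime) {n : ℕ}
    (hn : orderOf (Q : ZMod r) = n) (h12 : n = 1 ∨ n = 2) : ∃ ε' Q' : ℤ, (ε' = 1 ∨ ε' = -1) ∧
      Q' = ε' * (p ^ e : ℕ) ∧ (r : ℤ) ∣ Q' - 1 ∧ ∀ s : ℕ, s.Prime → orderOf (Q : ZMod s) = n → (s : ℤ) ∣ Q' - 1 := by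
  have h1 : ∃ ε' Q' : ℤ, (ε' = 1 ∨ ε' = -1) ∧
      Q' = ε' * (p ^ e : ℕ) ∧ ∀ s : ℕ, s.Prime → orderOf (Q : ZMod s) = n → (s : ℤ) ∣ Q' - 1 := by
    rcases h12 with rfl | rfl
    · refine ⟨ε, Q, hε, hQ, fun s _ h => ?_⟩
      have := (dvd_pow_sub_one_iff (r := s) (Q := Q) 1).2 (by rw [h])
      rwa [pow_one] at this
    · refine ⟨-ε, -Q, by rcases hε with rfl | rfl <;> simp, by rw [hQ]; ring, fun s hs h => ?_⟩
      have h1 := order_neg hs (n := 1) h (by norm_num) one_pos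
      have := (dvd_pow_sub_one_iff (r := s) (Q := -Q) 1).2 (by rw [h1])
      rwa [pow_one] at this
  obtain ⟨ε', Q', h2, h3, h4⟩ := h1
  exact ⟨ε', Q', h2, h3, h4 r hr hn, h4⟩

include S

/-- **Bad primes, order at most two, first version.** -/
theorem Setup.bad_sum12 [IsAlgClosed k'] [Finite W] [Finite X]
    (hT : ∀ ε : ℤ, ε = 1 ∨ ε = -1 → ∀ w1, HasTor hp cs g ε w1) {π : Set ℕ} {r s' : ℕ} (hrp : r.Prime)
    (hsp : s'.Prime) (hr : r ∈ π) (hs' : s' ∈ π) (hrs : r ≠ s') (hrc : r ≠ p) (hrd : ¬ r ∣ d) (hr2 : r ≠ 2)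
    (hsX : s' ∣ Nat.card X) {ε Q : ℤ} (hε : ε = 1 ∨ ε = -1) (hQ : Q = ε * (p ^ e : ℕ))
    (h12 : orderOf (Q : ZMod r) = 1 ∨ orderOf (Q : ZMod r) = 2) {word : List (Fin l)} {k2 : ℕ} {Al : List (List ℤ)}
    (hA : MatList (cartanOf D l) Al) {m : List (List ℤ)} {j : ℕ} (H : SumCk l Al word k2 (r ^ j) m) :
    ¬ Cond π X := by
  obtain ⟨ε', Q', hε', hQ', hrQ, -⟩ := exists_eps hε hQ hrp rfl h12
  refine S.not_cond_sum_ck hp cs hrp hsp hr hs' hrs hrc hrd hr2 hsX hε' hQ' (k1 := 0) (hT ε' hε' _) one_pos ?_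
    (by rw [pow_one]; exact hrQ) ?_ hA H
  · rw [pow_zero, map_one, one_pow]
  · rw [pow_zero]
    exact regAt_one hp cs hrp (not_dvd_Q Fact.out hrp hrc hε' hQ')

/-- **Bad primes, order at most two, second version.** -/
theorem Setup.bad_count12 [IsAlgClosed k'] [Finite W] [Finite X]
    (hT : ∀ ε : ℤ, ε = 1 ∨ ε = -1 → ∀ w1, HasTor hp cs g ε w1) {π : Set ℕ} {r s' : ℕ} (hrp : r.Prime)
    (hsp : s'.Prime) (hr : r ∈ π) (hs' : s' ∈ π) (hrs : r ≠ s') (hrc : r ≠ p) (hsc : s' ≠ p) (hrd : ¬ r ∣ d)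
    (hsd : ¬ s' ∣ d) (hr2 : r ≠ 2) (hs2 : s' ≠ 2) {ε Q : ℤ} (hε : ε = 1 ∨ ε = -1) (hQ : Q = ε * (p ^ e : ℕ))
    (h12 : orderOf (Q : ZMod r) = 1 ∨ orderOf (Q : ZMod r) = 2) (hsame : orderOf (Q : ZMod r) = orderOf (Q : ZMod s'))
    {Al : List (List ℤ)} (hA : MatList (cartanOf D l) Al) {word : List (Fin l)} {k : ℕ} {m : List (List ℤ)} {j : ℕ}
    {b : List ℤ} {C : ℕ} (H : CountCk D l Al word k (r ^ j) m b C) (hsC : C ≤ s') : ¬ Cond π X := by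
  obtain ⟨ε', Q', hε', hQ', hrQ, hQs⟩ := exists_eps hε hQ hrp rfl h12
  exact S.not_cond_count_ck hp cs hrp hsp hr hs' hrs hrc hsc hrd hsd hr2 hs2 hε' hQ' (hT ε' hε' _) hrQ
    (hQs s' hsp hsame.symm) hA H hsC

end Bad

/-- the product of the `q^i - 1` -/
theorem natAbs_prod (q : ℕ) (hq : 0 < q) (degs : List ℕ) :
    ((degs.map (fun i => ((q : ℕ) : ℤ) ^ i - 1)).prod).natAbs = (degs.map (fun i => q ^ i - 1)).prod := by
  induction degs with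
  | nil => rfl
  | cons i L ih =>
    rw [List.map_cons, List.prod_cons, List.map_cons, List.prod_cons, Int.natAbs_mul, ih]
    congr 1
    have h1 : 1 ≤ q ^ i := Nat.one_le_pow _ _ hq
    have h2 : ((q : ℕ) : ℤ) ^ i - 1 = ((q ^ i - 1 : ℕ) : ℤ) := by push_cast [Nat.cast_sub h1]; ring
    rw [h2, Int.natAbs_natCast]

theorem e8T : IsType chevE8 8 CoxeterMatrix.E₈ := by simp [IsType, typeList]
theorem f4T : IsType chevF4 4 CoxeterMatrix.F₄ := by simp [IsType, typeList]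
theorem g2T : IsType chevG2 2 CoxeterMatrix.G₂ := by simp [IsType, typeList]

/-! ### type `E₈` -/

theorem key_E8 : ∀ i ∈ [2, 8, 12, 14, 18, 20, 24, 30], ∀ r < 31, ∀ n < 31,
    (r ∣ i ∧ r.Prime ∧ r ≠ 2 ∧ n ∣ i ∧ n ∣ r - 1) →
      ((n = 1 ∨ n = 2) ∧ (r = 3 ∨ r = 5 ∨ r = 7)) ∨ (r = 5 ∧ n = 4) := by decide +kernel

theorem lt_E8 : ∀ i ∈ [2, 8, 12, 14, 18, 20, 24, 30], 0 < i ∧ i < 31 := by decide

theorem small_prime : ∀ s < 7, s.Prime → s = 2 ∨ s = 3 ∨ s = 5 := by decide +kernel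

theorem idx_E8 : ∀ n ∈ [1, 2, 3, 4, 5, 6, 7, 8, 9, 10, 12, 14, 15, 18, 20, 24, 30], 0 < n ∧ n ∈ H130.PolyL.idx := by
  decide

section E8

variable {W : Type*} [Group W] (cs : CoxeterSystem CoxeterMatrix.E₈ W)
variable {k' : Type u} [Field k'] {p e : ℕ} [hpF : Fact p.Prime] [CharP k' p] {σ : MulAut ↥(chevE8.group k')}
  {X : Type v} [Group X] {e0 : X →* ↥(chevE8.group k')}

theorem hasTor_E8 (ε : ℤ) (hε : ε = 1 ∨ ε = -1) (w1 : W) : HasTor e8T cs (AddEquiv.refl (Fin 8 → ℤ)) ε w1 :=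
  hasTor_all e8T cs (rep_neg_of e8T cs lists_E8 _ 15 neg_E8) hε w1

variable (S : Setup e8T cs p e σ (AddEquiv.refl (Fin 8 → ℤ)) e0 1)

include S

theorem reg_E8 [IsAlgClosed k'] [Finite W] [Finite X] {Q : ℤ} (hQ : Q = 1 * (p ^ e : ℕ)) :
    ∀ n ∈ [1, 2, 3, 6, 4, 5, 10, 8], RegE X p 1 Q n := by
  have h1 : (1 : ℤ) = 1 ∨ (1 : ℤ) = -1 := Or.inl rfl
  have h2 : (-1 : ℤ) = 1 ∨ (-1 : ℤ) = -1 := Or.inr rfl
  have hT1 := hasTor_E8 cs 1 h1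
  have hT2 := hasTor_E8 cs (-1) h2
  intro n hn
  simp only [List.mem_cons, List.not_mem_nil, or_false] at hn
  rcases hn with rfl | rfl | rfl | rfl | rfl | rfl | rfl | rfl
  · exact S.regE_one e8T cs h1 hQ hT1
  · exact S.regE_two e8T cs h1 hQ hT2
  · exact S.regE_ck e8T cs h1 hQ hT1 lists_E8 reg_E8_3 (by decide) (by decide) (by decide +kernel)
  · exact S.regE_ck_neg e8T cs h1 hQ hT2 lists_E8 reg_E8_3 (by decide) (by decide) (by decide) (by decide)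
      (by decide +kernel)
  · exact S.regE_ck e8T cs h1 hQ hT1 lists_E8 reg_E8_4 (by decide) (by decide) (by decide +kernel)
  · exact S.regE_ck e8T cs h1 hQ hT1 lists_E8 reg_E8_5 (by decide) (by decide) (by decide +kernel)
  · exact S.regE_ck_neg e8T cs h1 hQ hT2 lists_E8 reg_E8_5 (by decide) (by decide) (by decide) (by decide)
      (by decide +kernel)
  · exact S.regE_ck e8T cs h1 hQ hT1 lists_E8 reg_E8_8 (by decide) (by decide) (by decide +kernel)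

theorem bad_E8_four [IsAlgClosed k'] [Finite W] [Finite X] {Q : ℤ} (hQ : Q = 1 * (p ^ e : ℕ)) {π : Set ℕ} {s : ℕ}
    (hr : (5 : ℕ).Prime) (hs : s.Prime) (hrπ : 5 ∈ π) (hsπ : s ∈ π) (hrs : 5 ≠ s) (hrp : 5 ≠ p)
    (hrd : ¬ 5 ∣ 1) (hsX : s ∣ Nat.card X) (hn : orderOf (Q : ZMod 5) = 4) : ¬ Cond π X := by
  have h1 : (1 : ℤ) = 1 ∨ (1 : ℤ) = -1 := Or.inl rfl
  have hQr := not_dvd_Q (p := p) (e := e) Fact.out hr hrp h1 hQ
  have hreg := regAt_of_ck' e8T cs lists_E8 reg_E8_4 (by decide) (by decide) (by decide +kernel) hr (by norm_num) hQr hn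
  have hw := rep_pow_eq_one e8T cs lists_E8 _ 5 4 reg_E8_4.2.2.1
  exact S.not_cond_sum_ck e8T cs hr hs hrπ hsπ hrs hrp hrd (by norm_num) hsX h1 hQ (hasTor_E8 cs 1 h1 _)
    (by norm_num) hw ((dvd_pow_sub_one_iff 4).2 (by rw [hn])) hreg lists_E8 (j := 1) sum_E8_five4

theorem bad_E8 [IsAlgClosed k'] [Finite W] [Finite X] {Q : ℤ} (hQ : Q = 1 * (p ^ e : ℕ)) (π : Set ℕ) (r s : ℕ)
    (hr : r.Prime) (hs : s.Prime) (hrπ : r ∈ π) (hsπ : s ∈ π) (hrs : r ≠ s) (hr2 : r ≠ 2) (hs2 : s ≠ 2)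
    (hrp : r ≠ p) (hsp : s ≠ p) (hrd : ¬ r ∣ 1) (hsd : ¬ s ∣ 1) (hrX : r ∣ Nat.card X) (hsX : s ∣ Nat.card X)
    (hsame : orderOf (Q : ZMod r) = orderOf (Q : ZMod s))
    (hbad : ∃ i ∈ [2, 8, 12, 14, 18, 20, 24, 30], orderOf (Q : ZMod r) ∣ i ∧ r ∣ i) : ¬ Cond π X := by
  have h1 : (1 : ℤ) = 1 ∨ (1 : ℤ) = -1 := Or.inl rfl
  have hT := hasTor_E8 cs
  obtain ⟨i, hi, hni, hri⟩ := hbad
  have hQr := not_dvd_Q (p := p) (e := e) Fact.out hr hrp h1 hQ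
  have hn1 := ord_dvd hr hQr
  have hi30 := lt_E8 i hi
  have hr31 := lt_of_le_of_lt (Nat.le_of_dvd hi30.1 hri) hi30.2
  have hn31 := lt_of_le_of_lt (Nat.le_of_dvd hi30.1 hni) hi30.2
  rcases key_E8 i hi r hr31 _ hn31 ⟨hri, hr, hr2, hni, hn1⟩ with ⟨h12, hr'⟩ | ⟨hr', hn4⟩
  · have h12s := h12
    rw [hsame] at h12s
    by_cases hr3 : r = 3
    · subst hr3
      exact S.bad_sum12 e8T cs hT hr hs hrπ hsπ hrs hrp hrd hr2 hsX h1 hQ h12 lists_E8 (j := 1) sum_E8_three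
    by_cases hs3 : s = 3
    · subst hs3
      exact S.bad_sum12 e8T cs hT hs hr hsπ hrπ hrs.symm hsp hsd hs2 hrX h1 hQ h12s lists_E8 (j := 1) sum_E8_three
    by_cases hr5 : r = 5
    · subst hr5
      exact S.bad_sum12 e8T cs hT hr hs hrπ hsπ hrs hrp hrd hr2 hsX h1 hQ h12 lists_E8 (j := 1) sum_E8_five
    by_cases hs5 : s = 5
    · subst hs5
      exact S.bad_sum12 e8T cs hT hs hr hsπ hrπ hrs.symm hsp hsd hs2 hrX h1 hQ h12s lists_E8 (j := 1) sum_E8_five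
    obtain rfl : r = 7 := by tauto
    refine S.bad_count12 e8T cs hT hr hs hrπ hsπ hrs hrp hsp hrd hsd hr2 hs2 h1 hQ h12 hsame lists_E8 (j := 1)
      count_E8_seven ?_
    by_contra hcon
    have := small_prime s (by omega) hs
    tauto
  · subst hr'
    exact bad_E8_four cs S hQ hr hs hrπ hsπ hrs hrp hrd hsX hn4

end E8

/-- **Type `E₈`.** -/
theorem crossRow_E8 (r : ℕ) [Fact r.Prime] (F : Type u) [Field F] [Fintype F] [CharP F r] :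
    CrossRow r ↥(chevE8.group F) := by
  obtain ⟨k, _, _, f, p, hpp, hkp, e, hk, hka, he0, hcF⟩ := H378.TorFin.exists_closure F
  have hkr : CharP k r := charP_of_injective_ringHom f.injective r
  obtain rfl : r = p := CharP.eq k hkr hkp
  have cs := CoxeterMatrix.E₈.toCoxeterSystem
  have hW := finite_W e8T cs
  have hcF' : Fintype.card F = r ^ e := by rw [← Nat.card_eq_fintype_card, hcF]
  have hd1 : Nat.gcd 1 (Nat.card F - 1) = 1 := Nat.gcd_one_left _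
  have S := setup_untw e8T cs hk f he0 hcF' invC_E8 one_ne_zero
  rw [hd1] at S
  have h1 : (1 : ℤ) = 1 ∨ (1 : ℤ) = -1 := Or.inl rfl
  have hQ : ((r ^ e : ℕ) : ℤ) = 1 * (r ^ e : ℕ) := (one_mul _).symm
  have hcard : 1 * Nat.card ↥(chevE8.group F) = (r ^ e) ^ 120 *
      (([2, 8, 12, 14, 18, 20, 24, 30].map (fun i => ((r ^ e : ℕ) : ℤ) ^ i - 1)).prod).natAbs := by
    rw [natAbs_prod _ (pow_pos hpp.out.pos _), one_mul, S1065.result hcF']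
    simp only [List.map_cons, List.map_nil, List.prod_cons, List.prod_nil, mul_one]
    ring
  refine S.crossRow_of e8T cs hka h1 hQ (degs := [2, 8, 12, 14, 18, 20, 24, 30])
    (es := [1, 2, 3, 4, 5, 6, 7, 8, 9, 10, 12, 14, 15, 18, 20, 24, 30]) (by decide +kernel) hcard
    (H := [1, 2, 3, 6, 4, 5, 10, 8]) (reg_E8 cs S hQ) (Sp := fun _ _ => False) (by decide +kernel) ?_ ?_
    (bad_E8 cs S hQ) ?_
  · rintro π r s - - - - - - - - - - - - - h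
    exact h.elim
  · intro π r s hr _ _ _ _ _ _ _ _ hd
    exact absurd (Nat.dvd_one.1 hd) hr.one_lt.ne'
  · intro n hn π hπ _
    exact S.pos_of_hasF e8T cs h1 lists_E8 (hasTor_E8 cs 1 h1) hQ (idx_E8 n hn).1 (idx_E8 n hn).2 (hasF_E8 n hn)
      hcard hπ

/-! ### type `F₄` -/

theorem key_F4 : ∀ i ∈ [2, 6, 8, 12], ∀ r < 13, ∀ n < 13,
    (r ∣ i ∧ r.Prime ∧ r ≠ 2 ∧ n ∣ i ∧ n ∣ r - 1) → (n = 1 ∨ n = 2) ∧ r = 3 := by decide +kernel

theorem lt_F4 : ∀ i ∈ [2, 6, 8, 12], 0 < i ∧ i < 13 := by decide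

theorem idx_F4 : ∀ n ∈ [1, 2, 3, 4, 6, 8, 12], 0 < n ∧ n ∈ H130.PolyL.idx := by decide

section F4

variable {W : Type*} [Group W] (cs : CoxeterSystem CoxeterMatrix.F₄ W)
variable {k' : Type u} [Field k'] {p e : ℕ} [hpF : Fact p.Prime] [CharP k' p] {σ : MulAut ↥(chevF4.group k')}
  {X : Type v} [Group X] {e0 : X →* ↥(chevF4.group k')}

theorem hasTor_F4 (ε : ℤ) (hε : ε = 1 ∨ ε = -1) (w1 : W) : HasTor f4T cs (AddEquiv.refl (Fin 4 → ℤ)) ε w1 :=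
  hasTor_all f4T cs (rep_neg_of f4T cs lists_F4 _ 6 neg_F4) hε w1

variable (S : Setup f4T cs p e σ (AddEquiv.refl (Fin 4 → ℤ)) e0 1)

include S

theorem reg_F4 [IsAlgClosed k'] [Finite W] [Finite X] {Q : ℤ} (hQ : Q = 1 * (p ^ e : ℕ)) :
    ∀ n ∈ [1, 2, 3, 6, 4], RegE X p 1 Q n := by
  have h1 : (1 : ℤ) = 1 ∨ (1 : ℤ) = -1 := Or.inl rfl
  have h2 : (-1 : ℤ) = 1 ∨ (-1 : ℤ) = -1 := Or.inr rfl
  have hT1 := hasTor_F4 cs 1 h1
  have hT2 := hasTor_F4 cs (-1) h2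
  intro n hn
  simp only [List.mem_cons, List.not_mem_nil, or_false] at hn
  rcases hn with rfl | rfl | rfl | rfl | rfl
  · exact S.regE_one f4T cs h1 hQ hT1
  · exact S.regE_two f4T cs h1 hQ hT2
  · exact S.regE_ck f4T cs h1 hQ hT1 lists_F4 reg_F4_3 (by decide) (by decide) (by decide +kernel)
  · exact S.regE_ck_neg f4T cs h1 hQ hT2 lists_F4 reg_F4_3 (by decide) (by decide) (by decide) (by decide)
      (by decide +kernel)
  · exact S.regE_ck f4T cs h1 hQ hT1 lists_F4 reg_F4_4 (by decide) (by decide) (by decide +kernel)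

theorem bad_F4 [IsAlgClosed k'] [Finite W] [Finite X] {Q : ℤ} (hQ : Q = 1 * (p ^ e : ℕ)) (π : Set ℕ) (r s : ℕ)
    (hr : r.Prime) (hs : s.Prime) (hrπ : r ∈ π) (hsπ : s ∈ π) (hrs : r ≠ s) (hr2 : r ≠ 2) (hs2 : s ≠ 2)
    (hrp : r ≠ p) (hsp : s ≠ p) (hrd : ¬ r ∣ 1) (hsd : ¬ s ∣ 1) (hrX : r ∣ Nat.card X) (hsX : s ∣ Nat.card X)
    (hsame : orderOf (Q : ZMod r) = orderOf (Q : ZMod s))
    (hbad : ∃ i ∈ [2, 6, 8, 12], orderOf (Q : ZMod r) ∣ i ∧ r ∣ i) : ¬ Cond π X := by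
  have h1 : (1 : ℤ) = 1 ∨ (1 : ℤ) = -1 := Or.inl rfl
  have hT := hasTor_F4 cs
  obtain ⟨i, hi, hni, hri⟩ := hbad
  have hQr := not_dvd_Q (p := p) (e := e) Fact.out hr hrp h1 hQ
  have hn1 := ord_dvd hr hQr
  have hi30 := lt_F4 i hi
  have hr31 := lt_of_le_of_lt (Nat.le_of_dvd hi30.1 hri) hi30.2
  have hn31 := lt_of_le_of_lt (Nat.le_of_dvd hi30.1 hni) hi30.2
  obtain ⟨h12, hr'⟩ := key_F4 i hi r hr31 _ hn31 ⟨hri, hr, hr2, hni, hn1⟩
  subst hr'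
  exact S.bad_sum12 f4T cs hT hr hs hrπ hsπ hrs hrp hrd hr2 hsX h1 hQ h12 lists_F4 (j := 1) sum_F4_three

end F4

/-- **Type `F₄`.** -/
theorem crossRow_F4 (r : ℕ) [Fact r.Prime] (F : Type u) [Field F] [Fintype F] [CharP F r] :
    CrossRow r ↥(chevF4.group F) := by
  obtain ⟨k, _, _, f, p, hpp, hkp, e, hk, hka, he0, hcF⟩ := H378.TorFin.exists_closure F
  have hkr : CharP k r := charP_of_injective_ringHom f.injective r
  obtain rfl : r = p := CharP.eq k hkr hkp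
  have cs := CoxeterMatrix.F₄.toCoxeterSystem
  have hW := finite_W f4T cs
  have hcF' : Fintype.card F = r ^ e := by rw [← Nat.card_eq_fintype_card, hcF]
  have hd1 : Nat.gcd 1 (Nat.card F - 1) = 1 := Nat.gcd_one_left _
  have S := setup_untw f4T cs hk f he0 hcF' invC_F4 one_ne_zero
  rw [hd1] at S
  have h1 : (1 : ℤ) = 1 ∨ (1 : ℤ) = -1 := Or.inl rfl
  have hQ : ((r ^ e : ℕ) : ℤ) = 1 * (r ^ e : ℕ) := (one_mul _).symm
  have hcard : 1 * Nat.card ↥(chevF4.group F) = (r ^ e) ^ 24 *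
      (([2, 6, 8, 12].map (fun i => ((r ^ e : ℕ) : ℤ) ^ i - 1)).prod).natAbs := by
    rw [natAbs_prod _ (pow_pos hpp.out.pos _), one_mul, S1062.result hcF']
    simp only [List.map_cons, List.map_nil, List.prod_cons, List.prod_nil, mul_one]
    ring
  refine S.crossRow_of f4T cs hka h1 hQ (degs := [2, 6, 8, 12])
    (es := [1, 2, 3, 4, 6, 8, 12]) (by decide +kernel) hcard
    (H := [1, 2, 3, 6, 4]) (reg_F4 cs S hQ) (Sp := fun _ _ => False) (by decide +kernel) ?_ ?_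
    (bad_F4 cs S hQ) ?_
  · rintro π r s - - - - - - - - - - - - - h
    exact h.elim
  · intro π r s hr _ _ _ _ _ _ _ _ hd
    exact absurd (Nat.dvd_one.1 hd) hr.one_lt.ne'
  · intro n hn π hπ _
    exact S.pos_of_hasF f4T cs h1 lists_F4 (hasTor_F4 cs 1 h1) hQ (idx_F4 n hn).1 (idx_F4 n hn).2 (hasF_F4 n hn)
      hcard hπ

/-! ### type `G₂` -/

theorem key_G2 : ∀ i ∈ [2, 6], ∀ r < 7, ∀ n < 7,
    (r ∣ i ∧ r.Prime ∧ r ≠ 2 ∧ n ∣ i ∧ n ∣ r - 1) → (n = 1 ∨ n = 2) ∧ r = 3 := by decide +kernel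

theorem lt_G2 : ∀ i ∈ [2, 6], 0 < i ∧ i < 7 := by decide

theorem idx_G2 : ∀ n ∈ [1, 2, 3, 6], 0 < n ∧ n ∈ H130.PolyL.idx := by decide

section G2

variable {W : Type*} [Group W] (cs : CoxeterSystem CoxeterMatrix.G₂ W)
variable {k' : Type u} [Field k'] {p e : ℕ} [hpF : Fact p.Prime] [CharP k' p] {σ : MulAut ↥(chevG2.group k')}
  {X : Type v} [Group X] {e0 : X →* ↥(chevG2.group k')}

theorem hasTor_G2 (ε : ℤ) (hε : ε = 1 ∨ ε = -1) (w1 : W) : HasTor g2T cs (AddEquiv.refl (Fin 2 → ℤ)) ε w1 :=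
  hasTor_all g2T cs (rep_neg_of g2T cs lists_G2 _ 3 neg_G2) hε w1

variable (S : Setup g2T cs p e σ (AddEquiv.refl (Fin 2 → ℤ)) e0 1)

include S

theorem reg_G2 [IsAlgClosed k'] [Finite W] [Finite X] {Q : ℤ} (hQ : Q = 1 * (p ^ e : ℕ)) :
    ∀ n ∈ [1, 2], RegE X p 1 Q n := by
  have h1 : (1 : ℤ) = 1 ∨ (1 : ℤ) = -1 := Or.inl rfl
  have h2 : (-1 : ℤ) = 1 ∨ (-1 : ℤ) = -1 := Or.inr rfl
  have hT1 := hasTor_G2 cs 1 h1
  have hT2 := hasTor_G2 cs (-1) h2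
  intro n hn
  simp only [List.mem_cons, List.not_mem_nil, or_false] at hn
  rcases hn with rfl | rfl
  · exact S.regE_one g2T cs h1 hQ hT1
  · exact S.regE_two g2T cs h1 hQ hT2

theorem bad_G2 [IsAlgClosed k'] [Finite W] [Finite X] {Q : ℤ} (hQ : Q = 1 * (p ^ e : ℕ)) (π : Set ℕ) (r s : ℕ)
    (hr : r.Prime) (hs : s.Prime) (hrπ : r ∈ π) (hsπ : s ∈ π) (hrs : r ≠ s) (hr2 : r ≠ 2) (hs2 : s ≠ 2)
    (hrp : r ≠ p) (hsp : s ≠ p) (hrd : ¬ r ∣ 1) (hsd : ¬ s ∣ 1) (hrX : r ∣ Nat.card X) (hsX : s ∣ Nat.card X)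
    (hsame : orderOf (Q : ZMod r) = orderOf (Q : ZMod s))
    (hbad : ∃ i ∈ [2, 6], orderOf (Q : ZMod r) ∣ i ∧ r ∣ i) : ¬ Cond π X := by
  have h1 : (1 : ℤ) = 1 ∨ (1 : ℤ) = -1 := Or.inl rfl
  have hT := hasTor_G2 cs
  obtain ⟨i, hi, hni, hri⟩ := hbad
  have hQr := not_dvd_Q (p := p) (e := e) Fact.out hr hrp h1 hQ
  have hn1 := ord_dvd hr hQr
  have hi30 := lt_G2 i hi
  have hr31 := lt_of_le_of_lt (Nat.le_of_dvd hi30.1 hri) hi30.2
  have hn31 := lt_of_le_of_lt (Nat.le_of_dvd hi30.1 hni) hi30.2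
  obtain ⟨h12, hr'⟩ := key_G2 i hi r hr31 _ hn31 ⟨hri, hr, hr2, hni, hn1⟩
  subst hr'
  exact S.bad_sum12 g2T cs hT hr hs hrπ hsπ hrs hrp hrd hr2 hsX h1 hQ h12 lists_G2 (j := 1) sum_G2_three

end G2

/-- **Type `G₂`.** -/
theorem crossRow_G2 (r : ℕ) [Fact r.Prime] (F : Type u) [Field F] [Fintype F] [CharP F r] :
    CrossRow r ↥(chevG2.group F) := by
  obtain ⟨k, _, _, f, p, hpp, hkp, e, hk, hka, he0, hcF⟩ := H378.TorFin.exists_closure F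
  have hkr : CharP k r := charP_of_injective_ringHom f.injective r
  obtain rfl : r = p := CharP.eq k hkr hkp
  have cs := CoxeterMatrix.G₂.toCoxeterSystem
  have hW := finite_W g2T cs
  have hcF' : Fintype.card F = r ^ e := by rw [← Nat.card_eq_fintype_card, hcF]
  have hd1 : Nat.gcd 1 (Nat.card F - 1) = 1 := Nat.gcd_one_left _
  have S := setup_untw g2T cs hk f he0 hcF' invC_G2 one_ne_zero
  rw [hd1] at S
  have h1 : (1 : ℤ) = 1 ∨ (1 : ℤ) = -1 := Or.inl rfl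
  have hQ : ((r ^ e : ℕ) : ℤ) = 1 * (r ^ e : ℕ) := (one_mul _).symm
  have hcard : 1 * Nat.card ↥(chevG2.group F) = (r ^ e) ^ 6 *
      (([2, 6].map (fun i => ((r ^ e : ℕ) : ℤ) ^ i - 1)).prod).natAbs := by
    rw [natAbs_prod _ (pow_pos hpp.out.pos _), one_mul, S1059.result hcF']
    simp only [List.map_cons, List.map_nil, List.prod_cons, List.prod_nil, mul_one]
    ring
  refine S.crossRow_of g2T cs hka h1 hQ (degs := [2, 6])
    (es := [1, 2, 3, 6]) (by decide +kernel) hcard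
    (H := [1, 2]) (reg_G2 cs S hQ) (Sp := fun _ _ => False) (by decide +kernel) ?_ ?_
    (bad_G2 cs S hQ) ?_
  · rintro π r s - - - - - - - - - - - - - h
    exact h.elim
  · intro π r s hr _ _ _ _ _ _ _ _ hd
    exact absurd (Nat.dvd_one.1 hd) hr.one_lt.ne'
  · intro n hn π hπ _
    exact S.pos_of_hasF g2T cs h1 lists_G2 (hasTor_G2 cs 1 h1) hQ (idx_G2 n hn).1 (idx_G2 n hn).2 (hasF_G2 n hn)
      hcard hπ

end Cfsg.Agent.H630.Exc
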