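import Cfsg.Agent.H630.ExcRowsB
import Cfsg.Agent.H234.NotCondE7

/-!
# The row of `E₇` in cross characteristic (helper630)
-/

set_option autoImplicit false

namespace Cfsg.Agent.H630.Exc

open CoxeterSystem Cfsg Cfsg.Lie Cfsg.Lie.ChevalleyDatum
open Cfsg.Agent.H630.NH

universe u

/-- **Type `E₇`.** -/
theorem crossRow_E7 (r : ℕ) [Fact r.Prime] (F : Type u) [Field F] [Fintype F] [CharP F r] :
    CrossRow r ↥(chevE7.group F) := by
  refine crossRow_E7_of r F ?_
  intro k _ _ _ e cs σ e0 d hka S π s t hs ht hsπ htπ hst hsr htr hsd htd h8 hsX htX h4 hne hm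
  have hW : Finite CoxeterMatrix.E₇.Group := Nodes.RGDChev.finite_W e7T cs
  exact H234.NotCond.not_cond_E7_four cs hka S hs ht hsπ htπ hst hsr htr hsd htX h8 h4 hne hm

end Cfsg.Agent.H630.Exc
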