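import Cfsg.Agent.H630.ExcG

/-!
# Primes dividing the index of `X` in the fixed points (helper630)

`CommIn σ e0` : the commutators of fixed points of `σ` lie in the image of `X`.

* `Setup.not_cond_comm` : for `r ∣ Q - 1`, `r ≠ 2`, and `a b ∈ W` whose commutator is an `r`-element without fixed points
  on the lattice, `Cond {r, s}` fails for every `s`.
-/

set_option autoImplicit false
set_option linter.unusedSectionVars false

namespace Cfsg.Agent.H630.Exc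

open CoxeterSystem Cfsg Cfsg.Lie Cfsg.Lie.ChevalleyDatum
open Cfsg.Agent.ChevalleyStructure Cfsg.Agent.ChevalleyStructure.Elts Cfsg.Agent.ChevalleyStructure.CoxeterGeom
  Cfsg.Agent.ChevalleyStructure.CoxeterGeomTypes Cfsg.Agent.ChevalleyStructure.NPerm
open Cfsg.Agent.Tits.Roots Cfsg.Agent.Tits.Core Cfsg.Agent.Nodes Cfsg.Agent.Nodes.Reps Cfsg.Agent.Nodes.BNOf
  Cfsg.Agent.Nodes.RGDChev Cfsg.Agent.Nodes.Bruhat Cfsg.Agent.Nodes.SubComb Cfsg.Agent.Nodes.Coroot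
open Cfsg.Agent.KFacts.RgdField Cfsg.Agent.KFacts.RgdChevCoord Cfsg.Agent.BpExc.TorCent Cfsg.Agent.BpExc.TorChev
open Cfsg.Agent.GpExc.Field Cfsg.Agent.BpExc.Tow Cfsg.Agent.BpExc.TowChev Cfsg.Agent.BpExc.Fr
  Cfsg.Agent.BpExc.LangFr Cfsg.Agent.LangThm Cfsg.Agent.BpExc Cfsg.Agent.H129.TorusChar Cfsg.Agent.H129.TorusMain
open Cfsg.Agent.H129.TorAct (cX_tau tau_mem exists_theta)
open Cfsg.Agent.H630.NH

universe u v

/-- the commutators of fixed points of `σ` lie in the image of `X` -/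
def CommIn {Y : Type u} [Group Y] {X : Type v} [Group X] (σ : MulAut Y) (e0 : X →* Y) : Prop :=
  ∀ a b : Y, σ a = a → σ b = b → a * b * a⁻¹ * b⁻¹ ∈ e0.range

variable {D : ChevalleyDatum} {l : ℕ} {M : CoxeterMatrix (Fin l)} (hp : IsType D l M) {k : Type u} [Field k]
  {W : Type*} [Group W] (cs : CoxeterSystem M W)

/-- the reflection of a root -/
theorem exists_refl {a : Fin l → ℤ} (ha : IsRoot cs hp.isCartan a) : ∃ s : W, rep cs hp.isCartan s a = -a := by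
  obtain ⟨v, i, rfl⟩ := ha
  refine ⟨v * cs.simple i * v⁻¹, ?_⟩
  rw [map_mul, map_mul, Module.End.mul_apply, Module.End.mul_apply, rep_inv_apply, rep_simple]
  have h1 : refl (cartanOf D l) i (sr i) = -(sr i : Fin l → ℤ) := refl_single_self hp.isCartan i 1
  rw [h1, map_neg]

variable {p e : ℕ} [Fact p.Prime] [CharP k p] {σ : MulAut ↥(D.group k)} {g : (Fin l → ℤ) ≃+ (Fin l → ℤ)}
  {X : Type v} [Group X] {e0 : X →* ↥(D.group k)} {d : ℕ} (S : Setup hp cs p e σ g e0 d)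

theorem CommIn.exists_of {Y : Type u} [Group Y] {X : Type v} [Group X] {σ : MulAut Y} {e0 : X →* Y}
    (hcm : CommIn σ e0) {n z a b : Y} (hz : n = z⁻¹ * σ z) (ha : n * σ a * n⁻¹ = a) (hb : n * σ b * n⁻¹ = b) :
    ∃ x : X, z⁻¹ * e0 x * z = a * b * a⁻¹ * b⁻¹ := by
  have key : ∀ t, n * σ t * n⁻¹ = t → σ (z * t * z⁻¹) = z * t * z⁻¹ := by
    intro t ht
    have h2 : σ z = z * n := by rw [hz]; group
    rw [map_mul, map_mul, map_inv, h2]
    calc z * n * σ t * (z * n)⁻¹ = z * (n * σ t * n⁻¹) * z⁻¹ := by group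
      _ = z * t * z⁻¹ := by rw [ht]
  obtain ⟨x, hx⟩ := hcm _ _ (key a ha) (key b hb)
  refine ⟨x, ?_⟩
  rw [hx]
  group

include S

/-- **The roots are nontrivial on the elements of order `r` of `X` in the torus.** -/
theorem Setup.root_comm [IsAlgClosed k] [Finite W] (hcm : CommIn σ e0) {r : ℕ} (hrp : r.Prime) (hrc : r ≠ p)
    (hr2 : r ≠ 2) {hN : NSys M (TT D k) (nc hp k)} {w : W} {n z : ↥(D.group k)} (hn : Rp cs hN w n)
    (hz : n = z⁻¹ * σ z) {m : ℕ} (hm : 0 < m) (hθ : ∀ x, (theta hp cs w g)^[m] x = x)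
    (hq : (r : ℤ) ∣ ((p ^ e : ℕ) : ℤ) ^ m - 1)
    (hroot : ∀ a, IsRoot cs hp.isCartan a → ∃ L : (Fin l → ℤ) →+ ℤ, ¬ (r : ℤ) ∣ Lq L (theta hp cs w g) (p ^ e) m a)
    (hcw : ∀ (v : W) (x), rep cs hp.isCartan v (theta hp cs w g x) = theta hp cs w g (rep cs hp.isCartan v x))
    {a : Fin l → ℤ} (ha : IsRoot cs hp.isCartan a) : ∃ x ∈ tXr hp S.inj z r, cX hp (z⁻¹ * e0 x * z) a ≠ 1 := by
  have hrk : (r : k) ≠ 0 := by
    rw [Ne, CharP.cast_eq_zero_iff k p]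
    intro h
    exact hrc ((Nat.prime_dvd_prime_iff_eq (Fact.out : p.Prime) hrp).1 h).symm
  obtain ⟨B, d', hd', hB⟩ := S.inv
  obtain ⟨L, hL⟩ := hroot a ha
  obtain ⟨t, ht, h1, h2, h3⟩ := exists_torsion hp hB hd' hθ hrk hq L hL
  have hFt := (tau_iff hp cs S.lf S.frob S.fr hn ht).2 h1
  obtain ⟨s, hs⟩ := exists_refl hp cs ha
  obtain ⟨y, hy, hFy⟩ := S.exists_norm hp cs hm hθ hn (hcw s)
  obtain ⟨x, hx⟩ := hcm.exists_of hz hFy hFt
  have hyt : y * t * y⁻¹ ∈ TT D k := (Subgroup.mem_normalizer_iff.1 hy.mem_normalizer t).1 ht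
  have hmem : z⁻¹ * e0 x * z ∈ TT D k := by rw [hx]; exact mul_mem hyt (inv_mem ht)
  have hmc := isMC_cX hp ht
  refine ⟨x, ⟨hmem, ?_⟩, ?_⟩
  · apply S.inj
    rw [map_pow, map_one]
    have h4 : e0 x = z * (y * t * y⁻¹ * t⁻¹) * z⁻¹ := by rw [← hx]; group
    have h5 : (y * t * y⁻¹ * t⁻¹) ^ r = 1 := by
      rw [(show Commute (y * t * y⁻¹) t⁻¹ from TT_comm hp _ hyt _ (inv_mem ht)).mul_pow, conj_pow, h2, inv_pow, h2]
      group
    rw [h4, conj_pow, h5]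
    group
  · rw [hx, cX_mul hp hyt (inv_mem ht)]
    have h4 : cX hp (y * t * y⁻¹) a = cX hp t (-a) := by
      have h5 := cX_rp hp cs S.lf p hy ht (-a)
      rwa [map_neg, hs, neg_neg] at h5
    have h6 : cX hp t⁻¹ a = (cX hp t a)⁻¹ := by
      have h7 := cX_mul hp ht (inv_mem ht) a
      rw [mul_inv_cancel, cX_one] at h7
      exact eq_inv_of_mul_eq_one_right h7.symm
    rw [h4, hmc.neg, h6]
    intro h7
    -- `χ(a)^2 = 1`, `χ(a)^r = 1`
    have h8 : cX hp t a ^ 2 = 1 := by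
      have h9 := congrArg Inv.inv h7
      rw [mul_inv, inv_inv, inv_one] at h9
      rw [sq]; exact h9
    have h9 : cX hp t a ^ r = 1 := by rw [← cX_pow hp ht, h2, cX_one]
    have h10 : orderOf (cX hp t a) ∣ 1 := by
      have h11 := Nat.dvd_gcd (orderOf_dvd_of_pow_eq_one h8) (orderOf_dvd_of_pow_eq_one h9)
      rwa [((Nat.coprime_primes Nat.prime_two hrp).2 (Ne.symm hr2) : Nat.gcd 2 r = 1)] at h11
    exact h3 (orderOf_eq_one_iff.1 (Nat.dvd_one.1 h10))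

/-- **`Cond` fails for primes dividing the index.** -/
theorem Setup.not_cond_comm [IsAlgClosed k] [Finite W] [Finite X] (hcm : CommIn σ e0) {π : Set ℕ} {r s' : ℕ}
    (hrp : r.Prime) (hsp : s'.Prime) (hr : r ∈ π) (hs' : s' ∈ π) (hrs : r ≠ s') (hrc : r ≠ p) (hr2 : r ≠ 2)
    (hsX : s' ∣ Nat.card X) {ε Q : ℤ} (hε : ε = 1 ∨ ε = -1) (hQ : Q = ε * (p ^ e : ℕ))
    (hT : HasTor hp cs g ε (1 : W)) (hrQ : (r : ℤ) ∣ Q - 1) {a b : W} {j : ℕ}
    (hsj : (a * b * a⁻¹ * b⁻¹) ^ r ^ j = 1)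
    (hsum : ∀ x, ∑ i ∈ Finset.range (r ^ j), (rep cs hp.isCartan (a * b * a⁻¹ * b⁻¹) ^ i) x = 0) : ¬ Cond π X := by
  have : Fact r.Prime := ⟨hrp⟩
  have : Fact s'.Prime := ⟨hsp⟩
  have hrZ := Nat.prime_iff_prime_int.1 hrp
  have hQr := not_dvd_Q (p := p) (e := e) Fact.out hrp hrc hε hQ
  have hNs := S.nsys hp cs
  obtain ⟨w, hw'⟩ := hT
  obtain ⟨n', hn'⟩ := exists_rp cs hNs w
  obtain ⟨z, hz⟩ := lang_all hp cs S.pos S.frob S.fr 1 n'
  rw [map_one, one_mul] at hz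
  have hw : rep cs hp.isCartan (1 : W) ^ 1 = 1 := by rw [map_one, one_pow]
  have hθ : ∀ x, (theta hp cs w g)^[2 * 1] x = x := fun x => by
    rw [theta_iter hp cs hw', eps_pow_two hε, one_smul, mul_comm, pow_mul, hw, one_pow, Module.End.one_apply]
  have hq : (r : ℤ) ∣ ((p ^ e : ℕ) : ℤ) ^ (2 * 1) - 1 := by
    have h1 : ((p ^ e : ℕ) : ℤ) ^ (2 * 1) = Q ^ (2 * 1) := by rw [hQ, mul_pow, eps_pow_two hε, one_mul]
    rw [h1]
    exact hrQ.trans ⟨Q + 1, by ring⟩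
  have hroot : ∀ a, IsRoot cs hp.isCartan a →
      ∃ L : (Fin l → ℤ) →+ ℤ, ¬ (r : ℤ) ∣ Lq L (theta hp cs w g) (p ^ e) (2 * 1) a := by
    intro a ha
    obtain ⟨i, hi⟩ := exists_coord hp cs ha hrp
    refine ⟨coordF l i, fun h => hi ?_⟩
    rw [Lq_eq hp cs hε hw' hw _ hQ, Finset.sum_range_one, pow_zero, Module.End.one_apply, Nat.sub_zero, pow_one] at h
    rcases hrZ.dvd_mul.1 h with h2 | h2
    · exfalso
      have h3 : (r : ℤ) ∣ 2 := by
        have h4 := dvd_sub h2 hrQ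
        have h5 : Q + 1 - (Q - 1) = 2 := by ring
        rwa [h5] at h4
      have h4 : r ∣ 2 := by exact_mod_cast h3
      exact hr2 ((Nat.prime_dvd_prime_iff_eq hrp Nat.prime_two).1 h4)
    · exact (hrZ.dvd_mul.1 h2).resolve_left hQr
  have hcw : ∀ (v : W) (x), rep cs hp.isCartan v (theta hp cs w g x) = theta hp cs w g (rep cs hp.isCartan v x) := by
    intro v x
    rw [hw', hw', map_zsmul, map_one, Module.End.one_apply, Module.End.one_apply]
  -- a representative of the commutator in `X`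
  obtain ⟨ya, hya, hFa⟩ := S.exists_norm hp cs (by norm_num) hθ hn' (hcw a)
  obtain ⟨yb, hyb, hFb⟩ := S.exists_norm hp cs (by norm_num) hθ hn' (hcw b)
  obtain ⟨x0, hx0⟩ := hcm.exists_of hz hFa hFb
  obtain ⟨sW, hsW⟩ : ∃ sW, sW = a * b * a⁻¹ * b⁻¹ := ⟨_, rfl⟩
  rw [← hsW] at hsj hsum
  have hx0s : Rp cs hNs sW (z⁻¹ * e0 x0 * z) := by
    rw [hx0, hsW]
    exact ((hya.mul hyb).mul hya.inv).mul hyb.inv
  -- its `r`-part
  have hord : 0 < orderOf x0 := orderOf_pos x0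
  obtain ⟨a', b', hb', hab⟩ := Nat.exists_eq_pow_mul_and_not_dvd (n := r ^ j * orderOf x0)
    (mul_ne_zero (pow_ne_zero _ hrp.ne_zero) hord.ne') r hrp.ne_one
  have hja : j ≤ a' := by
    have h4 : r ^ j ∣ r ^ a' * b' := by rw [← hab]; exact dvd_mul_right _ _
    have h5 : r ^ j ∣ r ^ a' :=
      (Nat.Coprime.pow_left _ ((Nat.Prime.coprime_iff_not_dvd hrp).2 hb')).dvd_of_dvd_mul_right h4
    exact (Nat.pow_dvd_pow_iff_le_right hrp.one_lt).1 h5
  have hbc : ∃ c : ℕ, (b' * c) ≡ 1 [MOD r ^ a'] := by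
    have hco : Nat.Coprime b' (r ^ a') := (Nat.Coprime.pow_left _ ((Nat.Prime.coprime_iff_not_dvd hrp).2 hb')).symm
    rcases Nat.lt_or_ge 1 (r ^ a') with h7 | h7
    · obtain ⟨c, -, hc⟩ := Nat.exists_mul_mod_eq_one_of_coprime hco h7
      exact ⟨c, by rw [Nat.ModEq, hc, Nat.mod_eq_of_lt h7]⟩
    · have h8 : r ^ a' = 1 := le_antisymm h7 (Nat.one_le_iff_ne_zero.2 (pow_ne_zero _ hrp.ne_zero))
      exact ⟨1, by rw [h8]; exact Nat.modEq_one⟩
  obtain ⟨c, hc⟩ := hbc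
  obtain ⟨x, hxd⟩ : ∃ x, x = x0 ^ (b' * c) := ⟨_, rfl⟩
  have hx : ∃ a, x ^ r ^ a = 1 := by
    refine ⟨a', ?_⟩
    rw [hxd, ← pow_mul]
    have h7 : b' * c * r ^ a' = orderOf x0 * (r ^ j * c) := by
      have : b' * c * r ^ a' = (r ^ a' * b') * c := by ring
      rw [this, ← hab]; ring
    rw [h7, pow_mul, pow_orderOf_eq_one, one_pow]
  have hxs : Rp cs hNs sW (z⁻¹ * e0 x * z) := by
    have h7 := rp_pow hp cs hx0s (b' * c)
    rw [S.conj_pow_eq hp cs, ← hxd] at h7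
    have h8 : sW ^ (b' * c) = sW := by
      have h9 : (b' * c) ≡ 1 [MOD r ^ j] := hc.of_dvd (pow_dvd_pow r hja)
      have h10 : (b' * c) ≡ 1 [MOD orderOf sW] := h9.of_dvd (orderOf_dvd_of_pow_eq_one hsj)
      have h11 := pow_eq_pow_iff_modEq.2 h10
      rwa [pow_one] at h11
    rwa [h8] at h7
  refine not_cond_of_centralizer hr hs' hrs hsX _ (isPGroup_E hp cs S.inj hx hxs) ?_
  intro y hy hyc
  have hcs : (z⁻¹ * e0 y * z) ^ s' = 1 := by
    rw [S.conj_pow_eq hp cs, ← hy, pow_orderOf_eq_one, map_one]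
    group
  have hyT : z⁻¹ * e0 y * z ∈ TT D k := by
    refine mem_TT_of_pow hp cs S.lf p hNs (A := (fun x : X => z⁻¹ * e0 x * z) '' (tXr hp S.inj z r : Set X))
      ((Set.toFinite _).image _) ?_ ?_ (r := r) ?_ hsp.pos ((Nat.coprime_primes hsp hrp).2 (Ne.symm hrs)) ?_ hcs
    · rintro _ ⟨x, hx, rfl⟩
      exact hx.1
    · intro a ha
      obtain ⟨x, hx, h1⟩ := S.root_comm hp cs hcm hrp hrc hr2 hn' hz (by norm_num) hθ hq hroot hcw ha
      exact ⟨_, ⟨x, hx, rfl⟩, h1⟩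
    · rintro _ ⟨x, hx, rfl⟩
      show (z⁻¹ * e0 x * z) ^ r = 1
      rw [S.conj_pow_eq hp cs, hx.2, map_one]
      group
    · rintro _ ⟨x, hx, rfl⟩
      have h2 := hyc x (Subgroup.mem_sup_right hx)
      calc z⁻¹ * e0 y * z * (z⁻¹ * e0 x * z) = z⁻¹ * (e0 (y * x)) * z := by rw [map_mul]; group
        _ = z⁻¹ * (e0 (x * y)) * z := by rw [h2]
        _ = _ := by rw [map_mul]; group
  have hfix : ∀ v, cX hp (z⁻¹ * e0 y * z) (rep cs hp.isCartan sW v) = cX hp (z⁻¹ * e0 y * z) v := by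
    refine fix_of_rp hp cs S.lf p hxs hyT ?_
    have h2 := hyc x (Subgroup.mem_sup_left (Subgroup.mem_zpowers x))
    calc z⁻¹ * e0 x * z * (z⁻¹ * e0 y * z) = z⁻¹ * (e0 (x * y)) * z := by rw [map_mul]; group
      _ = z⁻¹ * (e0 (y * x)) * z := by rw [h2]
      _ = _ := by rw [map_mul]; group
  have hmc := isMC_cX hp hyT
  have h1 : z⁻¹ * e0 y * z = 1 := by
    refine cX_inj hp hyT (one_mem _) fun i => ?_
    rw [cX_one]
    obtain ⟨v, hv⟩ : ∃ v : Fin l → ℤ, v = sr i := ⟨_, rfl⟩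
    rw [← hv]
    have h2 : ∀ i, cX hp (z⁻¹ * e0 y * z) ((rep cs hp.isCartan sW ^ i) v) = cX hp (z⁻¹ * e0 y * z) v := by
      intro i
      induction i with
      | zero => rw [pow_zero, Module.End.one_apply]
      | succ i ih => rw [pow_succ', Module.End.mul_apply, hfix, ih]
    have h3 : cX hp (z⁻¹ * e0 y * z) v ^ r ^ j = 1 := by
      have h4 := hmc.sum (Finset.range (r ^ j)) (fun i => (rep cs hp.isCartan sW ^ i) v)
      rw [hsum, hmc.zero, Finset.prod_congr rfl (fun i _ => h2 i), Finset.prod_const, Finset.card_range] at h4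
      exact h4.symm
    have h5 : cX hp (z⁻¹ * e0 y * z) v ^ s' = 1 := by
      rw [← cX_pow hp hyT, hcs, cX_one]
    have h10 : orderOf (cX hp (z⁻¹ * e0 y * z) v) ∣ 1 := by
      have h11 := Nat.dvd_gcd (orderOf_dvd_of_pow_eq_one h3) (orderOf_dvd_of_pow_eq_one h5)
      rwa [(Nat.Coprime.pow_left j ((Nat.coprime_primes hrp hsp).2 hrs) : Nat.gcd (r ^ j) s' = 1)] at h11
    exact orderOf_eq_one_iff.1 (Nat.dvd_one.1 h10)
  have h4 : e0 y = 1 := by
    have : e0 y = z * (z⁻¹ * e0 y * z) * z⁻¹ := by group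
    rw [this, h1]; group
  have h5 : y = 1 := S.inj (by rw [h4, map_one])
  rw [h5, orderOf_one] at hy
  exact hsp.one_lt.ne hy

end Cfsg.Agent.H630.Exc
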