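import Cfsg.Agent.H630.ExcRowsA
import Cfsg.Agent.H630.ExcI
import Cfsg.Agent.H129.TwE6Idx
import Cfsg.Agent.S1063
import Cfsg.Agent.S1066

/-!
# The rows of `E₆` and `²E₆` in cross characteristic (helper630)
-/

set_option autoImplicit false
set_option linter.unusedSectionVars false
set_option linter.unusedVariables false

namespace Cfsg.Agent.H630.Exc

open CoxeterSystem Cfsg Cfsg.Lie Cfsg.Lie.ChevalleyDatum
open Cfsg.Agent.ChevalleyStructure Cfsg.Agent.ChevalleyStructure.Elts Cfsg.Agent.ChevalleyStructure.CoxeterGeom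
  Cfsg.Agent.ChevalleyStructure.CoxeterGeomTypes Cfsg.Agent.ChevalleyStructure.NPerm
open Cfsg.Agent.Tits.Roots Cfsg.Agent.Tits.Core Cfsg.Agent.Nodes Cfsg.Agent.Nodes.Reps Cfsg.Agent.Nodes.BNOf
  Cfsg.Agent.Nodes.RGDChev Cfsg.Agent.Nodes.Bruhat Cfsg.Agent.Nodes.SubComb Cfsg.Agent.Nodes.Coroot
open Cfsg.Agent.KFacts.RgdField Cfsg.Agent.KFacts.RgdChevCoord Cfsg.Agent.BpExc.TorCent Cfsg.Agent.BpExc.TorChev
open Cfsg.Agent.GpExc.Field Cfsg.Agent.BpExc.Tow Cfsg.Agent.BpExc.TowChev Cfsg.Agent.BpExc.Fr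
  Cfsg.Agent.BpExc.LangFr Cfsg.Agent.LangThm Cfsg.Agent.BpExc Cfsg.Agent.H129.TorusChar Cfsg.Agent.H129.TorusMain
open Cfsg.Agent.H129.TwE6Fr (tau isFrob_tau fr_tau embT embT_injective tau_embT tau_split tau_normal tau_pow flip6
  flip6_apply flip_sr')
open Cfsg.Agent.H630.NH Cfsg.Agent.H130.WeylCk Cfsg.Agent.H130.PolyL Cfsg.Agent.H130.WeylTab

universe u v

/-! ### commutators of fixed points -/

theorem commIn_of {Y : Type u} [Group Y] {X : Type v} [Group X] {σ : MulAut Y} {e0 : X →* Y} (T : Subgroup Y)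
    (hT : ∀ s ∈ T, ∀ t ∈ T, s * t = t * s) (hfix : ∀ x, σ (e0 x) = e0 x)
    (hsplit : ∀ y, σ y = y → ∃ x : X, ∃ t ∈ T, y = e0 x * t)
    (hnorm : ∀ y, σ y = y → ∀ a ∈ e0.range, y * a * y⁻¹ ∈ e0.range) : CommIn σ e0 := by
  intro a b ha hb
  obtain ⟨x, s, hs, rfl⟩ := hsplit a ha
  obtain ⟨y, t, ht, rfl⟩ := hsplit b hb
  have hσs : σ s = s := by rw [map_mul, hfix] at ha; exact mul_left_cancel ha
  have hσt : σ t = t := by rw [map_mul, hfix] at hb; exact mul_left_cancel hb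
  have e1 : e0 x * s * (e0 y * t) * (e0 x * s)⁻¹ * (e0 y * t)⁻¹ =
      e0 x * (s * e0 y * s⁻¹) * (t * (e0 x)⁻¹ * t⁻¹) * (e0 y)⁻¹ := by
    have h1 : s * t * s⁻¹ * (e0 x)⁻¹ * t⁻¹ = t * (e0 x)⁻¹ * t⁻¹ := by rw [hT s hs t ht]; group
    calc e0 x * s * (e0 y * t) * (e0 x * s)⁻¹ * (e0 y * t)⁻¹ =
        e0 x * (s * e0 y * s⁻¹) * (s * t * s⁻¹ * (e0 x)⁻¹ * t⁻¹) * (e0 y)⁻¹ := by group
      _ = _ := by rw [h1]
  rw [e1]
  exact mul_mem (mul_mem (mul_mem ⟨x, rfl⟩ (hnorm s hσs _ ⟨y, rfl⟩)) (hnorm t hσt _ (inv_mem ⟨x, rfl⟩)))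
    (inv_mem ⟨y, rfl⟩)

/-! ### the tables -/

theorem e6T : IsType chevE6 6 CoxeterMatrix.E₆ := by simp [IsType, typeList]

theorem sum_E6_comm : SumCk 6 alE6 ([4, 0, 5, 1, 4, 0, 2] ++ [3, 0, 1, 3, 2, 4, 0, 3] ++
    ([4, 0, 5, 1, 4, 0, 2] : List (Fin 6)).reverse ++ ([3, 0, 1, 3, 2, 4, 0, 3] : List (Fin 6)).reverse) 1 3
    [[-1, 0, -1, -1, 0, 0], [-1, -1, -1, -1, -1, 0], [1, 1, 1, 2, 1, 1], [0, -1, -1, -2, -1, -1], [0, 1, 1, 1, 0, 0],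
      [0, 0, 0, 1, 1, 0]] := by
  decide +kernel

theorem neg_E6 : ∀ i : Fin 6, acn alE6 ([0, 3, 5, 1, 2, 4] : List (Fin 6)) 6 (bas 6 i) =
    ([[0, 0, 0, 0, 0, -1], [0, -1, 0, 0, 0, 0], [0, 0, 0, 0, -1, 0], [0, 0, 0, -1, 0, 0], [0, 0, -1, 0, 0, 0],
      [-1, 0, 0, 0, 0, 0]] : List (List ℤ)).getD i [] := by
  decide +kernel

theorem key_E6 : ∀ i ∈ [2, 5, 6, 8, 9, 12], ∀ r < 13, ∀ n < 13,
    (r ∣ i ∧ r.Prime ∧ r ≠ 2 ∧ n ∣ i ∧ n ∣ r - 1) → (r = 3 ∧ n = 1) ∨ (r = 3 ∧ n = 2) ∨ (r = 5 ∧ n = 1) := by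
  decide +kernel

theorem lt_E6 : ∀ i ∈ [2, 5, 6, 8, 9, 12], 0 < i ∧ i < 13 := by decide

theorem idx_E6 : ∀ n ∈ [1, 2, 3, 4, 5, 6, 8, 9, 12], 0 < n ∧ n ∈ H130.PolyL.idx := by decide

section Gen

variable {W : Type*} [Group W] (cs : CoxeterSystem CoxeterMatrix.E₆ W)

/-- `-1` and the graph automorphism -/
theorem hasTor_tw (w1 : W) : HasTor e6T cs flip6 (-1) w1 := by
  obtain ⟨w0, hw0⟩ : ∃ w0, w0 = cs.wordProd ([0, 3, 5, 1, 2, 4] : List (Fin 6)) ^ 6 := ⟨_, rfl⟩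
  have h1 : ∀ x, rep cs e6T.isCartan w0 x = -flip6 x := by
    have h2 : rep cs e6T.isCartan w0 = -(flip6.toAddMonoidHom.toIntLinearMap) := by
      apply LinearMap.pi_ext'
      intro i
      apply LinearMap.ext_ring
      show rep cs e6T.isCartan w0 (Pi.single i 1) = -flip6 (Pi.single i 1)
      rw [hw0, rep_single e6T cs lists_E6 _ 6 neg_E6]
      have h3 : ∀ i : Fin 6, toFn 6 (([[0, 0, 0, 0, 0, -1], [0, -1, 0, 0, 0, 0], [0, 0, 0, 0, -1, 0],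
          [0, 0, 0, -1, 0, 0], [0, 0, -1, 0, 0, 0], [-1, 0, 0, 0, 0, 0]] : List (List ℤ)).getD i []) =
          -![(Pi.single i 1 : Fin 6 → ℤ) 5, (Pi.single i 1 : Fin 6 → ℤ) 1, (Pi.single i 1 : Fin 6 → ℤ) 4,
            (Pi.single i 1 : Fin 6 → ℤ) 3, (Pi.single i 1 : Fin 6 → ℤ) 2, (Pi.single i 1 : Fin 6 → ℤ) 0] := by
        decide +kernel
      exact h3 i
    intro x
    rw [h2]
    rfl
  refine ⟨w1 * w0, fun x => ?_⟩
  show rep cs e6T.isCartan (w1 * w0) (flip6 x) = _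
  rw [map_mul, Module.End.mul_apply, h1, H129.TwE6Fr.flip_flip, map_neg, neg_smul, one_smul]

variable {k' : Type u} [Field k'] {p e : ℕ} [hpF : Fact p.Prime] [CharP k' p] {σ : MulAut ↥(chevE6.group k')}
  {g : (Fin 6 → ℤ) ≃+ (Fin 6 → ℤ)} {X : Type v} [Group X] {e0 : X →* ↥(chevE6.group k')} {d : ℕ}
  (S : Setup e6T cs p e σ g e0 d)

include S

theorem reg_E6 [IsAlgClosed k'] [Finite W] [Finite X] {ε Q : ℤ} (hε : ε = 1 ∨ ε = -1) (hQ : Q = ε * (p ^ e : ℕ))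
    (hT : ∀ w1, HasTor e6T cs g ε w1) : ∀ n ∈ [1, 2, 3, 4, 6], RegE X p d Q n := by
  intro n hn
  simp only [List.mem_cons, List.not_mem_nil, or_false] at hn
  rcases hn with rfl | rfl | rfl | rfl | rfl
  · exact S.regE_one e6T cs hε hQ hT
  · exact S.regE_ck e6T cs hε hQ hT lists_E6 reg_E6_2 (by decide) (by decide) (by decide +kernel)
  · exact S.regE_ck e6T cs hε hQ hT lists_E6 reg_E6_3 (by decide) (by decide) (by decide +kernel)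
  · exact S.regE_ck e6T cs hε hQ hT lists_E6 reg_E6_4 (by decide) (by decide) (by decide +kernel)
  · exact S.regE_ck e6T cs hε hQ hT lists_E6 reg_E6_6 (by decide) (by decide) (by decide +kernel)

theorem bad_E6_three [IsAlgClosed k'] [Finite W] [Finite X] {ε Q : ℤ} (hε : ε = 1 ∨ ε = -1)
    (hQ : Q = ε * (p ^ e : ℕ)) (hT : ∀ w1, HasTor e6T cs g ε w1) {π : Set ℕ} {s : ℕ}
    (hr : (3 : ℕ).Prime) (hs : s.Prime) (hrπ : 3 ∈ π) (hsπ : s ∈ π) (hrs : 3 ≠ s) (hrp : 3 ≠ p)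
    (hrd : ¬ 3 ∣ d) (hsX : s ∣ Nat.card X) (hn : orderOf (Q : ZMod 3) = 2) : ¬ Cond π X := by
  have hQr := not_dvd_Q (p := p) (e := e) Fact.out hr hrp hε hQ
  have hreg := regAt_of_ck' e6T cs lists_E6 reg_E6_2 (by decide) (by decide) (by decide +kernel) hr (by norm_num) hQr hn
  have hw := rep_pow_eq_one e6T cs lists_E6 _ 6 2 reg_E6_2.2.2.1
  exact S.not_cond_sum_ck e6T cs hr hs hrπ hsπ hrs hrp hrd (by norm_num) hsX hε hQ (hT _)
    (by norm_num) hw ((dvd_pow_sub_one_iff 2).2 (by rw [hn])) hreg lists_E6 (j := 1) sum_E6_three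

theorem bad_E6_five [IsAlgClosed k'] [Finite W] [Finite X] {ε Q : ℤ} (hε : ε = 1 ∨ ε = -1)
    (hQ : Q = ε * (p ^ e : ℕ)) (hT : ∀ w1, HasTor e6T cs g ε w1) {π : Set ℕ} {s : ℕ}
    (hr : (5 : ℕ).Prime) (hs : s.Prime) (hrπ : 5 ∈ π) (hsπ : s ∈ π) (hrs : 5 ≠ s) (hrp : 5 ≠ p) (hsp : s ≠ p)
    (hrd : ¬ 5 ∣ d) (hsd : ¬ s ∣ d) (hs2 : s ≠ 2) (hs3 : s ≠ 3) (hsX : s ∣ Nat.card X)
    (hn : orderOf (Q : ZMod 5) = 1) (hns : orderOf (Q : ZMod s) = 1) : ¬ Cond π X := by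
  have h5 := (dvd_pow_sub_one_iff (r := 5) (Q := Q) 1).2 (by rw [hn])
  have h6 := (dvd_pow_sub_one_iff (r := s) (Q := Q) 1).2 (by rw [hns])
  rw [pow_one] at h5 h6
  refine S.not_cond_count_ck e6T cs hr hs hrπ hsπ hrs hrp hsp hrd hsd (by norm_num) hs2 hε hQ (hT _) h5 h6 lists_E6
    (j := 1) count_E6_five ?_
  by_contra hcon
  have h7 := hs.two_le
  omega

theorem not_cond_E6_d [IsAlgClosed k'] [Finite W] [Finite X] (hcm : CommIn σ e0) {ε Q : ℤ} (hε : ε = 1 ∨ ε = -1)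
    (hQ : Q = ε * (p ^ e : ℕ)) (hT : ∀ w1, HasTor e6T cs g ε w1) {π : Set ℕ} {s : ℕ}
    (hr : (3 : ℕ).Prime) (hs : s.Prime) (hrπ : 3 ∈ π) (hsπ : s ∈ π) (hrs : 3 ≠ s) (hrp : 3 ≠ p)
    (hsX : s ∣ Nat.card X) (h3 : (3 : ℤ) ∣ Q - 1) : ¬ Cond π X := by
  have h1 : cs.wordProd ([4, 0, 5, 1, 4, 0, 2] ++ [3, 0, 1, 3, 2, 4, 0, 3] ++
      ([4, 0, 5, 1, 4, 0, 2] : List (Fin 6)).reverse ++ ([3, 0, 1, 3, 2, 4, 0, 3] : List (Fin 6)).reverse) =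
      cs.wordProd [4, 0, 5, 1, 4, 0, 2] * cs.wordProd [3, 0, 1, 3, 2, 4, 0, 3] * (cs.wordProd [4, 0, 5, 1, 4, 0, 2])⁻¹ *
        (cs.wordProd [3, 0, 1, 3, 2, 4, 0, 3])⁻¹ := by
    rw [wordProd_append, wordProd_append, wordProd_append, wordProd_reverse, wordProd_reverse]
  have h2 := rep_pow_eq_one e6T cs lists_E6 _ 1 3 sum_E6_comm.2.2.1
  have h4 := sum_of_ck e6T cs lists_E6 sum_E6_comm
  rw [pow_one, h1] at h2
  simp only [pow_one] at h4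
  rw [h1] at h4
  refine S.not_cond_comm e6T cs hcm hr hs hrπ hsπ hrs hrp (by norm_num) hsX hε hQ (hT 1) h3
    (a := cs.wordProd [4, 0, 5, 1, 4, 0, 2]) (b := cs.wordProd [3, 0, 1, 3, 2, 4, 0, 3]) (j := 1) ?_ ?_
  · apply rep_injective cs e6T.isCartan
    rw [map_pow, pow_one, h2, map_one]
  · exact h4

theorem bad_E6 [IsAlgClosed k'] [Finite W] [Finite X] {ε Q : ℤ} (hε : ε = 1 ∨ ε = -1)
    (hQ : Q = ε * (p ^ e : ℕ)) (hT : ∀ w1, HasTor e6T cs g ε w1) (h3d : (3 : ℤ) ∣ Q - 1 → 3 ∣ d) (π : Set ℕ) (r s : ℕ)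
    (hr : r.Prime) (hs : s.Prime) (hrπ : r ∈ π) (hsπ : s ∈ π) (hrs : r ≠ s) (hr2 : r ≠ 2) (hs2 : s ≠ 2)
    (hrp : r ≠ p) (hsp : s ≠ p) (hrd : ¬ r ∣ d) (hsd : ¬ s ∣ d) (hrX : r ∣ Nat.card X) (hsX : s ∣ Nat.card X)
    (hsame : orderOf (Q : ZMod r) = orderOf (Q : ZMod s))
    (hbad : ∃ i ∈ [2, 5, 6, 8, 9, 12], orderOf (Q : ZMod r) ∣ i ∧ r ∣ i) : ¬ Cond π X := by
  obtain ⟨i, hi, hni, hri⟩ := hbad
  have hQr := not_dvd_Q (p := p) (e := e) Fact.out hr hrp hε hQ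
  have hn1 := ord_dvd hr hQr
  have hi30 := lt_E6 i hi
  have hr31 := lt_of_le_of_lt (Nat.le_of_dvd hi30.1 hri) hi30.2
  have hn31 := lt_of_le_of_lt (Nat.le_of_dvd hi30.1 hni) hi30.2
  have h3 : ∀ s : ℕ, ¬ s ∣ d → orderOf (Q : ZMod s) = 1 → s ≠ 3 := by
    rintro s hsd hs1 rfl
    have h6 := (dvd_pow_sub_one_iff (r := 3) (Q := Q) 1).2 (by rw [hs1])
    rw [pow_one] at h6
    exact hsd (h3d h6)
  rcases key_E6 i hi r hr31 _ hn31 ⟨hri, hr, hr2, hni, hn1⟩ with ⟨hr', hn⟩ | ⟨hr', hn⟩ | ⟨hr', hn⟩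
  · exact absurd hr' (h3 r hrd hn)
  · subst hr'
    exact bad_E6_three cs S hε hQ hT hr hs hrπ hsπ hrs hrp hrd hsX hn
  · subst hr'
    exact bad_E6_five cs S hε hQ hT hr hs hrπ hsπ hrs hrp hsp hrd hsd hs2 (h3 s hsd (by rw [← hsame, hn])) hsX hn
      (by rw [← hsame, hn])

/-- **Types `E₆`, `²E₆`.** -/
theorem crossRow_E6_gen [IsAlgClosed k'] [Finite W] [Finite X] (hka : BpExc.TorAll.HAlg p k') (hcm : CommIn σ e0)
    {ε Q : ℤ} (hε : ε = 1 ∨ ε = -1) (hQ : Q = ε * (p ^ e : ℕ)) (hT : ∀ w1, HasTor e6T cs g ε w1)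
    (h3d : (3 : ℤ) ∣ Q - 1 ↔ 3 ∣ d) (hd3 : d ∣ 3) {g' : ℕ}
    (hcard : g' * Nat.card X = (p ^ e) ^ 36 * (([2, 5, 6, 8, 9, 12].map (fun i => Q ^ i - 1)).prod).natAbs) :
    CrossRow p X := by
  refine S.crossRow_of e6T cs hka hε hQ (degs := [2, 5, 6, 8, 9, 12])
    (es := [1, 2, 3, 4, 5, 6, 8, 9, 12]) (by decide +kernel) hcard
    (H := [1, 2, 3, 4, 6]) (reg_E6 cs S hε hQ hT) (Sp := fun _ _ => False) (by decide +kernel) ?_ ?_
    (bad_E6 cs S hε hQ hT h3d.1) ?_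
  · rintro π r s - - - - - - - - - - - - - h
    exact h.elim
  · intro π r s hr hs hrπ hsπ hrs _ _ hrp _ hd hrX hsX
    have h1 : r ∣ 3 := hd.trans hd3
    obtain rfl := (Nat.prime_dvd_prime_iff_eq hr Nat.prime_three).1 h1
    exact not_cond_E6_d cs S hcm hε hQ hT hr hs hrπ hsπ hrs hrp hsX (h3d.2 hd)
  · intro n hn π hπ _
    exact S.pos_of_hasF e6T cs hε lists_E6 hT hQ (idx_E6 n hn).1 (idx_E6 n hn).2 (hasF_E6 n hn)
      hcard hπ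

end Gen

/-- **Type `E₆`.** -/
theorem crossRow_E6 (r : ℕ) [Fact r.Prime] (F : Type u) [Field F] [Fintype F] [CharP F r] :
    CrossRow r ↥(chevE6.group F) := by
  obtain ⟨k, _, _, f, p, hpp, hkp, e, hk, hka, he0, hcF⟩ := H378.TorFin.exists_closure F
  have hkr : CharP k r := charP_of_injective_ringHom f.injective r
  obtain rfl : r = p := CharP.eq k hkr hkp
  have cs := CoxeterMatrix.E₆.toCoxeterSystem
  have hW := finite_W e6T cs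
  have hcF' : Fintype.card F = r ^ e := by rw [← Nat.card_eq_fintype_card, hcF]
  have S := setup_untw e6T cs hk f he0 hcF' invC_E6 three_ne_zero
  have h1 : (1 : ℤ) = 1 ∨ (1 : ℤ) = -1 := Or.inl rfl
  have hQ : ((r ^ e : ℕ) : ℤ) = 1 * (r ^ e : ℕ) := (one_mul _).symm
  have hpos : 0 < r ^ e := pow_pos hpp.out.pos _
  have hcard : Nat.gcd 3 (r ^ e - 1) * Nat.card ↥(chevE6.group F) = (r ^ e) ^ 36 *
      (([2, 5, 6, 8, 9, 12].map (fun i => ((r ^ e : ℕ) : ℤ) ^ i - 1)).prod).natAbs := by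
    rw [natAbs_prod _ hpos, S1063.result hcF']
    simp only [List.map_cons, List.map_nil, List.prod_cons, List.prod_nil, mul_one]
    ring
  refine crossRow_E6_gen cs S hka ?_ h1 hQ (hasTor_one e6T cs) ?_ (Nat.gcd_dvd_left _ _) hcard
  · refine commIn_of (TT chevE6 k) (TT_comm e6T) S.fix (fun y hy => ?_) (fun y hy a ha => ?_)
    · obtain ⟨x, t, ht, e1⟩ := H129.TorusUntw.fix_split e6T f hcF' hy
      exact ⟨x, t, ht, e1⟩
    · exact H378.TorFin.conj_range e6T f r hcF (by rw [phi_eq_phi, hy]) ha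
  · rw [hcF]
    have e1 : ((r ^ e : ℕ) : ℤ) - 1 = ((r ^ e - 1 : ℕ) : ℤ) := by
      rw [Nat.cast_sub hpos]; rfl
    rw [e1]
    constructor
    · intro h
      exact Nat.dvd_gcd dvd_rfl (by exact_mod_cast h)
    · intro h
      exact_mod_cast h.trans (Nat.gcd_dvd_right _ _)

/-- the setup of `²E₆(q)` -/
theorem setup_twE6 {W : Type*} [Group W] (cs : CoxeterSystem CoxeterMatrix.E₆ W) {k : Type u} [Field k]
    [IsAlgClosed k] {p e : ℕ} [Fact p.Prime] [CharP k p] (hk : LocFin k) {F : Type u} [Field F] [Fintype F]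
    (f : F →+* k) {q : ℕ} (he0 : 0 < e) (hqe : q = p ^ e) (hq : IsPrimePow q) (hF : Fintype.card F = q ^ 2) :
    Setup e6T cs p e (tau k p e) flip6 (embT f hq hF) (Nat.gcd 3 (q + 1)) where
  lf := hk
  pos := he0
  frob := isFrob_tau
  fr := fr_tau cs
  inv := ⟨_, 3, three_ne_zero, invC_E6⟩
  inj := embT_injective f hq hF
  fix := tau_embT f hqe hq hF
  range := by
    intro r hr hrd y hy hyr
    obtain ⟨m, hm⟩ := hyr
    exact H378.RootTor.mem_of_pow_mem hm (tau_pow f hqe hq hF hy)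
      (Nat.Coprime.pow_left m ((Nat.Prime.coprime_iff_not_dvd hr).2 hrd))

/-- **Type `²E₆`.** -/
theorem crossRow_twE6 (r : ℕ) [Fact r.Prime] (F : Type u) [Field F] [Fintype F] [CharP F r] {q : ℕ}
    (hq : IsPrimePow q) (hF : Fintype.card F = q ^ 2) : CrossRow r ↥(twistedE6 F q) := by
  obtain ⟨k, _, _, f, p, hpp, hkp, e', hk, hka, he0', hcF⟩ := H378.TorFin.exists_closure F
  have hkr : CharP k r := charP_of_injective_ringHom f.injective r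
  obtain rfl : r = p := CharP.eq k hkr hkp
  obtain ⟨e, he0, hqe⟩ : ∃ e, 0 < e ∧ q = r ^ e := by
    obtain ⟨r', e, hr', he, rfl⟩ := hq
    have h1 : r' ∣ r ^ e' := by
      rw [← hcF, Nat.card_eq_fintype_card, hF]
      exact (dvd_pow_self r' he.ne').trans (dvd_pow_self _ two_ne_zero)
    have h2 : r' = r := (Nat.prime_dvd_prime_iff_eq hr'.nat_prime hpp.out).1 (hr'.nat_prime.dvd_of_dvd_pow h1)
    exact ⟨e, he, by rw [h2]⟩
  have cs := CoxeterMatrix.E₆.toCoxeterSystem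
  have hW := finite_W e6T cs
  have S := setup_twE6 cs hk f he0 hqe hq hF
  have h1 : (-1 : ℤ) = 1 ∨ (-1 : ℤ) = -1 := Or.inr rfl
  have hQ : (-(q : ℤ)) = -1 * (r ^ e : ℕ) := by rw [hqe]; ring
  have hpos : 0 < q := hq.pos
  have hcard : Nat.gcd 3 (q + 1) * Nat.card ↥(twistedE6 F q) = (r ^ e) ^ 36 *
      (([2, 5, 6, 8, 9, 12].map (fun i => (-(q : ℤ)) ^ i - 1)).prod).natAbs := by
    rw [S1066.result hq hF, ← hqe]
    have ev : ∀ i : ℕ, Even i → ((-(q : ℤ)) ^ i - 1).natAbs = q ^ i - 1 := by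
      intro i hi
      rw [hi.neg_pow]
      have h1 : 1 ≤ q ^ i := Nat.one_le_pow _ _ hpos
      have h2 : ((q : ℕ) : ℤ) ^ i - 1 = ((q ^ i - 1 : ℕ) : ℤ) := by push_cast [Nat.cast_sub h1]; ring
      rw [h2, Int.natAbs_natCast]
    have od : ∀ i : ℕ, Odd i → ((-(q : ℤ)) ^ i - 1).natAbs = q ^ i + 1 := by
      intro i hi
      rw [hi.neg_pow]
      have h2 : -((q : ℕ) : ℤ) ^ i - 1 = -((q ^ i + 1 : ℕ) : ℤ) := by push_cast; ring
      rw [h2, Int.natAbs_neg, Int.natAbs_natCast]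
    simp only [List.map_cons, List.map_nil, List.prod_cons, List.prod_nil, mul_one, Int.natAbs_mul]
    rw [ev 2 (by decide), od 5 (by decide), ev 6 (by decide), ev 8 (by decide), od 9 (by decide), ev 12 (by decide)]
    ring
  refine crossRow_E6_gen cs S hka ?_ h1 hQ (hasTor_tw cs) ?_ (Nat.gcd_dvd_left _ _) hcard
  · refine commIn_of (TT chevE6 k) (TT_comm e6T) S.fix (fun y hy => ?_) (fun y hy a ha => ?_)
    · obtain ⟨x, t, ht, -, e1⟩ := tau_split f hqe hq hF hy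
      exact ⟨x, t, ht, e1⟩
    · exact tau_normal f hqe hq hF hy ha
  · have e1 : (-(q : ℤ)) - 1 = -((q + 1 : ℕ) : ℤ) := by push_cast; ring
    rw [e1, dvd_neg]
    constructor
    · intro h
      exact Nat.dvd_gcd dvd_rfl (by exact_mod_cast h)
    · intro h
      exact_mod_cast h.trans (Nat.gcd_dvd_right _ _)

end Cfsg.Agent.H630.Exc
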