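import Cfsg.Agent.H630.ExcE

/-!
# Tables for the exceptional groups (helper630; generated)

* `HasF` : the certificates of `H130.WeylTab` with the bound for the constant;
* `reg_T_n` : the regular elements.
-/

set_option autoImplicit false

namespace Cfsg.Agent.H630.Exc

open Cfsg.Agent.H130.WeylCk Cfsg.Agent.H130.PolyL Cfsg.Agent.H130.WeylTab
  Cfsg.Agent.ChevalleyStructure.CoxeterGeomTypes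

/-- there is a certificate, the constant divides the product of the degrees divisible by `e` -/
def HasF (Al : List (List ℤ)) (l : ℕ) (degs : List ℕ) (e : ℕ) : Prop :=
  ∃ (word : List (Fin l)) (k : ℕ) (c : ℤ) (xs ys : List (List ℤ)),
    Cert Al l e (degs.filter (fun i => e ∣ i)).length word k c xs ys ∧ c ∣ ((degs.filter (fun i => e ∣ i)).prod : ℤ)

theorem hasF_G2_1 : HasF alG2 2 [2, 6] 1 :=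
  ⟨[], 1, 1, [[1, 0], [0, 1]],
    [[1, 0], [0, 1]], by decide +kernel, by decide +kernel⟩

theorem hasF_G2_2 : HasF alG2 2 [2, 6] 2 :=
  ⟨[0, 1], 3, 1, [[1, 1], [0, 1]],
    [[1, 0], [-1, 1]], by decide +kernel, by decide +kernel⟩

theorem hasF_G2_3 : HasF alG2 2 [2, 6] 3 :=
  ⟨[0, 1], 2, 3, [[0, 1]],
    [[-1, 0]], by decide +kernel, by decide +kernel⟩

theorem hasF_G2_6 : HasF alG2 2 [2, 6] 6 :=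
  ⟨[0, 1], 1, 3, [[0, 1]],
    [[-1, 0]], by decide +kernel, by decide +kernel⟩

theorem hasF_G2 : ∀ e ∈ [1, 2, 3, 6], HasF alG2 2 [2, 6] e := by
  intro e he
  simp only [List.mem_cons, List.not_mem_nil, or_false] at he
  rcases he with rfl | rfl | rfl | rfl
  · exact hasF_G2_1
  · exact hasF_G2_2
  · exact hasF_G2_3
  · exact hasF_G2_6

theorem hasF_F4_1 : HasF alF4 4 [2, 6, 8, 12] 1 :=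
  ⟨[], 1, 3, [[0, 1, 0, 0], [0, 0, -1, 1], [1, 1, -1, -1], [-1, 0, 0, -1]],
    [[-1, 3, 1, 1], [-1, 0, -2, 1], [1, 0, -1, -1], [-2, 0, -1, -1]], by decide +kernel, by decide +kernel⟩

theorem hasF_F4_2 : HasF alF4 4 [2, 6, 8, 12] 2 :=
  ⟨[0, 1, 2, 3], 6, 1, [[1, 1, 0, 0], [0, 1, 1, 0], [0, 1, 1, 1], [0, 1, 0, 1]],
    [[1, 0, 0, 0], [-1, 1, 0, -1], [1, -1, 1, 1], [-1, 1, -1, 0]], by decide +kernel, by decide +kernel⟩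

theorem hasF_F4_3 : HasF alF4 4 [2, 6, 8, 12] 3 :=
  ⟨[0, 1, 2, 3], 4, 2, [[0, 0, 1, 1], [0, 0, 1, 0]],
    [[1, -1, 0, 0], [-2, 1, 0, 0]], by decide +kernel, by decide +kernel⟩

theorem hasF_F4_4 : HasF alF4 4 [2, 6, 8, 12] 4 :=
  ⟨[0, 1, 2, 3], 3, 2, [[1, 0, 0, 0], [0, 0, 0, 1]],
    [[0, 2, -2, 0], [0, 1, -2, 0]], by decide +kernel, by decide +kernel⟩

theorem hasF_F4_6 : HasF alF4 4 [2, 6, 8, 12] 6 :=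
  ⟨[0, 1, 2, 3], 2, 1, [[0, 1, 1, 0], [0, 1, 0, 0]],
    [[-1, 0, 0, 1], [0, 0, 0, 1]], by decide +kernel, by decide +kernel⟩

theorem hasF_F4_8 : HasF alF4 4 [2, 6, 8, 12] 8 :=
  ⟨[2, 1, 3, 2, 1, 0, 2, 2, 3, 3], 1, 1, [[0, 1, 0, 0]],
    [[0, 0, 0, -1]], by decide +kernel, by decide +kernel⟩

theorem hasF_F4_12 : HasF alF4 4 [2, 6, 8, 12] 12 :=
  ⟨[0, 1, 2, 3], 1, 1, [[1, 0, 0, 0]],
    [[0, 0, 0, 1]], by decide +kernel, by decide +kernel⟩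

theorem hasF_F4 : ∀ e ∈ [1, 2, 3, 4, 6, 8, 12], HasF alF4 4 [2, 6, 8, 12] e := by
  intro e he
  simp only [List.mem_cons, List.not_mem_nil, or_false] at he
  rcases he with rfl | rfl | rfl | rfl | rfl | rfl | rfl
  · exact hasF_F4_1
  · exact hasF_F4_2
  · exact hasF_F4_3
  · exact hasF_F4_4
  · exact hasF_F4_6
  · exact hasF_F4_8
  · exact hasF_F4_12

theorem hasF_E6_1 : HasF alE6 6 [2, 5, 6, 8, 9, 12] 1 :=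
  ⟨[], 1, 1, [[0, 0, 0, 0, 0, 1], [0, 0, 0, -1, 1, 0], [1, -1, -1, -1, 1, 0], [0, -1, 0, -1, 1, 0], [-1, 0, 0, 0, -1, 0], [0, 1, -1, 0, 0, 0]],
    [[0, 0, 0, 0, 0, 1], [1, 1, 1, -2, -1, 0], [1, 0, 0, -1, -1, 0], [-2, -1, -1, 2, 2, 0], [0, 0, 0, -1, -1, 0], [-1, 0, -1, 1, 1, 0]], by decide +kernel, by decide +kernel⟩

theorem hasF_E6_2 : HasF alE6 6 [2, 5, 6, 8, 9, 12] 2 :=
  ⟨[0, 1, 2, 3, 4, 5], 6, 1, [[2, 0, 1, 1, -1, 0], [-1, 0, -1, -1, 0, 0], [1, 0, 0, 1, 0, 1], [0, 1, 0, 0, 0, 0]],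
    [[0, 0, 0, 0, -1, 0], [0, 0, -1, 0, -1, 0], [0, 0, 0, 0, 0, 1], [0, 1, 0, 0, 0, 0]], by decide +kernel, by decide +kernel⟩

theorem hasF_E6_3 : HasF alE6 6 [2, 5, 6, 8, 9, 12] 3 :=
  ⟨[0, 1, 2, 3, 4, 5], 4, 1, [[1, 1, 0, 1, 0, 1], [0, 0, 0, 1, 0, 1], [0, 1, 0, 0, 1, 0]],
    [[-1, 1, 1, 0, -1, 0], [0, 0, 0, -1, 0, 1], [0, 0, 1, -2, 0, 2]], by decide +kernel, by decide +kernel⟩

theorem hasF_E6_4 : HasF alE6 6 [2, 5, 6, 8, 9, 12] 4 :=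
  ⟨[0, 1, 2, 3, 4, 5], 3, 1, [[0, 1, -1, 0, 0, 1], [1, 0, 1, 1, 0, 0]],
    [[0, -1, -1, 1, 0, 0], [0, -1, -1, 1, 1, 0]], by decide +kernel, by decide +kernel⟩

theorem hasF_E6_5 : HasF alE6 6 [2, 5, 6, 8, 9, 12] 5 :=
  ⟨[5, 3, 4, 2, 3, 2], 1, 1, [[0, 0, 1, 0, 0, 0]],
    [[0, 0, 0, 1, -1, 1]], by decide +kernel, by decide +kernel⟩

theorem hasF_E6_6 : HasF alE6 6 [2, 5, 6, 8, 9, 12] 6 :=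
  ⟨[0, 1, 2, 3, 4, 5], 2, 1, [[-1, 0, -1, 0, 1, 1], [1, 0, 1, 1, 0, 0]],
    [[0, 0, 0, 0, -1, 1], [0, 1, 0, 0, -2, 2]], by decide +kernel, by decide +kernel⟩

theorem hasF_E6_8 : HasF alE6 6 [2, 5, 6, 8, 9, 12] 8 :=
  ⟨[2, 4, 0, 2, 3, 0, 5, 1, 2, 4, 4], 1, 1, [[1, 0, 1, 1, 0, 0]],
    [[-1, 0, 1, 0, -1, 0]], by decide +kernel, by decide +kernel⟩

theorem hasF_E6_9 : HasF alE6 6 [2, 5, 6, 8, 9, 12] 9 :=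
  ⟨[1, 3, 4, 1, 3, 4, 0, 5, 1, 5, 2, 5], 1, 1, [[0, 0, 0, 1, 0, 1]],
    [[-1, 0, 2, -1, -1, 1]], by decide +kernel, by decide +kernel⟩

theorem hasF_E6_12 : HasF alE6 6 [2, 5, 6, 8, 9, 12] 12 :=
  ⟨[0, 1, 2, 3, 4, 5], 1, 2, [[-1, 0, 0, 0, 1, 0]],
    [[0, 1, 0, -1, 0, 0]], by decide +kernel, by decide +kernel⟩

theorem hasF_E6 : ∀ e ∈ [1, 2, 3, 4, 5, 6, 8, 9, 12], HasF alE6 6 [2, 5, 6, 8, 9, 12] e := by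
  intro e he
  simp only [List.mem_cons, List.not_mem_nil, or_false] at he
  rcases he with rfl | rfl | rfl | rfl | rfl | rfl | rfl | rfl | rfl
  · exact hasF_E6_1
  · exact hasF_E6_2
  · exact hasF_E6_3
  · exact hasF_E6_4
  · exact hasF_E6_5
  · exact hasF_E6_6
  · exact hasF_E6_8
  · exact hasF_E6_9
  · exact hasF_E6_12

theorem hasF_E7_1 : HasF alE7 7 [2, 6, 8, 10, 12, 14, 18] 1 :=
  ⟨[], 1, 1, [[0, 1, 0, 0, 1, 0, 0], [0, 0, 1, 0, 0, 0, 0], [0, 0, 1, 0, 1, 0, 0], [0, 1, 1, 1, 0, 1, 0], [1, 1, 0, 0, 0, 1, 0], [0, 0, 1, 0, 0, 1, 0], [0, 0, 0, 0, 1, 0, 1]],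
    [[-1, 1, 0, -1, 0, 0, 0], [0, 1, 1, -1, -1, -1, 1], [1, -1, 0, 1, 1, 0, -1], [0, 0, 0, 1, 0, 0, 0], [1, 0, 0, 0, 0, 0, 0], [-1, 0, 0, -1, 0, 1, 0], [0, 0, 0, 0, 0, 0, 1]], by decide +kernel, by decide +kernel⟩

theorem hasF_E7_2 : HasF alE7 7 [2, 6, 8, 10, 12, 14, 18] 2 :=
  ⟨[0, 1, 2, 3, 4, 5, 6], 9, 3, [[0, 0, 0, 1, 0, 0, 0], [0, 0, 0, 0, 0, 0, 1], [0, 0, 1, 0, 1, 1, 0], [1, 1, 0, 0, 1, 0, 0], [1, 0, 1, 1, 0, 0, 1], [0, 1, 0, 1, 0, 0, 0], [1, 0, 0, 0, 0, 1, 1]],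
    [[0, -3, -3, 3, 3, 0, 0], [-2, 0, -1, 0, 2, -1, 3], [-1, 0, 1, 0, 1, 1, 0], [1, 0, -1, 0, 2, -1, 0], [1, 0, 2, 0, -1, -1, 0], [-1, 3, 1, 0, -2, 1, 0], [1, 0, -1, 0, -1, 2, 0]], by decide +kernel, by decide +kernel⟩

theorem hasF_E7_3 : HasF alE7 7 [2, 6, 8, 10, 12, 14, 18] 3 :=
  ⟨[0, 1, 2, 3, 4, 5, 6], 6, 2, [[1, 1, 1, 1, 0, 0, 0], [0, 0, 0, 0, 0, 1, 1], [0, 0, 1, 0, 1, 1, 0]],
    [[1, -1, -1, 1, 0, 1, -1], [2, -1, -1, 0, 0, 1, -1], [0, 1, -1, 0, 0, 1, -1]], by decide +kernel, by decide +kernel⟩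

theorem hasF_E7_4 : HasF alE7 7 [2, 6, 8, 10, 12, 14, 18] 4 :=
  ⟨[4, 1, 6, 5, 6, 2, 6, 6, 3], 2, 2, [[0, 0, 0, 1, 0, 0, 0], [0, 1, 1, 0, 0, 0, 0]],
    [[0, 0, 0, 0, -2, 2, 0], [0, 0, 0, 0, -1, 2, 0]], by decide +kernel, by decide +kernel⟩

theorem hasF_E7_5 : HasF alE7 7 [2, 6, 8, 10, 12, 14, 18] 5 :=
  ⟨[2, 2, 6, 1, 3, 4, 2, 5, 4, 6, 4, 5], 2, 1, [[0, 0, 1, 1, 1, 0, 0]],
    [[0, 0, 0, 0, 0, -1, 1]], by decide +kernel, by decide +kernel⟩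

theorem hasF_E7_6 : HasF alE7 7 [2, 6, 8, 10, 12, 14, 18] 6 :=
  ⟨[0, 1, 2, 3, 4, 5, 6], 3, 1, [[-1, 0, 0, -1, -1, 0, 0], [0, 1, 1, -1, 0, 1, -1], [1, 1, 0, 0, 0, 1, 0]],
    [[-1, -3, -1, 0, 1, 4, 0], [0, 1, 0, 0, 0, -1, 0], [0, -3, 1, 3, -3, 3, -2]], by decide +kernel, by decide +kernel⟩

theorem hasF_E7_7 : HasF alE7 7 [2, 6, 8, 10, 12, 14, 18] 7 :=
  ⟨[4, 4, 3, 0, 6, 4, 5, 1, 2, 6, 1, 5], 1, 1, [[1, 0, 0, 0, 0, 0, 0]],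
    [[0, 0, 1, -1, 0, 0, 0]], by decide +kernel, by decide +kernel⟩

theorem hasF_E7_8 : HasF alE7 7 [2, 6, 8, 10, 12, 14, 18] 8 :=
  ⟨[0, 5, 5, 1, 4, 5, 1, 0, 1, 2, 5, 0, 3], 1, 2, [[0, 0, 1, 0, 0, 0, 0]],
    [[1, -2, 0, 1, 0, 0, 0]], by decide +kernel, by decide +kernel⟩

theorem hasF_E7_9 : HasF alE7 7 [2, 6, 8, 10, 12, 14, 18] 9 :=
  ⟨[0, 1, 2, 3, 4, 5, 6], 2, 1, [[0, 0, 0, 1, 1, 0, 0]],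
    [[1, 1, -1, 0, 0, -1, 1]], by decide +kernel, by decide +kernel⟩

theorem hasF_E7_10 : HasF alE7 7 [2, 6, 8, 10, 12, 14, 18] 10 :=
  ⟨[3, 2, 2, 1, 2, 2, 5, 4, 6, 2], 1, 5, [[0, -1, -1, 0, 0, 0, 1]],
    [[0, 0, 0, -1, 5, -2, 0]], by decide +kernel, by decide +kernel⟩

theorem hasF_E7_12 : HasF alE7 7 [2, 6, 8, 10, 12, 14, 18] 12 :=
  ⟨[3, 2, 5, 0, 1, 4], 1, 1, [[0, 0, 0, 1, 0, 0, 0]],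
    [[1, 1, 0, 0, -1, 0, 0]], by decide +kernel, by decide +kernel⟩

theorem hasF_E7_14 : HasF alE7 7 [2, 6, 8, 10, 12, 14, 18] 14 :=
  ⟨[6, 4, 6, 3, 2, 6, 0, 3, 1, 3, 5, 5, 5], 1, 1, [[0, 0, 0, 1, 0, 0, 0]],
    [[0, -1, 0, 0, 1, -1, 0]], by decide +kernel, by decide +kernel⟩

theorem hasF_E7_18 : HasF alE7 7 [2, 6, 8, 10, 12, 14, 18] 18 :=
  ⟨[0, 1, 2, 3, 4, 5, 6], 1, 3, [[0, 1, 0, 0, 0, 1, 0]],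
    [[-2, -1, -1, 2, 0, 1, 1]], by decide +kernel, by decide +kernel⟩

theorem hasF_E7 : ∀ e ∈ [1, 2, 3, 4, 5, 6, 7, 8, 9, 10, 12, 14, 18], HasF alE7 7 [2, 6, 8, 10, 12, 14, 18] e := by
  intro e he
  simp only [List.mem_cons, List.not_mem_nil, or_false] at he
  rcases he with rfl | rfl | rfl | rfl | rfl | rfl | rfl | rfl | rfl | rfl | rfl | rfl | rfl
  · exact hasF_E7_1
  · exact hasF_E7_2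
  · exact hasF_E7_3
  · exact hasF_E7_4
  · exact hasF_E7_5
  · exact hasF_E7_6
  · exact hasF_E7_7
  · exact hasF_E7_8
  · exact hasF_E7_9
  · exact hasF_E7_10
  · exact hasF_E7_12
  · exact hasF_E7_14
  · exact hasF_E7_18

theorem hasF_E8_1 : HasF alE8 8 [2, 8, 12, 14, 18, 20, 24, 30] 1 :=
  ⟨[], 1, 1, [[1, 0, 0, 1, 1, 0, 1, 0], [1, 0, 0, 0, 0, 0, 1, 0], [0, 1, 0, 0, 0, 1, 1, 0], [0, 1, 0, 0, 0, 0, 0, 0], [1, 0, 1, 0, 0, 0, 0, 0], [0, 0, 0, 1, 0, 0, 0, 0], [0, 0, 1, 1, 0, 0, 0, 0], [0, 0, 0, 0, 1, 0, 0, 1]],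
    [[0, 0, 0, 0, 1, 0, 0, -1], [0, 0, 0, 0, -1, -1, 1, 1], [0, 0, 0, 0, 0, 1, 0, 0], [0, 1, 0, 0, 0, -1, 0, 0], [1, 0, 0, 0, 0, 1, -1, 0], [1, 0, -1, 1, -1, 1, -1, 1], [-1, 0, 1, 0, 0, -1, 1, 0], [0, 0, 0, 0, 0, 0, 0, 1]], by decide +kernel, by decide +kernel⟩

theorem hasF_E8_2 : HasF alE8 8 [2, 8, 12, 14, 18, 20, 24, 30] 2 :=
  ⟨[0, 1, 2, 3, 4, 5, 6, 7], 15, 1, [[0, 0, 0, 0, 0, 0, 0, 1], [1, 0, 0, 0, 0, 0, 0, 0], [0, 0, 0, 1, 0, 0, 1, 0], [0, 0, 0, 1, 1, 0, 1, 1], [0, 0, 1, 0, 0, 0, 0, 0], [0, 0, 1, 0, 0, 1, 0, 0], [0, 1, 0, 0, 1, 0, 0, 0], [0, 0, 1, 1, 1, 0, 0, 0]],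
    [[0, 1, 0, 1, -1, 0, -1, 1], [1, 0, 0, 0, 0, 0, 0, 0], [0, 1, 0, 1, -1, 0, 0, 0], [0, -1, 0, -1, 1, 0, 1, 0], [0, 0, 1, -1, 0, -1, 1, 0], [0, 0, 0, 0, 0, 1, 0, 0], [0, 1, 0, 0, 0, 0, 0, 0], [0, 0, 0, 1, 0, 0, -1, 0]], by decide +kernel, by decide +kernel⟩

theorem hasF_E8_3 : HasF alE8 8 [2, 8, 12, 14, 18, 20, 24, 30] 3 :=
  ⟨[0, 1, 2, 3, 4, 5, 6, 7], 10, 3, [[1, 0, 0, 0, 0, 0, 1, 0], [0, 0, 0, 0, 0, 1, 0, 1], [0, 0, 0, 0, 1, 0, 1, 0], [0, 0, 1, 0, 1, 1, 1, 0]],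
    [[-2, -1, 0, 2, -2, 0, 2, 0], [-1, -2, 0, 1, -1, 0, 1, 0], [0, 1, -1, -1, 0, 1, 0, -1], [0, 1, 2, -1, 0, -2, 0, 2]], by decide +kernel, by decide +kernel⟩

theorem hasF_E8_4 : HasF alE8 8 [2, 8, 12, 14, 18, 20, 24, 30] 4 :=
  ⟨[4, 3, 2, 1, 5, 0, 6, 3, 1, 7, 5, 6], 6, 2, [[1, 0, 1, 0, 0, 0, 0, 1], [1, 1, 1, 0, 0, 0, 0, 0], [1, 0, 1, 0, 0, 0, 1, 1], [1, 0, 0, 0, 0, 0, 0, 0]],
    [[0, -1, 1, 0, -1, 1, 0, -1], [0, 1, -1, 0, -1, 1, 0, 1], [0, 0, 0, -2, 4, -2, 0, 0], [0, 1, -1, 2, -2, -1, 0, 1]], by decide +kernel, by decide +kernel⟩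

theorem hasF_E8_5 : HasF alE8 8 [2, 8, 12, 14, 18, 20, 24, 30] 5 :=
  ⟨[0, 1, 2, 3, 4, 5, 6, 7], 6, 1, [[0, 1, 0, 0, 1, 0, 0, 0], [0, 0, 0, 0, 1, 0, 0, 0]],
    [[-1, 0, 0, 0, 0, 0, 1, 0], [0, 0, 0, 0, 0, 1, -1, -1]], by decide +kernel, by decide +kernel⟩

theorem hasF_E8_6 : HasF alE8 8 [2, 8, 12, 14, 18, 20, 24, 30] 6 :=
  ⟨[0, 1, 2, 3, 4, 5, 6, 7], 5, 1, [[0, 1, 0, 0, 0, 0, 1, 0], [0, 0, 0, 0, 0, 0, 1, 0], [0, 0, 0, 0, 0, 0, 0, 1], [0, 0, 0, 1, 1, 0, 0, 0]],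
    [[0, 0, -1, 1, -1, 1, 0, 0], [-1, 0, 1, 0, 0, -1, 0, 0], [1, 0, -1, 1, -1, 0, 0, 0], [0, 0, -1, 0, 0, 1, 0, 0]], by decide +kernel, by decide +kernel⟩

theorem hasF_E8_7 : HasF alE8 8 [2, 8, 12, 14, 18, 20, 24, 30] 7 :=
  ⟨[6, 5, 0, 0, 0, 1, 0, 3, 2, 4, 0, 3], 1, 1, [[1, 0, 0, 0, 0, 0, 0, 0]],
    [[0, 1, -1, 0, 0, 0, 0, 0]], by decide +kernel, by decide +kernel⟩

theorem hasF_E8_8 : HasF alE8 8 [2, 8, 12, 14, 18, 20, 24, 30] 8 :=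
  ⟨[5, 0, 1, 6, 2, 4, 7, 3, 2, 0, 1, 2, 3, 1], 3, 2, [[1, 0, 1, 1, 0, 0, 0, 0], [1, 1, 0, 0, 0, 0, 1, 0]],
    [[1, 1, -1, 0, 0, 0, -2, 3], [0, 0, 1, -1, -1, 2, 0, -1]], by decide +kernel, by decide +kernel⟩

theorem hasF_E8_9 : HasF alE8 8 [2, 8, 12, 14, 18, 20, 24, 30] 9 :=
  ⟨[3, 3, 3, 2, 1, 0, 5, 1, 6, 3, 4, 2, 1], 2, 3, [[0, 0, 0, 1, 1, 0, 1, 0]],
    [[-2, 0, 0, 1, -2, 1, 1, 0]], by decide +kernel, by decide +kernel⟩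

theorem hasF_E8_10 : HasF alE8 8 [2, 8, 12, 14, 18, 20, 24, 30] 10 :=
  ⟨[0, 1, 2, 3, 4, 5, 6, 7], 3, 1, [[0, 0, 0, 0, 0, 1, 0, 0], [0, 0, 0, 1, 1, 1, 0, 0]],
    [[1, 0, -1, 1, -1, 0, 1, -1], [0, 0, 0, 0, 0, 0, -1, 1]], by decide +kernel, by decide +kernel⟩

theorem hasF_E8_12 : HasF alE8 8 [2, 8, 12, 14, 18, 20, 24, 30] 12 :=
  ⟨[5, 7, 4, 0, 2, 3, 6, 1, 2, 7, 4, 2, 6, 3], 2, 1, [[0, 0, 1, 1, 0, 0, 0, 0], [0, 0, 1, 0, 0, 0, 0, 1]],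
    [[-1, 0, -1, 1, 1, -1, 0, 1], [0, 0, 0, 0, 0, -1, 1, 0]], by decide +kernel, by decide +kernel⟩

theorem hasF_E8_14 : HasF alE8 8 [2, 8, 12, 14, 18, 20, 24, 30] 14 :=
  ⟨[2, 0, 2, 7, 3, 4, 1, 3, 5, 4, 6, 2, 7], 1, 1, [[1, 0, 0, 0, 0, 0, 0, 0]],
    [[0, 0, -1, 0, 1, 0, 0, 0]], by decide +kernel, by decide +kernel⟩

theorem hasF_E8_15 : HasF alE8 8 [2, 8, 12, 14, 18, 20, 24, 30] 15 :=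
  ⟨[0, 1, 2, 3, 4, 5, 6, 7], 2, 1, [[0, 1, 0, 0, 1, 1, 1, 1]],
    [[1, 1, 1, -1, 0, -1, 0, 0]], by decide +kernel, by decide +kernel⟩

theorem hasF_E8_18 : HasF alE8 8 [2, 8, 12, 14, 18, 20, 24, 30] 18 :=
  ⟨[4, 3, 1, 3, 1, 6, 7, 5, 7, 2, 0], 1, 1, [[1, 0, 0, 0, 0, 0, 0, 0]],
    [[0, 1, -1, 0, 0, 0, 0, 0]], by decide +kernel, by decide +kernel⟩

theorem hasF_E8_20 : HasF alE8 8 [2, 8, 12, 14, 18, 20, 24, 30] 20 :=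
  ⟨[3, 6, 5, 0, 7, 1, 2, 4, 0, 3, 4, 2, 5, 4], 1, 1, [[0, 1, 0, 0, 0, 0, 0, 0]],
    [[-1, 0, 1, -1, 0, 1, 0, 0]], by decide +kernel, by decide +kernel⟩

theorem hasF_E8_24 : HasF alE8 8 [2, 8, 12, 14, 18, 20, 24, 30] 24 :=
  ⟨[4, 0, 7, 5, 2, 6, 1, 3, 1, 0, 2, 3, 5, 5], 1, 3, [[0, 0, 0, 1, 0, 0, 0, 0]],
    [[-1, 0, -1, 0, 1, 1, -2, 1]], by decide +kernel, by decide +kernel⟩

theorem hasF_E8_30 : HasF alE8 8 [2, 8, 12, 14, 18, 20, 24, 30] 30 :=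
  ⟨[0, 1, 2, 3, 4, 5, 6, 7], 1, 1, [[0, 0, 1, 0, 1, 0, 1, 0]],
    [[-1, 0, 0, 0, 0, 0, 0, 0]], by decide +kernel, by decide +kernel⟩

theorem hasF_E8 : ∀ e ∈ [1, 2, 3, 4, 5, 6, 7, 8, 9, 10, 12, 14, 15, 18, 20, 24, 30], HasF alE8 8 [2, 8, 12, 14, 18, 20, 24, 30] e := by
  intro e he
  simp only [List.mem_cons, List.not_mem_nil, or_false] at he
  rcases he with rfl | rfl | rfl | rfl | rfl | rfl | rfl | rfl | rfl | rfl | rfl | rfl | rfl | rfl | rfl | rfl | rfl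
  · exact hasF_E8_1
  · exact hasF_E8_2
  · exact hasF_E8_3
  · exact hasF_E8_4
  · exact hasF_E8_5
  · exact hasF_E8_6
  · exact hasF_E8_7
  · exact hasF_E8_8
  · exact hasF_E8_9
  · exact hasF_E8_10
  · exact hasF_E8_12
  · exact hasF_E8_14
  · exact hasF_E8_15
  · exact hasF_E8_18
  · exact hasF_E8_20
  · exact hasF_E8_24
  · exact hasF_E8_30

/-- the symmetric form of type E8 -/
def blE8 : List (List ℤ) := [[2, 0, -1, 0, 0, 0, 0, 0], [0, 2, 0, -1, 0, 0, 0, 0], [-1, 0, 2, -1, 0, 0, 0, 0], [0, -1, -1, 2, -1, 0, 0, 0], [0, 0, 0, -1, 2, -1, 0, 0], [0, 0, 0, 0, -1, 2, -1, 0], [0, 0, 0, 0, 0, -1, 2, -1], [0, 0, 0, 0, 0, 0, -1, 2]]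

theorem reg_E8_3 : RegCk Cfsg.Lie.chevE8 8 alE8 blE8 [0, 1, 2, 3, 4, 5, 6, 7] 10 3
  [[0, 1, 1, 2, 1, 1, 1, 0], [1, 1, 2, 3, 2, 2, 1, 1], [1, 1, 1, 2, 2, 1, 1, 1], [-1, -1, -1, -2, -1, -1, -1, -1], [0, 0, -1, -1, -1, 0, 0, 0], [0, -1, 0, -1, -1, -1, 0, 0], [-1, 0, -1, -1, -1, -1, -1, 0], [0, -1, -1, -1, -1, -1, -1, -1]]
  [([-1, -1, 2], [0, 1], [3, -2], 3)]
  3 := by
  decide +kernel

theorem reg_E8_4 : RegCk Cfsg.Lie.chevE8 8 alE8 blE8 [3, 6, 5, 0, 7, 1, 2, 4, 0, 3, 4, 2, 5, 4] 5 4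
  [[1, 1, 2, 2, 2, 1, 1, 1], [1, 1, 2, 2, 1, 1, 0, 0], [-1, -1, -1, -1, -1, -1, -1, -1], [1, 1, 1, 2, 2, 2, 2, 1], [-1, 0, -1, -1, -1, -1, -1, 0], [-1, -3, -3, -5, -4, -3, -2, -1], [1, 2, 2, 3, 3, 2, 1, 0], [-1, -1, -1, -2, -2, -1, 0, 0]]
  [([0, -2, 0, 2], [0, 1], [4, 0, -2], 4)]
  4 := by
  decide +kernel

theorem reg_E8_5 : RegCk Cfsg.Lie.chevE8 8 alE8 blE8 [0, 1, 2, 3, 4, 5, 6, 7] 6 5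
  [[1, 1, 2, 2, 2, 1, 1, 1], [1, 1, 2, 3, 2, 1, 1, 0], [0, 1, 1, 2, 1, 1, 0, 0], [0, 0, -1, -1, 0, 0, 0, 0], [0, -1, 0, -1, -1, 0, 0, 0], [-1, 0, -1, -1, -1, -1, 0, 0], [0, -1, -1, -1, -1, -1, -1, 0], [-1, -1, -1, -2, -1, -1, -1, -1]]
  [([-1, 0, 0, -1, 2], [1, 3, 1, 0], [6, -3, -2, 0], 5), ([0, -1, -1, 0, 2], [-1, 2, -1, 0], [5, -6, 2, 0], 5)]
  5 := by
  decide +kernel

/-- the matrix and the table of kernels of `reg_E8_8`, for the split check -/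
def m88 : List (List ℤ) :=
  [[-1, 0, -1, -1, -1, -1, -1, -1], [-1, -1, -1, -1, -1, -1, -1, 0], [1, 1, 1, 2, 2, 2, 1, 1], [0, -1, -1, -2, -2, -2, -1, -1], [0, 1, 1, 1, 1, 1, 1, 1], [1, 1, 2, 3, 3, 2, 1, 0], [0, 0, 0, 0, -1, 0, 0, 0], [-1, -1, -2, -2, -1, -1, 0, 0]]
def K88 : List (List ℤ × List ℤ × List ℤ × ℤ) :=
  [([-1, 0, 1, -2, 1, 0, -1, 2], [1, 2, 1, 0], [5, 2, 0, 0, -3, -2, 0], 4), ([0, 0, 0, -2, 0, 0, 0, 2], [0, 1, 0, 0], [4, 0, 0, 0, -2, 0, 0], 4), ([1, 0, -1, -2, -1, 0, 1, 2], [-1, 2, -1, 0], [5, -2, 0, 0, -3, 2, 0], 4)]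

theorem reg_E8_8_a : ∀ v ∈ (rootL Cfsg.Lie.chevE8 8).take 60,
    gl 8 m88 (lc 8 v blE8) 8 v [] ∈ K88.map Prod.fst := by
  decide +kernel

theorem reg_E8_8_b : ∀ v ∈ ((rootL Cfsg.Lie.chevE8 8).drop 60).take 60,
    gl 8 m88 (lc 8 v blE8) 8 v [] ∈ K88.map Prod.fst := by
  decide +kernel

theorem reg_E8_8_c : ∀ v ∈ (((rootL Cfsg.Lie.chevE8 8).drop 60).drop 60).take 60,
    gl 8 m88 (lc 8 v blE8) 8 v [] ∈ K88.map Prod.fst := by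
  decide +kernel

theorem reg_E8_8_d : ∀ v ∈ (((rootL Cfsg.Lie.chevE8 8).drop 60).drop 60).drop 60,
    gl 8 m88 (lc 8 v blE8) 8 v [] ∈ K88.map Prod.fst := by
  decide +kernel

theorem forall_take_drop {α : Type} {P : α → Prop} {L : List α} {k : ℕ} (h1 : ∀ v ∈ L.take k, P v)
    (h2 : ∀ v ∈ L.drop k, P v) : ∀ v ∈ L, P v := by
  intro v hv
  rw [← List.take_append_drop k L, List.mem_append] at hv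
  exact hv.elim (h1 v) (h2 v)

theorem reg_E8_8 : RegCk Cfsg.Lie.chevE8 8 alE8 blE8 [5, 0, 1, 6, 2, 4, 7, 3, 2, 0, 1, 2, 3, 1] 3 8
  [[-1, 0, -1, -1, -1, -1, -1, -1], [-1, -1, -1, -1, -1, -1, -1, 0], [1, 1, 1, 2, 2, 2, 1, 1], [0, -1, -1, -2, -2, -2, -1, -1], [0, 1, 1, 1, 1, 1, 1, 1], [1, 1, 2, 3, 3, 2, 1, 0], [0, 0, 0, 0, -1, 0, 0, 0], [-1, -1, -2, -2, -1, -1, 0, 0]]
  [([-1, 0, 1, -2, 1, 0, -1, 2], [1, 2, 1, 0], [5, 2, 0, 0, -3, -2, 0], 4), ([0, 0, 0, -2, 0, 0, 0, 2], [0, 1, 0, 0], [4, 0, 0, 0, -2, 0, 0], 4), ([1, 0, -1, -2, -1, 0, 1, 2], [-1, 2, -1, 0], [5, -2, 0, 0, -3, 2, 0], 4)]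
  4 :=
  ⟨by decide +kernel, by decide +kernel, by decide +kernel,
    forall_take_drop (P := fun v => gl 8 m88 (lc 8 v blE8) 8 v [] ∈ K88.map Prod.fst) reg_E8_8_a
      (forall_take_drop reg_E8_8_b (forall_take_drop reg_E8_8_c reg_E8_8_d)), by decide +kernel⟩

/-- the symmetric form of type E7 -/
def blE7 : List (List ℤ) := [[2, 0, -1, 0, 0, 0, 0], [0, 2, 0, -1, 0, 0, 0], [-1, 0, 2, -1, 0, 0, 0], [0, -1, -1, 2, -1, 0, 0], [0, 0, 0, -1, 2, -1, 0], [0, 0, 0, 0, -1, 2, -1], [0, 0, 0, 0, 0, -1, 2]]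

theorem reg_E7_3 : RegCk Cfsg.Lie.chevE7 7 alE7 blE7 [0, 1, 2, 3, 4, 5, 6] 6 3
  [[0, 0, 1, 1, 1, 0, 0], [1, 1, 1, 2, 2, 1, 1], [0, 1, 0, 1, 1, 1, 0], [0, -1, 0, -1, -1, 0, 0], [-1, 0, -1, -1, -1, -1, 0], [0, -1, -1, -1, -1, -1, -1], [0, 0, 0, -1, 0, 0, 0]]
  [([-1, -1, 2], [0, 1], [3, -2], 3), ([0, 0, 2], [0, 1], [2, -2], 2)]
  6 := by
  decide +kernel

/-- the symmetric form of type E6 -/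
def blE6 : List (List ℤ) := [[2, 0, -1, 0, 0, 0], [0, 2, 0, -1, 0, 0], [-1, 0, 2, -1, 0, 0], [0, -1, -1, 2, -1, 0], [0, 0, 0, -1, 2, -1], [0, 0, 0, 0, -1, 2]]

theorem reg_E6_2 : RegCk Cfsg.Lie.chevE6 6 alE6 blE6 [0, 1, 2, 3, 4, 5] 6 2
  [[0, 0, 0, 0, 1, 0], [0, -1, 0, 0, 0, 0], [0, 0, 0, 0, 0, 1], [-1, 0, -1, -1, -1, -1], [1, 0, 0, 0, 0, 0], [0, 0, 1, 0, 0, 0]]
  [([-2, 2], [-1], [2], 4), ([0, 2], [-1], [2], 2)]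
  4 := by
  decide +kernel

theorem reg_E6_3 : RegCk Cfsg.Lie.chevE6 6 alE6 blE6 [0, 1, 2, 3, 4, 5] 4 3
  [[0, 1, 1, 1, 1, 1], [0, 0, 1, 1, 1, 0], [0, 0, 0, 1, 0, 0], [0, 0, -1, -1, 0, 0], [0, -1, 0, -1, -1, 0], [-1, 0, -1, -1, -1, -1]]
  [([-1, -1, 2], [0, 1], [3, -2], 3)]
  3 := by
  decide +kernel

theorem reg_E6_4 : RegCk Cfsg.Lie.chevE6 6 alE6 blE6 [0, 1, 2, 3, 4, 5] 3 4
  [[1, 0, 1, 1, 1, 0], [1, 1, 1, 2, 1, 1], [0, 1, 1, 1, 1, 1], [-1, -1, -1, -1, -1, -1], [0, 0, -1, -1, 0, 0], [0, -1, 0, -1, -1, 0]]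
  [([0, -2, 0, 2], [0, 1], [4, 0, -2], 4), ([1, 0, 1, 2], [0, 1], [2, -1, -2], 2)]
  4 := by
  decide +kernel

theorem reg_E6_6 : RegCk Cfsg.Lie.chevE6 6 alE6 blE6 [0, 1, 2, 3, 4, 5] 2 6
  [[0, 1, 0, 1, 0, 0], [0, 1, 1, 1, 1, 0], [1, 0, 1, 1, 1, 0], [0, 0, 0, 0, 0, 1], [-1, -1, -1, -1, -1, -1], [0, 0, -1, -1, 0, 0]]
  [([0, -1, 0, -1, 0, 2], [0, 1], [3, 3, 1, -2, -2], 3), ([1, -1, -2, -1, 1, 2], [0, 1], [6, 5, 0, -3, -2], 6)]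
  6 := by
  decide +kernel

/-- the symmetric form of type F4 -/
def blF4 : List (List ℤ) := [[2, -1, 0, 0], [-1, 2, -2, 0], [0, -2, 4, -2], [0, 0, -2, 4]]

theorem reg_F4_3 : RegCk Cfsg.Lie.chevF4 4 alF4 blF4 [0, 1, 2, 3] 4 3
  [[0, 1, 1, 0], [1, 1, 1, 1], [-2, -2, -2, -1], [0, -2, -1, -1]]
  [([-2, -2, 4], [0, 1], [6, -4], 6), ([-1, -1, 2], [0, 1], [3, -2], 3)]
  6 := by
  decide +kernel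

theorem reg_F4_4 : RegCk Cfsg.Lie.chevF4 4 alF4 blF4 [0, 1, 2, 3] 3 4
  [[1, 2, 1, 1], [0, 1, 1, 0], [0, -2, -1, 0], [-2, -2, -2, -1]]
  [([0, -4, 0, 4], [0, 1], [8, 0, -4], 8), ([0, -2, 0, 2], [0, 1], [4, 0, -2], 4)]
  8 := by
  decide +kernel

end Cfsg.Agent.H630.Exc
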