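import Cfsg.Agent.H630.ExcG
import Cfsg.Agent.H378.RootTor
import Cfsg.Agent.H129.TorusUntw
import Cfsg.Agent.H630.ExcTab

/-!
# The untwisted groups (helper630)

* `setup_untw` : the `Setup` of `D.group F`;
* `hasTor_all` : `HasTor` for `ε = ±1` if `-1 ∈ W`;
* `Setup.regE_ck`, `Setup.regE_ck_neg` : the exclusions from a table;
* `Setup.pos_of_hasF` : the abelian subgroup from a certificate.
-/

set_option autoImplicit false
set_option linter.unusedSectionVars false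

namespace Cfsg.Agent.H630.Exc

open CoxeterSystem Cfsg Cfsg.Lie Cfsg.Lie.ChevalleyDatum
open Cfsg.Agent.ChevalleyStructure Cfsg.Agent.ChevalleyStructure.Elts Cfsg.Agent.ChevalleyStructure.CoxeterGeom
  Cfsg.Agent.ChevalleyStructure.CoxeterGeomTypes Cfsg.Agent.ChevalleyStructure.NPerm
open Cfsg.Agent.Tits.Roots Cfsg.Agent.Tits.Core Cfsg.Agent.Nodes Cfsg.Agent.Nodes.Reps Cfsg.Agent.Nodes.BNOf
  Cfsg.Agent.Nodes.RGDChev Cfsg.Agent.Nodes.Bruhat Cfsg.Agent.Nodes.SubComb Cfsg.Agent.Nodes.Coroot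
open Cfsg.Agent.KFacts.RgdField Cfsg.Agent.KFacts.RgdChevCoord Cfsg.Agent.BpExc.TorCent Cfsg.Agent.BpExc.TorChev
open Cfsg.Agent.GpExc.Field Cfsg.Agent.BpExc.Tow Cfsg.Agent.BpExc.TowChev Cfsg.Agent.BpExc.Fr
  Cfsg.Agent.BpExc.LangFr Cfsg.Agent.LangThm Cfsg.Agent.BpExc Cfsg.Agent.H129.TorusChar Cfsg.Agent.H129.TorusMain
open Cfsg.Agent.H129.TorusUntw (phi phi_emb coe_phi isFrob_phi fr_phi)
open Cfsg.Agent.H630.NH Cfsg.Agent.H130.WeylCk Cfsg.Agent.H130.PolyL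

universe u v

variable {D : ChevalleyDatum} {l : ℕ} {M : CoxeterMatrix (Fin l)} (hp : IsType D l M)
  {W : Type*} [Group W] (cs : CoxeterSystem M W)

/-! ### the untwisted groups -/

section Untw

variable {k : Type u} [Field k] {p n : ℕ} [Fact p.Prime] [CharP k p]

theorem phi_eq_phi [IsAlgClosed k] [PerfectRing k p] (y : ↥(D.group k)) :
    Cfsg.Agent.BpExc.FamUntw.phi D k p n y = phi D k p n y := by
  apply Subtype.ext
  apply Units.ext
  rw [coe_phi, coe_glMap]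
  exact Cfsg.Agent.BpExc.FamUntw.phi_coe p n y

/-- **The setup of `D.group F`.** -/
theorem setup_untw [IsAlgClosed k] (hk : LocFin k) {F : Type u} [Field F] [Fintype F] (f : F →+* k) (hn0 : 0 < n)
    (hn : Fintype.card F = p ^ n) {d0 : ℕ} {B : Fin l → Fin l → ℤ} (hB : InvC D l d0 B) (hd0 : d0 ≠ 0) :
    Setup hp cs p n (phi D k p n) (AddEquiv.refl (Fin l → ℤ)) (emb hp.inList f)
      (Nat.gcd d0 (Nat.card F - 1)) where
  lf := hk
  pos := hn0
  frob := isFrob_phi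
  fr := fr_phi hp cs
  inv := ⟨B, d0, hd0, hB⟩
  inj := emb_injective hp.inList f
  fix := phi_emb hp f hn
  range := by
    intro r hr hrd y hy hyr
    obtain ⟨m, hm⟩ := hyr
    refine H378.RootTor.mem_of_pow hp f p (by rw [Nat.card_eq_fintype_card, hn]) hB hd0 (by rw [phi_eq_phi, hy]) hm ?_
    exact Nat.Coprime.pow_left m ((Nat.Prime.coprime_iff_not_dvd hr).2 hrd)

end Untw

/-! ### `HasTor` -/

theorem hasTor_one (w1 : W) : HasTor hp cs (AddEquiv.refl (Fin l → ℤ)) 1 w1 :=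
  ⟨w1, fun x => by rw [one_smul]; rfl⟩

theorem hasTor_all {w0 : W} (h0 : ∀ x, rep cs hp.isCartan w0 x = -x) {ε : ℤ} (hε : ε = 1 ∨ ε = -1) (w1 : W) :
    HasTor hp cs (AddEquiv.refl (Fin l → ℤ)) ε w1 := by
  rcases hε with rfl | rfl
  · exact hasTor_one hp cs w1
  · refine ⟨w1 * w0, fun x => ?_⟩
    show rep cs hp.isCartan (w1 * w0) x = _
    rw [map_mul, Module.End.mul_apply, h0, map_neg, neg_smul, one_smul]

/-- `-1 ∈ W` from a table. -/
theorem rep_neg_of {Al : List (List ℤ)} (hA : MatList (cartanOf D l) Al) (word : List (Fin l)) (k : ℕ)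
    (h : ∀ i : Fin l, acn Al word k (bas l i) = (bas l i).map (fun x => -1 * x)) (x : Fin l → ℤ) :
    rep cs hp.isCartan (cs.wordProd word ^ k) x = -x := by
  have h1 : rep cs hp.isCartan (cs.wordProd word ^ k) = -1 := by
    apply LinearMap.pi_ext'
    intro i
    apply LinearMap.ext_ring
    show rep cs hp.isCartan (cs.wordProd word ^ k) (Pi.single i 1) = -Pi.single i 1
    rw [← toFn_bas, map_pow, ← toFn_acn cs hp.isCartan hA word _ _ (length_bas i.1), h i, toFn_smul, neg_smul, one_smul]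
  rw [h1]
  rfl

/-! ### from the tables -/

section Tab

variable {k' : Type u} [Field k'] {p e : ℕ} [hpF : Fact p.Prime] [CharP k' p] {σ : MulAut ↥(D.group k')}
  {g : (Fin l → ℤ) ≃+ (Fin l → ℤ)} {X : Type v} [Group X] {e0 : X →* ↥(D.group k')} {d : ℕ}
  (S : Setup hp cs p e σ g e0 d)

/-- the odd prime divisors of `N` are at most `n` -/
def Small (N : ℤ) (n : ℕ) : Prop := ∀ r < N.natAbs + 1, r.Prime → r ≠ 2 → r ∣ N.natAbs → r ≤ n

instance decSmall (N : ℤ) (n : ℕ) : Decidable (Small N n) := by unfold Small; infer_instance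

omit [Group W] in
theorem Small.not_dvd {N : ℤ} {n r : ℕ} (h : Small N n) (hN : N ≠ 0) (hr : r.Prime) (hr2 : r ≠ 2)
    (hn : n ∣ r - 1) : ¬ (r : ℤ) ∣ N := by
  intro h1
  have h2 : r ∣ N.natAbs := Int.natCast_dvd.1 h1
  have h3 := Nat.le_of_dvd (Int.natAbs_pos.2 hN) h2
  have h4 := h r (by omega) hr hr2 h2
  have h5 := Nat.le_of_dvd (by have := hr.two_le; omega) hn
  have := hr.two_le
  omega

include hp in
theorem regAt_of_ck' {Al Bl : List (List ℤ)} (hA : MatList (cartanOf D l) Al) {word : List (Fin l)} {k n : ℕ}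
    {m : List (List ℤ)} {K : List (List ℤ × List ℤ × List ℤ × ℤ)} {N0 : ℤ} (H : RegCk D l Al Bl word k n m K N0)
    (hn : n ∈ H130.PolyL.idx) (hN0 : N0 ≠ 0) (hs : Small N0 n) {r : ℕ} (hr : r.Prime) (hr2 : r ≠ 2) {Q : ℤ}
    (hQ : ¬ (r : ℤ) ∣ Q) (hrn : orderOf (Q : ZMod r) = n) :
    RegAt cs hp.isCartan (cs.wordProd word ^ k) n r Q :=
  regAt_of_ck hp cs hA H hn hr hQ hrn (hs.not_dvd hN0 hr hr2 (by rw [← hrn]; exact ord_dvd hr hQ))

include S

theorem Setup.regE_ck [IsAlgClosed k'] [Finite W] [Finite X] {ε Q : ℤ} (hε : ε = 1 ∨ ε = -1)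
    (hQ : Q = ε * (p ^ e : ℕ)) (hT : ∀ w1, HasTor hp cs g ε w1) {Al Bl : List (List ℤ)}
    (hA : MatList (cartanOf D l) Al) {word : List (Fin l)} {k n : ℕ}
    {m : List (List ℤ)} {K : List (List ℤ × List ℤ × List ℤ × ℤ)} {N0 : ℤ} (H : RegCk D l Al Bl word k n m K N0)
    (hn : n ∈ H130.PolyL.idx) (hN0 : N0 ≠ 0) (hs : Small N0 n) : RegE X p d Q n :=
  S.regE_same hp cs hε hQ (hT (cs.wordProd word ^ k)) (rep_pow_eq_one hp cs hA word k n H.2.2.1)
    fun _ h1 h2 h3 h4 => regAt_of_ck' hp cs hA H hn hN0 hs h1 h2 h3 h4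

theorem Setup.regE_ck_neg [IsAlgClosed k'] [Finite W] [Finite X] {ε Q : ℤ} (hε : ε = 1 ∨ ε = -1)
    (hQ : Q = ε * (p ^ e : ℕ)) (hT : ∀ w1, HasTor hp cs g (-ε) w1) {Al Bl : List (List ℤ)}
    (hA : MatList (cartanOf D l) Al) {word : List (Fin l)} {k n : ℕ}
    {m : List (List ℤ)} {K : List (List ℤ × List ℤ × List ℤ × ℤ)} {N0 : ℤ} (H : RegCk D l Al Bl word k n m K N0)
    (hn0 : 0 < n) (hodd : ¬ 2 ∣ n) (hn : n ∈ H130.PolyL.idx) (hN0 : N0 ≠ 0) (hs : Small N0 n) :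
    RegE X p d Q (2 * n) :=
  S.regE_neg hp cs hε hQ (hT (cs.wordProd word ^ k)) hn0 hodd (rep_pow_eq_one hp cs hA word k n H.2.2.1)
    fun _ h1 h2 h3 h4 => regAt_of_ck' hp cs hA H hn hN0 hs h1 h2 h3 h4

theorem Setup.regE_one [IsAlgClosed k'] [Finite W] [Finite X] {ε Q : ℤ} (hε : ε = 1 ∨ ε = -1)
    (hQ : Q = ε * (p ^ e : ℕ)) (hT : ∀ w1, HasTor hp cs g ε w1) : RegE X p d Q 1 :=
  S.regE_same hp cs hε hQ (hT 1) (by rw [map_one, one_pow]) fun _ h1 _ h3 _ => regAt_one hp cs h1 h3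

theorem Setup.regE_two [IsAlgClosed k'] [Finite W] [Finite X] {ε Q : ℤ} (hε : ε = 1 ∨ ε = -1)
    (hQ : Q = ε * (p ^ e : ℕ)) (hT : ∀ w1, HasTor hp cs g (-ε) w1) : RegE X p d Q 2 :=
  S.regE_neg hp cs hε hQ (n := 1) (hT 1) one_pos (by norm_num) (by rw [map_one, one_pow])
    fun _ h1 _ h3 _ => regAt_one hp cs h1 h3

/-- **The abelian subgroups.** -/
theorem Setup.pos_of_hasF [IsAlgClosed k'] [Finite W] [Finite X] {ε : ℤ} (hε : ε = 1 ∨ ε = -1)
    {Al : List (List ℤ)} (hA : MatList (cartanOf D l) Al) (hT : ∀ w1, HasTor hp cs g ε w1) {Q : ℤ}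
    (hQ : Q = ε * (p ^ e : ℕ)) {n : ℕ} (hn0 : 0 < n) (hn : n ∈ H130.PolyL.idx) {degs : List ℕ}
    (H : HasF Al l degs n) {fs : ℤ} {N g' : ℕ} (hcard : g' * Nat.card X = (p ^ e) ^ N * fs.natAbs) {π : Set ℕ}
    (hπ : ∀ r ∈ π, r.Prime ∧ r ≠ 2 ∧ r ≠ p ∧ ¬ r ∣ d ∧ orderOf (Q : ZMod r) = n ∧
      (∀ i ∈ degs, n ∣ i → ¬ r ∣ i) ∧ ∃ R, fs = (Polynomial.cyclotomic n ℤ).eval Q ^
        (degs.filter (fun i => n ∣ i)).length * R ∧ ¬ (r : ℤ) ∣ R) :
    ∃ T : Subgroup X, IsMulCommutative T ∧ ∀ r ∈ π, ¬ r ∣ T.index := by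
  obtain ⟨word, k, c, xs, ys, hC, hc⟩ := H
  refine S.exists_torus_cert hp cs hε hA (hT _) hQ hn0 hn hC hcard fun r hr => ?_
  obtain ⟨h1, h2, h3, h4, h5, h6, h7⟩ := hπ r hr
  refine ⟨h1, h2, h3, h4, h5, fun h8 => ?_, h7⟩
  have h9 := h8.trans hc
  have h10 : (r : ℤ) ∣ (((degs.filter (fun i => n ∣ i)).prod : ℕ) : ℤ) := h9
  have h11 : r ∣ (degs.filter (fun i => n ∣ i)).prod := Int.natCast_dvd_natCast.1 h10
  obtain ⟨i, hi, hri⟩ := (Prime.dvd_prod_iff (Nat.prime_iff.1 h1)).1 h11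
  rw [List.mem_filter] at hi
  exact h6 i hi.1 (of_decide_eq_true hi.2) hri

end Tab

/-! ### bad primes -/

/-- the check for `not_cond_sum` -/
def SumCk (l : ℕ) (Al : List (List ℤ)) (word : List (Fin l)) (k N : ℕ) (m : List (List ℤ)) : Prop :=
  (m.length = l ∧ (∀ b ∈ m, b.length = l)) ∧ (∀ i : Fin l, acn Al word k (bas l i) = m.getD i []) ∧
  (∀ i : Fin l, acn Al word (k * N) (bas l i) = bas l i) ∧
  ∀ i : Fin l, sumIt l m N (bas l i) = List.replicate l 0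

instance decSumCk (l : ℕ) (Al : List (List ℤ)) (word : List (Fin l)) (k N : ℕ) (m : List (List ℤ)) :
    Decidable (SumCk l Al word k N m) := by unfold SumCk; infer_instance

/-- the check for `not_cond_count`: `b` the functional, `C` a bound for its values on the roots -/
def CountCk (D : ChevalleyDatum) (l : ℕ) (Al : List (List ℤ)) (word : List (Fin l)) (k N : ℕ)
    (m : List (List ℤ)) (b : List ℤ) (C : ℕ) : Prop :=
  (m.length = l ∧ (∀ b ∈ m, b.length = l)) ∧ (∀ i : Fin l, acn Al word k (bas l i) = m.getD i []) ∧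
  (∀ i : Fin l, acn Al word (k * N) (bas l i) = bas l i) ∧ b.length = l ∧ (∃ v ∈ rootL D l, dot b v = 1) ∧
  (∀ v ∈ rootL D l, (dot b v).natAbs < C) ∧
  (rootL D l).countP (fun v => dot b v = 0) < (rootL D l).countP (fun v => sumIt l m N v = List.replicate l 0)

instance decCountCk (D : ChevalleyDatum) (l : ℕ) (Al : List (List ℤ)) (word : List (Fin l)) (k N : ℕ)
    (m : List (List ℤ)) (b : List ℤ) (C : ℕ) : Decidable (CountCk D l Al word k N m b C) := by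
  unfold CountCk; infer_instance

section Bad

variable {k' : Type u} [Field k'] {p e : ℕ} [hpF : Fact p.Prime] [CharP k' p] {σ : MulAut ↥(D.group k')}
  {g : (Fin l → ℤ) ≃+ (Fin l → ℤ)} {X : Type v} [Group X] {e0 : X →* ↥(D.group k')} {d : ℕ}
  (S : Setup hp cs p e σ g e0 d)

theorem sum_of_ck {Al : List (List ℤ)} (hA : MatList (cartanOf D l) Al) {word : List (Fin l)} {k N : ℕ}
    {m : List (List ℤ)} (H : SumCk l Al word k N m) (x : Fin l → ℤ) :
    ∑ i ∈ Finset.range N, (rep cs hp.isCartan (cs.wordProd word ^ k) ^ i) x = 0 := by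
  obtain ⟨⟨h1, h2⟩, h3, -, h4⟩ := H
  have h5 : ∑ i ∈ Finset.range N, rep cs hp.isCartan (cs.wordProd word ^ k) ^ i = 0 := by
    apply LinearMap.pi_ext'
    intro i
    apply LinearMap.ext_ring
    show (∑ j ∈ Finset.range N, rep cs hp.isCartan (cs.wordProd word ^ k) ^ j) (Pi.single i 1) = 0
    rw [LinearMap.sum_apply, ← toFn_bas, ← toFn_sumIt h1 h2 (rep_single hp cs hA word k h3) N _ (length_bas i.1), h4 i,
      toFn_replicate]
  rw [← LinearMap.sum_apply, h5, LinearMap.zero_apply]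

include S

/-- **Bad primes, first version**, from a table. -/
theorem Setup.not_cond_sum_ck [IsAlgClosed k'] [Finite W] [Finite X] {π : Set ℕ} {r s' : ℕ} (hrp : r.Prime)
    (hsp : s'.Prime) (hr : r ∈ π) (hs' : s' ∈ π) (hrs : r ≠ s') (hrc : r ≠ p) (hrd : ¬ r ∣ d) (hr2 : r ≠ 2)
    (hsX : s' ∣ Nat.card X) {ε Q : ℤ} (hε : ε = 1 ∨ ε = -1) (hQ : Q = ε * (p ^ e : ℕ)) {word : List (Fin l)}
    {k1 k2 : ℕ} (hT : HasTor hp cs g ε (cs.wordProd word ^ k1)) {n : ℕ} (hn0 : 0 < n)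
    (hw : rep cs hp.isCartan (cs.wordProd word ^ k1) ^ n = 1) (hrQ : (r : ℤ) ∣ Q ^ n - 1)
    (hreg : RegAt cs hp.isCartan (cs.wordProd word ^ k1) n r Q) {Al : List (List ℤ)}
    (hA : MatList (cartanOf D l) Al) {m : List (List ℤ)} {j : ℕ} (H : SumCk l Al word k2 (r ^ j) m) :
    ¬ Cond π X := by
  refine S.not_cond_sum hp cs hrp hsp hr hs' hrs hrc hrd hr2 hsX hε hQ hT hn0 hw hrQ hreg
    (sW := cs.wordProd word ^ k2) (fun x => ?_) (rep_pow_eq_one hp cs hA word k2 (r ^ j) H.2.2.1) ![1] (fun x => ?_) ?_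
  · rw [← Module.End.mul_apply, ← Module.End.mul_apply, ← map_mul, ← map_mul, ← pow_add, ← pow_add, add_comm]
  · rw [Fin.sum_univ_one]
    show ∑ i ∈ Finset.range (r ^ j), (rep cs hp.isCartan (cs.wordProd word ^ k2) ^ i)
      ((1 : ℤ) • (rep cs hp.isCartan (cs.wordProd word ^ k1) ^ 0) x) = 0
    rw [one_smul, pow_zero, Module.End.one_apply]
    exact sum_of_ck hp cs hA H x
  · rw [Fin.sum_univ_one]
    show ¬ (s' : ℤ) ∣ 1 * Q ^ 0
    rw [pow_zero, mul_one]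
    intro h
    have h1 : s' ∣ 1 := by exact_mod_cast h
    exact hsp.one_lt.ne' (Nat.dvd_one.1 h1)

/-- **Bad primes, second version**, from a table. -/
theorem Setup.not_cond_count_ck [IsAlgClosed k'] [Finite W] [Finite X] {π : Set ℕ} {r s' : ℕ} (hrp : r.Prime)
    (hsp : s'.Prime) (hr : r ∈ π) (hs' : s' ∈ π) (hrs : r ≠ s') (hrc : r ≠ p) (hsc : s' ≠ p) (hrd : ¬ r ∣ d)
    (hsd : ¬ s' ∣ d) (hr2 : r ≠ 2) (hs2 : s' ≠ 2)
    {ε Q : ℤ} (hε : ε = 1 ∨ ε = -1) (hQ : Q = ε * (p ^ e : ℕ))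
    (hT : HasTor hp cs g ε (1 : W)) (hrQ : (r : ℤ) ∣ Q - 1) (hsQ : (s' : ℤ) ∣ Q - 1)
    {Al : List (List ℤ)} (hA : MatList (cartanOf D l) Al) {word : List (Fin l)} {k : ℕ} {m : List (List ℤ)} {j : ℕ}
    {b : List ℤ} {C : ℕ} (H : CountCk D l Al word k (r ^ j) m b C) (hsC : C ≤ s') : ¬ Cond π X := by
  obtain ⟨⟨h1, h2⟩, h3, h4, h5, ⟨v0, hv0, hv0'⟩, h6, h7⟩ := H
  have hlen : ∀ v ∈ rootL D l, v.length = l := by
    intro v hv
    obtain ⟨r, -, rfl⟩ := List.mem_map.1 hv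
    rw [List.length_map, List.length_finRange]
  have hL : ∀ v ∈ rootL D l, (fn l b).toAddMonoidHom (toFn l v) = dot b v := fun v hv =>
    (dot_eq b v h5 (hlen v hv)).symm
  refine S.not_cond_count hp cs hrp hsp hr hs' hrs hrc hsc hrd hsd hr2 hs2 hε hQ hT hrQ hsQ
    (sW := cs.wordProd word ^ k) (j := j) (rep_pow_eq_one hp cs hA word k (r ^ j) h4) (fn l b).toAddMonoidHom ?_ ?_
  · refine ⟨toFn l v0, ?_⟩
    rw [hL v0 hv0, hv0']
    intro h
    have h1 : s' ∣ 1 := by exact_mod_cast h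
    exact hsp.one_lt.ne' (Nat.dvd_one.1 h1)
  · rw [ncard_root hp cs (fun a => (s' : ℤ) ∣ (fn l b).toAddMonoidHom a) (fun v => dot b v = 0) (fun v hv => ?_),
      ncard_root hp cs (fun a => ∑ i ∈ Finset.range (r ^ j), (rep cs hp.isCartan (cs.wordProd word ^ k) ^ i) a = 0)
        (fun v => sumIt l m (r ^ j) v = List.replicate l 0) (fun v hv => ?_)]
    · exact h7
    · rw [← toFn_sumIt h1 h2 (rep_single hp cs hA word k h3) _ _ (hlen v hv), decide_eq_true_iff]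
      constructor
      · intro h
        rw [h, toFn_replicate]
      · intro h
        have hl := length_sumIt h2 (r ^ j) v (hlen v hv)
        refine List.ext_getElem (by rw [hl, List.length_replicate]) fun i hi hi' => ?_
        rw [hl] at hi
        have h8 := congrFun h ⟨i, hi⟩
        rw [List.getElem_replicate]
        have h9 : toFn l (sumIt l m (r ^ j) v) ⟨i, hi⟩ = (sumIt l m (r ^ j) v).getD i 0 := rfl
        rw [h9, List.getD_eq_getElem _ _ (by rw [hl]; exact hi)] at h8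
        exact h8
    · rw [hL v hv, decide_eq_true_iff]
      constructor
      · intro h
        rw [h]
        exact dvd_zero _
      · intro h
        have h8 := h6 v hv
        have h9 : s' ∣ (dot b v).natAbs := Int.natCast_dvd.1 h
        have h10 := Nat.eq_zero_of_dvd_of_lt h9 (by omega)
        exact Int.natAbs_eq_zero.1 h10

end Bad

end Cfsg.Agent.H630.Exc
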