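import Cfsg.Agent.H630.ExcG

/-!
# Twisted tori with `θ = ε R` (helper630)

`R : Module.End ℤ (Fin l → ℤ)` with `θ = ε R`, `R ^ N = 1` (used for `³D₄`).

* `Lq_eqR`, `Setup.torus_annih` : `t ^ |∑ c_j Q^j| = 1` if `∑ c_j R^j = 0`;
* `Setup.pow_eq_oneR` : theorem A;
* `Setup.pow_dvd_card_tXR`, `Setup.exists_torusR` : the order of the torus, for primes `r` with `Q` of order `n ∣ N`.
-/

set_option autoImplicit false
set_option linter.unusedSectionVars false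

namespace Cfsg.Agent.H630.Exc

open CoxeterSystem Cfsg Cfsg.Lie Cfsg.Lie.ChevalleyDatum
open Cfsg.Agent.ChevalleyStructure Cfsg.Agent.ChevalleyStructure.Elts Cfsg.Agent.ChevalleyStructure.CoxeterGeom
  Cfsg.Agent.ChevalleyStructure.CoxeterGeomTypes Cfsg.Agent.ChevalleyStructure.NPerm
open Cfsg.Agent.Tits.Roots Cfsg.Agent.Tits.Core Cfsg.Agent.Nodes Cfsg.Agent.Nodes.Reps Cfsg.Agent.Nodes.BNOf
  Cfsg.Agent.Nodes.RGDChev Cfsg.Agent.Nodes.Bruhat Cfsg.Agent.Nodes.SubComb Cfsg.Agent.Nodes.Coroot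
open Cfsg.Agent.KFacts.RgdField Cfsg.Agent.KFacts.RgdChevCoord Cfsg.Agent.BpExc.TorCent Cfsg.Agent.BpExc.TorChev
open Cfsg.Agent.GpExc.Field Cfsg.Agent.BpExc.Tow Cfsg.Agent.BpExc.TowChev Cfsg.Agent.BpExc.Fr
  Cfsg.Agent.BpExc.LangFr Cfsg.Agent.LangThm Cfsg.Agent.BpExc Cfsg.Agent.H129.TorusChar Cfsg.Agent.H129.TorusMain
open Cfsg.Agent.H129.TorAct (cX_tau tau_mem exists_theta)
open Cfsg.Agent.H630.NH
open Polynomial (cyclotomic aeval natDegree_cyclotomic)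

universe u v

variable {D : ChevalleyDatum} {l : ℕ} {M : CoxeterMatrix (Fin l)} (hp : IsType D l M) {k : Type u} [Field k]
  {W : Type*} [Group W] (cs : CoxeterSystem M W)

variable {p e : ℕ} [Fact p.Prime] [CharP k p] {σ : MulAut ↥(D.group k)} {g : (Fin l → ℤ) ≃+ (Fin l → ℤ)}
  {X : Type v} [Group X] {e0 : X →* ↥(D.group k)} {d : ℕ} (S : Setup hp cs p e σ g e0 d)

section R

variable {w : W} {R : Module.End ℤ (Fin l → ℤ)} {ε : ℤ}

theorem theta_iterR (h : ∀ x, theta hp cs w g x = ε • R x) (j : ℕ)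
    (x : Fin l → ℤ) : (theta hp cs w g)^[j] x = ε ^ j • (R ^ j) x := by
  induction j with
  | zero => rw [Function.iterate_zero_apply, pow_zero, one_smul, pow_zero, Module.End.one_apply]
  | succ j ih => rw [Function.iterate_succ_apply', ih, map_zsmul, h, smul_smul, pow_succ, pow_succ',
      Module.End.mul_apply]

theorem theta_powR (hε : ε = 1 ∨ ε = -1) (h : ∀ x, theta hp cs w g x = ε • R x) {N : ℕ} (hR : R ^ N = 1)
    (x : Fin l → ℤ) : (theta hp cs w g)^[2 * N] x = x := by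
  rw [theta_iterR hp cs h, eps_pow_two hε, one_smul, mul_comm, pow_mul, hR, one_pow, Module.End.one_apply]

theorem Lq_eqR (hε : ε = 1 ∨ ε = -1) (h : ∀ x, theta hp cs w g x = ε • R x)
    {N : ℕ} (hR : R ^ N = 1) (q : ℕ) {Q : ℤ} (hQ : Q = ε * q) (L : (Fin l → ℤ) →+ ℤ) (a : Fin l → ℤ) :
    Lq L (theta hp cs w g) q (2 * N) a =
      (Q ^ N + 1) * ∑ j ∈ Finset.range N, Q ^ (N - j) * L ((R ^ j) a) := by
  unfold Lq
  have h1 : ∀ j ∈ Finset.range (2 * N), (q : ℤ) ^ (2 * N - j) * L ((theta hp cs w g)^[j] a) =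
      Q ^ (2 * N - j) * L ((R ^ j) a) := by
    intro j hj
    rw [Finset.mem_range] at hj
    rw [theta_iterR hp cs h, map_zsmul, smul_eq_mul, hQ, mul_pow, ← mul_assoc]
    congr 1
    rw [mul_comm]
    congr 1
    have h2 := eps_pow_two hε N
    have h3 : ε ^ (2 * N) = ε ^ (2 * N - j) * ε ^ j := by rw [← pow_add]; congr 1; omega
    rcases hε with rfl | rfl
    · rw [one_pow, one_pow]
    · rw [h2] at h3
      rcases neg_one_pow_eq_or ℤ j with h4 | h4 <;> rw [h4] at h3 ⊢ <;> linarith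
  rw [Finset.sum_congr rfl h1, two_mul, Finset.sum_range_add, add_mul, one_mul, Finset.mul_sum]
  congr 1
  · refine Finset.sum_congr rfl fun j hj => ?_
    rw [Finset.mem_range] at hj
    rw [← mul_assoc, ← pow_add]
    congr 2
    omega
  · refine Finset.sum_congr rfl fun j hj => ?_
    rw [Finset.mem_range] at hj
    rw [pow_add, hR, one_mul]
    congr 2
    omega

/-- `R` on characters of the twisted torus -/
theorem cX_R (hε : ε = 1 ∨ ε = -1) (h : ∀ x, theta hp cs w g x = ε • R x) {Q : ℤ} (hQ : Q = ε * (p ^ e : ℕ))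
    {t : ↥(D.group k)} (ht : t ∈ TT D k) (hθ : ∀ x, cX hp t (theta hp cs w g x) = cX hp t x ^ p ^ e)
    (j : ℕ) (x : Fin l → ℤ) : cX hp t ((R ^ j) x) = cX hp t x ^ (Q ^ j) := by
  have hmc := isMC_cX hp ht
  have h1 : ∀ x, cX hp t (R x) = cX hp t x ^ Q := by
    intro x
    have h2 := hθ x
    rw [h, hmc.zsmul] at h2
    rw [hQ, mul_comm, zpow_mul, zpow_natCast, ← h2, ← zpow_mul]
    rcases hε with rfl | rfl <;> simp
  induction j with
  | zero => rw [pow_zero, pow_zero, Module.End.one_apply, zpow_one]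
  | succ j ih => rw [pow_succ', Module.End.mul_apply, h1, ih, pow_succ, zpow_mul]

/-- The exponent of a twisted torus. -/
theorem torus_annih (hε : ε = 1 ∨ ε = -1) (h : ∀ x, theta hp cs w g x = ε • R x) {Q : ℤ} (hQ : Q = ε * (p ^ e : ℕ))
    {t : ↥(D.group k)} (ht : t ∈ TT D k) (hθ : ∀ x, cX hp t (theta hp cs w g x) = cX hp t x ^ p ^ e)
    {m : ℕ} {c : Fin m → ℤ} (hc : ∀ x, ∑ j : Fin m, c j • (R ^ (j : ℕ)) x = 0) :
    t ^ (∑ j : Fin m, c j * Q ^ (j : ℕ)).natAbs = 1 := by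
  have hmc := isMC_cX hp ht
  refine cX_inj hp (pow_mem ht _) (one_mem _) fun i => ?_
  rw [cX_pow hp ht, cX_one]
  obtain ⟨x, hx⟩ : ∃ x : Fin l → ℤ, x = sr i := ⟨_, rfl⟩
  rw [← hx]
  have h0 := hmc.ne_zero x
  have h1 : cX hp t x ^ (∑ j : Fin m, c j * Q ^ (j : ℕ)) = 1 := by
    have h2 := hmc.sum Finset.univ (fun j : Fin m => c j • (R ^ (j : ℕ)) x)
    rw [hc, hmc.zero] at h2
    rw [h2]
    have h3 : ∀ (s : Finset (Fin m)), cX hp t x ^ (∑ j ∈ s, c j * Q ^ (j : ℕ)) =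
        ∏ j ∈ s, cX hp t (c j • (R ^ (j : ℕ)) x) := by
      intro s
      classical
      induction s using Finset.induction_on with
      | empty => simp
      | insert a s ha ih =>
        rw [Finset.sum_insert ha, Finset.prod_insert ha, zpow_add₀ h0, ih, hmc.zsmul,
          cX_R hp cs hε h hQ ht hθ, ← zpow_mul, mul_comm (Q ^ _)]
    exact h3 Finset.univ
  rw [← zpow_natCast, Int.natCast_natAbs]
  rcases abs_choice (∑ j : Fin m, c j * Q ^ (j : ℕ)) with h4 | h4 <;> rw [h4]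
  · exact h1
  · rw [zpow_neg, h1, inv_one]

include S

/-- **Theorem A.** -/
theorem Setup.pow_eq_oneR [IsAlgClosed k] [Finite W] [Finite X] {π : Set ℕ} {r s : ℕ} (hrp : r.Prime)
    (hsp : s.Prime) (hr : r ∈ π) (hs : s ∈ π) (hrs : r ≠ s) (hrc : r ≠ p) (hrd : ¬ r ∣ d) (hr2 : r ≠ 2)
    (hε : ε = 1 ∨ ε = -1) (h : ∀ x, theta hp cs w g x = ε • R x) {N : ℕ} (hR : R ^ N = 1) {Q : ℤ}
    (hQ : Q = ε * (p ^ e : ℕ)) (hrQ : (r : ℤ) ∣ Q ^ N - 1)
    (hreg : ∀ a, IsRoot cs hp.isCartan a → ∃ L : (Fin l → ℤ) →+ ℤ,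
      ¬ (r : ℤ) ∣ ∑ j ∈ Finset.range N, Q ^ (N - j) * L ((R ^ j) a))
    {m : ℕ} {c : Fin m → ℤ} (hc' : ∀ x, ∑ j : Fin m, c j • (R ^ (j : ℕ)) x = 0)
    (hc : Cond π X) {y : X} (hy : ∃ m, orderOf y = s ^ m) : y ^ (∑ j : Fin m, c j * Q ^ (j : ℕ)).natAbs = 1 := by
  have hrZ := Nat.prime_iff_prime_int.1 hrp
  refine S.pow_eq_one hp cs hrp hsp hr hs hrs hrc hrd w (n := 2 * N) (theta_powR hp cs hε h hR) ?_ (fun a ha => ?_)
    (fun t ht hθ => torus_annih hp cs hε h hQ ht hθ hc') hc hy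
  · have h1 : ((p ^ e : ℕ) : ℤ) ^ (2 * N) = Q ^ (2 * N) := by rw [hQ, mul_pow, eps_pow_two hε, one_mul]
    rw [h1]
    refine hrQ.trans ⟨Q ^ N + 1, ?_⟩
    ring
  · obtain ⟨L, hL⟩ := hreg a ha
    refine ⟨L, fun h1 => ?_⟩
    rw [Lq_eqR hp cs hε h hR _ hQ] at h1
    rcases hrZ.dvd_mul.1 h1 with h2 | h2
    · have h3 : (r : ℤ) ∣ 2 := by
        have h4 := dvd_sub h2 hrQ
        have h5 : Q ^ N + 1 - (Q ^ N - 1) = 2 := by ring
        rwa [h5] at h4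
      have h4 : r ∣ 2 := by exact_mod_cast h3
      exact hr2 ((Nat.prime_dvd_prime_iff_eq hrp Nat.prime_two).1 h4)
    · exact hL h2

open Polynomial in
/-- **The order of a twisted torus.** -/
theorem Setup.pow_dvd_card_tXR [IsAlgClosed k] [Finite W] [Finite X] {hN : NSys M (TT D k) (nc hp k)}
    (hε : ε = 1 ∨ ε = -1) (h : ∀ x, theta hp cs w g x = ε • R x)
    {n' z : ↥(D.group k)} (hn' : Rp cs hN w n') (hz : n' = z⁻¹ * σ z) {r : ℕ} (hr : r.Prime) (hrp : r ≠ p)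
    (hrd : ¬ r ∣ d) (hr2 : r ≠ 2) {Q : ℤ} (hQ : Q = ε * (p ^ e : ℕ)) {n N : ℕ} (hn : orderOf (Q : ZMod r) = n)
    (hR : R ^ N = 1) (hnN : n ∣ N) (hrN : ¬ r ∣ N)
    {a : ℕ} (x : Fin a → Fin l → ℤ) (y : Fin a → ((Fin l → ℤ) →ₗ[ℤ] ℤ)) (c : ℤ)
    (hc : ¬ (r : ℤ) ∣ c) (hx : ∀ i, aeval R (cyclotomic n ℤ) (x i) = 0)
    (hy : ∀ i i', ∀ j < (cyclotomic n ℤ).natDegree, y i ((R ^ j) (x i')) =
      if i = i' ∧ j + 1 = (cyclotomic n ℤ).natDegree then c else 0)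
    {v : ℕ} (hv : ((r ^ v : ℕ) : ℤ) ∣ (cyclotomic n ℤ).eval Q) : (r ^ v) ^ a ∣ Nat.card (tX D k e0 z) := by
  classical
  have : Fact r.Prime := ⟨hr⟩
  obtain ⟨m, hm⟩ : ∃ m, m = r ^ v := ⟨_, rfl⟩
  rw [← hm] at hv ⊢
  have hrZ := Nat.prime_iff_prime_int.1 hr
  have hpp : p.Prime := Fact.out
  have hcr : ¬ r ∣ p := fun h => hrp ((Nat.prime_dvd_prime_iff_eq hr hpp).1 h)
  have hQr : ¬ (r : ℤ) ∣ Q := by
    intro h2
    apply hcr
    have h3 : r ∣ Q.natAbs := Int.natCast_dvd.1 h2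
    have h4 : Q.natAbs = p ^ e := by
      rw [hQ, Int.natAbs_mul]
      rcases hε with rfl | rfl <;> simp
    rw [h4] at h3
    exact hr.dvd_of_dvd_pow h3
  have hn0 : 0 < n := by rw [← hn]; exact ord_pos hr hQr
  have hrk : (r : k) ≠ 0 := by
    rw [Ne, CharP.cast_eq_zero_iff k p]
    intro h
    exact hrp ((Nat.prime_dvd_prime_iff_eq hpp hr).1 h).symm
  have hmk : (m : k) ≠ 0 := by rw [hm, Nat.cast_pow]; exact pow_ne_zero _ hrk
  have hm0 : 0 < m := by rw [hm]; exact pow_pos hr.pos _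
  have hmQn : (m : ℤ) ∣ Q ^ N - 1 := by
    have h1 : (cyclotomic n ℤ) ∣ Polynomial.X ^ n - 1 := cyclotomic.dvd_X_pow_sub_one n ℤ
    have h2 := eval_dvd (x := Q) h1
    rw [eval_sub, eval_pow, eval_X, eval_one] at h2
    obtain ⟨N', rfl⟩ := hnN
    have h3 : Q ^ n - 1 ∣ Q ^ (n * N') - 1 := by
      rw [pow_mul]
      have := sub_dvd_pow_sub_pow (Q ^ n) 1 N'
      rwa [one_pow] at this
    exact (hv.trans h2).trans h3
  have hmq : (m : ℤ) ∣ ((p ^ e : ℕ) : ℤ) ^ (2 * N) - 1 := by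
    have h1 : ((p ^ e : ℕ) : ℤ) ^ (2 * N) = Q ^ (2 * N) := by rw [hQ, mul_pow, eps_pow_two hε, one_mul]
    rw [h1]
    exact hmQn.trans ⟨Q ^ N + 1, by ring⟩
  have hθ : ∀ x, (theta hp cs w g)^[2 * N] x = x := theta_powR hp cs hε h hR
  obtain ⟨B, d', hd', hB⟩ := S.inv
  obtain ⟨ζ, hζ, hz0, hchar⟩ := exists_char hp hB hd' (q := p ^ e) (n := 2 * N) hθ hmk hmq
  -- the elements of `X`
  have hex : ∀ c' : Fin a → Fin m, ∃ x' : X, x' ∈ tXr hp S.inj z m ∧ ∀ b, cX hp (z⁻¹ * e0 x' * z) b =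
      ζ ^ Lq (∑ i, ((c' i : ℕ) : ℤ) • (y i).toAddMonoidHom) (theta hp cs w g) (p ^ e) (2 * N) b := by
    intro c'
    obtain ⟨t, ht, h1, h2, h3⟩ := hchar (∑ i, ((c' i : ℕ) : ℤ) • (y i).toAddMonoidHom)
    obtain ⟨x', hx'⟩ := S.exists_of_tau hp cs hz ((tau_iff hp cs S.lf S.frob S.fr hn' ht).2 h1) hr hrd ⟨v, by
      rw [← hm]; exact h2⟩
    refine ⟨x', ⟨by rw [mem_tX, hx']; exact ht, ?_⟩, fun b => by rw [hx', h3]⟩
    apply S.inj
    have h4 := S.conj_pow_eq hp cs (y := x') (z := z) m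
    rw [hx', h2] at h4
    rw [map_one]
    have h5 : e0 (x' ^ m) = z * (z⁻¹ * e0 (x' ^ m) * z) * z⁻¹ := by group
    rw [h5, ← h4]; group
  choose F hF1 hF2 using hex
  -- injectivity
  have hPm : (cyclotomic n ℤ).Monic := cyclotomic.monic n ℤ
  have hPd : 0 < (cyclotomic n ℤ).natDegree := by
    rw [natDegree_cyclotomic]
    exact Nat.totient_pos.2 hn0
  have hinj : Function.Injective F := by
    intro c1 c2 he
    funext i
    have h1 : ∀ b, (m : ℤ) ∣ Lq (∑ i, ((c1 i : ℕ) : ℤ) • (y i).toAddMonoidHom) (theta hp cs w g) (p ^ e) (2 * N) b -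
        Lq (∑ i, ((c2 i : ℕ) : ℤ) • (y i).toAddMonoidHom) (theta hp cs w g) (p ^ e) (2 * N) b := by
      intro b
      rw [← hζ.zpow_eq_one_iff_dvd, zpow_sub₀ hz0, div_eq_one_iff_eq (zpow_ne_zero _ hz0), ← hF2, ← hF2, he]
    have h2 : ∀ c' : Fin a → Fin m, ∃ u : ℤ,
        Lq (∑ i, ((c' i : ℕ) : ℤ) • (y i).toAddMonoidHom) (theta hp cs w g) (p ^ e) (2 * N)
          (aeval R (cyclotomic n ℤ /ₘ (Polynomial.X - C Q)) (x i)) =
          ((Q ^ N + 1) * (N * Q ^ N * c)) * ((c' i : ℕ) : ℤ) + m * u := by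
      intro c'
      set L : (Fin l → ℤ) →+ ℤ := ∑ i, ((c' i : ℕ) : ℤ) • (y i).toAddMonoidHom with hL
      set zi := aeval R (cyclotomic n ℤ /ₘ (Polynomial.X - C Q)) (x i) with hzi
      have hLz : L zi = c * ((c' i : ℕ) : ℤ) := by
        rw [hL, AddMonoidHom.finsetSum_apply]
        have h3 : ∀ i', y i' zi = if i' = i then c else 0 := by
          intro i'
          refine H130.Cok.functional hPm hPd Q (y i') (x i) _ fun j hj => ?_
          rw [hy i' i j hj]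
          by_cases h : i' = i
          · simp [h]
          · simp [h]
        rw [Finset.sum_eq_single i]
        · show ((c' i : ℕ) : ℤ) * y i zi = _
          rw [h3, if_pos rfl, mul_comm]
        · intro i' _ hi'
          show ((c' i' : ℕ) : ℤ) * y i' zi = 0
          rw [h3, if_neg hi', mul_zero]
        · intro h; exact absurd (Finset.mem_univ _) h
      have h3 : ∀ j : ℕ, ∃ u : ℤ, L ((R ^ j) zi) = Q ^ j * L zi + m * u := by
        intro j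
        obtain ⟨u, hu⟩ := exists_eig hv (hx i) j
        exact ⟨L u, by rw [hzi, hu, map_add, map_zsmul, map_zsmul, smul_eq_mul, smul_eq_mul]⟩
      choose u hu using h3
      refine ⟨(Q ^ N + 1) * ∑ j ∈ Finset.range N, Q ^ (N - j) * u j, ?_⟩
      rw [Lq_eqR hp cs hε h hR _ hQ]
      have h4 : ∀ j ∈ Finset.range N, Q ^ (N - j) * L ((R ^ j) zi) =
          Q ^ N * L zi + m * (Q ^ (N - j) * u j) := by
        intro j hj
        rw [Finset.mem_range] at hj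
        rw [hu j, mul_add, ← mul_assoc, ← pow_add, Nat.sub_add_cancel hj.le]
        ring
      rw [Finset.sum_congr rfl h4, Finset.sum_add_distrib, Finset.sum_const, Finset.card_range, ← Finset.mul_sum, hLz,
        nsmul_eq_mul]
      ring
    obtain ⟨u1, hu1⟩ := h2 c1
    obtain ⟨u2, hu2⟩ := h2 c2
    have h3 := h1 (aeval R (cyclotomic n ℤ /ₘ (Polynomial.X - C Q)) (x i))
    rw [hu1, hu2] at h3
    have h4 : (m : ℤ) ∣ ((Q ^ N + 1) * (N * Q ^ N * c)) * (((c1 i : ℕ) : ℤ) - ((c2 i : ℕ) : ℤ)) := by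
      have h5 := dvd_sub h3 (dvd_mul_right (m : ℤ) (u1 - u2))
      have h6 : (Q ^ N + 1) * (N * Q ^ N * c) * ((c1 i : ℕ) : ℤ) + m * u1 -
        ((Q ^ N + 1) * (N * Q ^ N * c) * ((c2 i : ℕ) : ℤ) + m * u2) - m * (u1 - u2) =
        ((Q ^ N + 1) * (N * Q ^ N * c)) * (((c1 i : ℕ) : ℤ) - ((c2 i : ℕ) : ℤ)) := by ring
      rwa [h6] at h5
    have hcop : IsCoprime (m : ℤ) ((Q ^ N + 1) * (N * Q ^ N * c)) := by
      rw [hm, Nat.cast_pow]
      apply IsCoprime.pow_left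
      rw [hrZ.irreducible.coprime_iff_not_dvd]
      intro h
      rcases hrZ.dvd_mul.1 h with h | h
      · have h3 : (r : ℤ) ∣ Q ^ N - 1 := (dvd_pow_sub_one_iff N).2 (by rw [hn]; exact hnN)
        have h4 := dvd_sub h h3
        have h5 : Q ^ N + 1 - (Q ^ N - 1) = 2 := by ring
        rw [h5] at h4
        have h6 : r ∣ 2 := by exact_mod_cast h4
        exact hr2 ((Nat.prime_dvd_prime_iff_eq hr Nat.prime_two).1 h6)
      · rcases hrZ.dvd_mul.1 h with h | h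
        · rcases hrZ.dvd_mul.1 h with h | h
          · exact hrN (Int.natCast_dvd_natCast.1 h)
          · exact hQr (hrZ.dvd_of_dvd_pow h)
        · exact hc h
    have h5 := hcop.dvd_of_dvd_mul_left h4
    apply Fin.ext
    have h6 : ((c1 i : ℕ) : ℤ) - ((c2 i : ℕ) : ℤ) = 0 := by
      apply Int.eq_zero_of_abs_lt_dvd h5
      have := (c1 i).2
      have := (c2 i).2
      rw [abs_lt]
      constructor <;> omega
    omega
  -- counting
  have hK : IsPGroup r (tXr hp S.inj z m) := by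
    rintro ⟨x', hx'⟩
    exact ⟨v, Subtype.ext (by rw [← hm]; exact hx'.2)⟩
  obtain ⟨j, hj⟩ := IsPGroup.iff_card.1 hK
  have hle : m ^ a ≤ Nat.card (tXr hp S.inj z m) := by
    have h1 : Nat.card (Fin a → Fin m) = m ^ a := by
      rw [Nat.card_fun, Nat.card_fin, Nat.card_fin]
    rw [← h1]
    exact Nat.card_le_card_of_injective (fun c' => (⟨F c', hF1 c'⟩ : tXr hp S.inj z m)) fun c1 c2 h =>
      hinj (congrArg Subtype.val h)
  have h1 : m ^ a ∣ Nat.card (tXr hp S.inj z m) := by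
    rw [hj] at hle ⊢
    rw [hm, ← pow_mul] at hle ⊢
    exact pow_dvd_pow r ((Nat.pow_le_pow_iff_right hr.one_lt).1 hle)
  exact h1.trans (Subgroup.card_dvd_of_le fun x' hx' => hx'.1)

open Polynomial in
/-- **The abelian subgroup.** -/
theorem Setup.exists_torusR [IsAlgClosed k] [Finite W] [Finite X] (hε : ε = 1 ∨ ε = -1)
    (h : ∀ x, theta hp cs w g x = ε • R x) {Q : ℤ} (hQ : Q = ε * (p ^ e : ℕ)) {n N : ℕ} (hn0 : 0 < n)
    (hR : R ^ N = 1) (hnN : n ∣ N) {a : ℕ} (x : Fin a → Fin l → ℤ) (y : Fin a → ((Fin l → ℤ) →ₗ[ℤ] ℤ)) (c : ℤ)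
    (hx : ∀ i, aeval R (cyclotomic n ℤ) (x i) = 0)
    (hy : ∀ i i', ∀ j < (cyclotomic n ℤ).natDegree, y i ((R ^ j) (x i')) =
      if i = i' ∧ j + 1 = (cyclotomic n ℤ).natDegree then c else 0)
    {fs : ℤ} {N' g' : ℕ} (hcard : g' * Nat.card X = (p ^ e) ^ N' * fs.natAbs) {π : Set ℕ}
    (hπ : ∀ r ∈ π, r.Prime ∧ r ≠ 2 ∧ r ≠ p ∧ ¬ r ∣ d ∧ orderOf (Q : ZMod r) = n ∧ ¬ r ∣ N ∧ ¬ (r : ℤ) ∣ c ∧
      ∃ R', fs = (cyclotomic n ℤ).eval Q ^ a * R' ∧ ¬ (r : ℤ) ∣ R') :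
    ∃ T : Subgroup X, IsMulCommutative T ∧ ∀ r ∈ π, ¬ r ∣ T.index := by
  have hNs := S.nsys hp cs
  obtain ⟨n', hn'⟩ := exists_rp cs hNs w
  obtain ⟨z, hz⟩ := lang_all hp cs S.pos S.frob S.fr 1 n'
  rw [map_one, one_mul] at hz
  refine ⟨tX D k e0 z, ⟨⟨fun a b => Subtype.ext (tX_comm hp S.inj z a.2 b.2)⟩⟩, fun r hr => ?_⟩
  obtain ⟨hrp, hr2, hrc, hrd, hrn, hrN, hcr, hR'⟩ := hπ r hr
  have hQ1 : 1 < Q.natAbs := by
    have h4 : Q.natAbs = p ^ e := by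
      rw [hQ, Int.natAbs_mul]
      rcases hε with rfl | rfl <;> simp
    rw [h4]
    exact Nat.one_lt_pow S.pos.ne' (Fact.out : p.Prime).one_lt
  obtain ⟨v, b, hv, hb⟩ := exists_part hrp (cyclotomic_eval_ne_zero hn0 hQ1)
  refine not_dvd_index _ hrp hR' (fun h => ?_) hcard hv hb
    (S.pow_dvd_card_tXR hp cs hε h hn' hz hrp hrc hrd hr2 hQ hrn hR hnN hrN x y c hcr hx hy (v := v) ⟨b, hv⟩)
  exact hrc ((Nat.prime_dvd_prime_iff_eq hrp (Fact.out : p.Prime)).1 (hrp.dvd_of_dvd_pow h))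

end R

end Cfsg.Agent.H630.Exc
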