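import Cfsg.Agent.H630.ExcRowsA
import Cfsg.Agent.S1064

/-!
# The row of `E₇` in cross characteristic (helper630)
-/

set_option autoImplicit false
set_option linter.unusedSectionVars false
set_option linter.unusedVariables false

namespace Cfsg.Agent.H630.Exc

open CoxeterSystem Cfsg Cfsg.Lie Cfsg.Lie.ChevalleyDatum
open Cfsg.Agent.ChevalleyStructure Cfsg.Agent.ChevalleyStructure.Elts Cfsg.Agent.ChevalleyStructure.CoxeterGeom
  Cfsg.Agent.ChevalleyStructure.CoxeterGeomTypes Cfsg.Agent.ChevalleyStructure.NPerm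
open Cfsg.Agent.Tits.Roots Cfsg.Agent.Tits.Core Cfsg.Agent.Nodes Cfsg.Agent.Nodes.Reps Cfsg.Agent.Nodes.BNOf
  Cfsg.Agent.Nodes.RGDChev Cfsg.Agent.Nodes.Bruhat Cfsg.Agent.Nodes.SubComb Cfsg.Agent.Nodes.Coroot
open Cfsg.Agent.KFacts.RgdField Cfsg.Agent.KFacts.RgdChevCoord Cfsg.Agent.BpExc.TorCent Cfsg.Agent.BpExc.TorChev
open Cfsg.Agent.GpExc.Field Cfsg.Agent.BpExc.Tow Cfsg.Agent.BpExc.TowChev Cfsg.Agent.BpExc.Fr
  Cfsg.Agent.BpExc.LangFr Cfsg.Agent.LangThm Cfsg.Agent.BpExc Cfsg.Agent.H129.TorusChar Cfsg.Agent.H129.TorusMain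
open Cfsg.Agent.H630.NH Cfsg.Agent.H130.WeylCk Cfsg.Agent.H130.PolyL Cfsg.Agent.H130.WeylTab

universe u v

theorem e7T : IsType chevE7 7 CoxeterMatrix.E₇ := by simp [IsType, typeList]

theorem key_E7 : ∀ i ∈ [2, 6, 8, 10, 12, 14, 18], ∀ r < 19, ∀ n < 19,
    (r ∣ i ∧ r.Prime ∧ r ≠ 2 ∧ n ∣ i ∧ n ∣ r - 1) →
      (n = 1 ∨ n = 2) ∧ (r = 3 ∨ r = 5 ∨ r = 7) := by decide +kernel

theorem lt_E7 : ∀ i ∈ [2, 6, 8, 10, 12, 14, 18], 0 < i ∧ i < 19 := by decide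

theorem idx_E7 : ∀ n ∈ [1, 2, 3, 4, 5, 6, 7, 8, 9, 10, 12, 14, 18], 0 < n ∧ n ∈ H130.PolyL.idx := by
  decide

section E7

variable {W : Type*} [Group W] (cs : CoxeterSystem CoxeterMatrix.E₇ W)
variable {k' : Type u} [Field k'] {p e : ℕ} [hpF : Fact p.Prime] [CharP k' p] {σ : MulAut ↥(chevE7.group k')}
  {X : Type v} [Group X] {e0 : X →* ↥(chevE7.group k')} {d : ℕ}

theorem hasTor_E7 (ε : ℤ) (hε : ε = 1 ∨ ε = -1) (w1 : W) : HasTor e7T cs (AddEquiv.refl (Fin 7 → ℤ)) ε w1 :=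
  hasTor_all e7T cs (rep_neg_of e7T cs lists_E7 _ 9 neg_E7) hε w1

variable (S : Setup e7T cs p e σ (AddEquiv.refl (Fin 7 → ℤ)) e0 d)

include S

theorem reg_E7 [IsAlgClosed k'] [Finite W] [Finite X] {Q : ℤ} (hQ : Q = 1 * (p ^ e : ℕ)) :
    ∀ n ∈ [1, 2, 3, 6], RegE X p d Q n := by
  have h1 : (1 : ℤ) = 1 ∨ (1 : ℤ) = -1 := Or.inl rfl
  have h2 : (-1 : ℤ) = 1 ∨ (-1 : ℤ) = -1 := Or.inr rfl
  have hT1 := hasTor_E7 cs 1 h1
  have hT2 := hasTor_E7 cs (-1) h2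
  intro n hn
  simp only [List.mem_cons, List.not_mem_nil, or_false] at hn
  rcases hn with rfl | rfl | rfl | rfl
  · exact S.regE_one e7T cs h1 hQ hT1
  · exact S.regE_two e7T cs h1 hQ hT2
  · exact S.regE_ck e7T cs h1 hQ hT1 lists_E7 reg_E7_3 (by decide) (by decide) (by decide +kernel)
  · exact S.regE_ck_neg e7T cs h1 hQ hT2 lists_E7 reg_E7_3 (by decide) (by decide) (by decide) (by decide)
      (by decide +kernel)

theorem bad_E7 [IsAlgClosed k'] [Finite W] [Finite X] {Q : ℤ} (hQ : Q = 1 * (p ^ e : ℕ)) (π : Set ℕ) (r s : ℕ)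
    (hr : r.Prime) (hs : s.Prime) (hrπ : r ∈ π) (hsπ : s ∈ π) (hrs : r ≠ s) (hr2 : r ≠ 2) (hs2 : s ≠ 2)
    (hrp : r ≠ p) (hsp : s ≠ p) (hrd : ¬ r ∣ d) (hsd : ¬ s ∣ d) (hrX : r ∣ Nat.card X) (hsX : s ∣ Nat.card X)
    (hsame : orderOf (Q : ZMod r) = orderOf (Q : ZMod s))
    (hbad : ∃ i ∈ [2, 6, 8, 10, 12, 14, 18], orderOf (Q : ZMod r) ∣ i ∧ r ∣ i) : ¬ Cond π X := by
  have h1 : (1 : ℤ) = 1 ∨ (1 : ℤ) = -1 := Or.inl rfl
  have hT := hasTor_E7 cs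
  obtain ⟨i, hi, hni, hri⟩ := hbad
  have hQr := not_dvd_Q (p := p) (e := e) Fact.out hr hrp h1 hQ
  have hn1 := ord_dvd hr hQr
  have hi30 := lt_E7 i hi
  have hr31 := lt_of_le_of_lt (Nat.le_of_dvd hi30.1 hri) hi30.2
  have hn31 := lt_of_le_of_lt (Nat.le_of_dvd hi30.1 hni) hi30.2
  obtain ⟨h12, hr'⟩ := key_E7 i hi r hr31 _ hn31 ⟨hri, hr, hr2, hni, hn1⟩
  have h12s := h12
  rw [hsame] at h12s
  have hr0 := hr.two_le
  have hs0 := hs.two_le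
  by_cases hr3 : r = 3
  · subst hr3
    exact S.bad_count12 e7T cs hT hr hs hrπ hsπ hrs hrp hsp hrd hsd hr2 hs2 h1 hQ h12 hsame lists_E7 (j := 1)
      count_E7_three (by omega)
  by_cases hs3 : s = 3
  · subst hs3
    exact S.bad_count12 e7T cs hT hs hr hsπ hrπ hrs.symm hsp hrp hsd hrd hs2 hr2 h1 hQ h12s hsame.symm lists_E7
      (j := 1) count_E7_three (by omega)
  by_cases hr5 : r = 5
  · subst hr5
    refine S.bad_count12 e7T cs hT hr hs hrπ hsπ hrs hrp hsp hrd hsd hr2 hs2 h1 hQ h12 hsame lists_E7 (j := 1)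
      count_E7_five ?_
    by_contra hcon
    have := small_prime s (by omega) hs
    tauto
  obtain rfl : r = 7 := by tauto
  refine S.bad_count12 e7T cs hT hr hs hrπ hsπ hrs hrp hsp hrd hsd hr2 hs2 h1 hQ h12 hsame lists_E7 (j := 1)
    count_E7_seven ?_
  by_contra hcon
  have := small_prime s (by omega) hs
  omega

end E7

/-- the exceptional pairs of orders in type `E₇` -/
def SpE7 (n m : ℕ) : Prop := n = 4 ∧ m ∈ [5, 7, 8, 9, 10, 12, 14, 18]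

instance decSpE7 (n m : ℕ) : Decidable (SpE7 n m) := by unfold SpE7; infer_instance

/-- **Type `E₇`.** -/
theorem crossRow_E7_of (r : ℕ) [Fact r.Prime] (F : Type u) [Field F] [Fintype F] [CharP F r]
    (hSp : ∀ (k : Type u) [Field k] [IsAlgClosed k] [CharP k r] (e : ℕ) (cs : CoxeterSystem CoxeterMatrix.E₇
      CoxeterMatrix.E₇.Group) (σ : MulAut ↥(chevE7.group k)) (e0 : ↥(chevE7.group F) →* ↥(chevE7.group k)) (d : ℕ),
      BpExc.TorAll.HAlg r k → Setup e7T cs r e σ (AddEquiv.refl (Fin 7 → ℤ)) e0 d → ∀ (π : Set ℕ) (s t : ℕ),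
      s.Prime → t.Prime → s ∈ π → t ∈ π → s ≠ t → s ≠ r → t ≠ r → ¬ s ∣ d → ¬ t ∣ d → 8 < t →
      s ∣ Nat.card ↥(chevE7.group F) → t ∣ Nat.card ↥(chevE7.group F) → orderOf ((r ^ e : ℕ) : ZMod s) = 4 →
      orderOf ((r ^ e : ℕ) : ZMod t) ≠ 4 → 4 ≤ (orderOf ((r ^ e : ℕ) : ZMod t)).totient →
      ¬ Cond π ↥(chevE7.group F)) :
    CrossRow r ↥(chevE7.group F) := by
  obtain ⟨k, _, _, f, p, hpp, hkp, e, hk, hka, he0, hcF⟩ := H378.TorFin.exists_closure F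
  have hkr : CharP k r := charP_of_injective_ringHom f.injective r
  obtain rfl : r = p := CharP.eq k hkr hkp
  have cs := CoxeterMatrix.E₇.toCoxeterSystem
  have hW := finite_W e7T cs
  have hcF' : Fintype.card F = r ^ e := by rw [← Nat.card_eq_fintype_card, hcF]
  obtain ⟨d, hd⟩ : ∃ d, d = Nat.gcd 2 (Nat.card F - 1) := ⟨_, rfl⟩
  have S := setup_untw e7T cs hk f he0 hcF' invC_E7 two_ne_zero
  rw [← hd] at S
  have hd2 : d ∣ 2 := by rw [hd]; exact Nat.gcd_dvd_left _ _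
  have h1 : (1 : ℤ) = 1 ∨ (1 : ℤ) = -1 := Or.inl rfl
  have hQ : ((r ^ e : ℕ) : ℤ) = 1 * (r ^ e : ℕ) := (one_mul _).symm
  have hcard : Nat.gcd 2 (r ^ e - 1) * Nat.card ↥(chevE7.group F) = (r ^ e) ^ 63 *
      (([2, 6, 8, 10, 12, 14, 18].map (fun i => ((r ^ e : ℕ) : ℤ) ^ i - 1)).prod).natAbs := by
    rw [natAbs_prod _ (pow_pos hpp.out.pos _), S1064.result hcF']
    simp only [List.map_cons, List.map_nil, List.prod_cons, List.prod_nil, mul_one]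
    ring
  refine S.crossRow_of e7T cs hka h1 hQ (degs := [2, 6, 8, 10, 12, 14, 18])
    (es := [1, 2, 3, 4, 5, 6, 7, 8, 9, 10, 12, 14, 18]) (by decide +kernel) hcard
    (H := [1, 2, 3, 6]) (reg_E7 cs S hQ) (Sp := SpE7) (by decide +kernel) ?_ ?_
    (bad_E7 cs S hQ) ?_
  · intro π s t hs ht hsπ htπ hst hs2 ht2 hsr htr hsd htd hsX htX hsp
    obtain ⟨h4, hm⟩ := hsp
    have hb : ∀ m ∈ [5, 7, 8, 9, 10, 12, 14, 18], Big 7 m ∧ m ≠ 4 ∧ 4 ≤ m.totient := by decide +kernel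
    obtain ⟨hb1, hb2, hb3⟩ := hb _ hm
    have hc : ∀ s : ℕ, ((((r ^ e : ℕ) : ℤ)) : ZMod s) = ((r ^ e : ℕ) : ZMod s) := fun s => by push_cast; rfl
    have h8 : 8 < t := by
      by_contra hcon
      exact hb1 t (by omega) ht (ord_dvd ht (not_dvd_Q hpp.out ht htr h1 hQ))
    rw [hc] at h4 hb2 hb3
    exact hSp k e cs _ _ d hka S π s t hs ht hsπ htπ hst hsr htr hsd htd h8 hsX htX h4 hb2 hb3
  · intro π s t hs ht _ _ _ hs2 _ _ _ hsd
    exact absurd ((Nat.prime_dvd_prime_iff_eq hs Nat.prime_two).1 (hsd.trans hd2)) hs2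
  · intro n hn π hπ _
    exact S.pos_of_hasF e7T cs h1 lists_E7 (hasTor_E7 cs 1 h1) hQ (idx_E7 n hn).1 (idx_E7 n hn).2 (hasF_E7 n hn)
      hcard hπ

end Cfsg.Agent.H630.Exc
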