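import Cfsg.Agent.H129.TorusMain

/-!
# Centralizers of subsets of the torus of `D.group k` (helper630)

`A` a finite subset of the torus `TT D k`, `k` locally finite, such that every root is nontrivial on `A`.

* `exists_rp_of_comm` : an element centralizing `A` lies in `N` (the root groups drop out);
* `eq_one_of_fix` : an element of the Weyl group fixing `A` whose order is prime to the exponent of `A` is trivial;
* `mem_TT_of_pow` : an element of `D.group k` centralizing `A` with `c ^ m = 1`, `m` prime to the exponent of `A`, lies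
  in the torus.
-/

set_option autoImplicit false
set_option linter.unusedSectionVars false

namespace Cfsg.Agent.H630.Exc

open CoxeterSystem Cfsg Cfsg.Lie Cfsg.Lie.ChevalleyDatum
open Cfsg.Agent.ChevalleyStructure Cfsg.Agent.ChevalleyStructure.Elts Cfsg.Agent.ChevalleyStructure.CoxeterGeom
  Cfsg.Agent.ChevalleyStructure.CoxeterGeomTypes Cfsg.Agent.ChevalleyStructure.NPerm
open Cfsg.Agent.Tits.Roots Cfsg.Agent.Tits.Core Cfsg.Agent.Nodes Cfsg.Agent.Nodes.Reps Cfsg.Agent.Nodes.BNOf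
  Cfsg.Agent.Nodes.RGDChev Cfsg.Agent.Nodes.Bruhat Cfsg.Agent.Nodes.SubComb Cfsg.Agent.Nodes.Coroot
open Cfsg.Agent.KFacts.RgdField Cfsg.Agent.KFacts.RgdChevCoord Cfsg.Agent.BpExc.TorCent Cfsg.Agent.BpExc.TorChev
open Cfsg.Agent.GpExc.Field Cfsg.Agent.BpExc.Tow Cfsg.Agent.BpExc.TowChev Cfsg.Agent.BpExc.Fr
  Cfsg.Agent.BpExc.LangFr Cfsg.Agent.LangThm Cfsg.Agent.BpExc Cfsg.Agent.H129.TorusChar

universe u

variable {D : ChevalleyDatum} {l : ℕ} {M : CoxeterMatrix (Fin l)} (hp : IsType D l M) {k : Type u} [Field k]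
  {W : Type*} [Group W] (cs : CoxeterSystem M W)

/-- **An element centralizing `A` lies in `N`**, if every root is nontrivial on `A`. -/
theorem exists_rp_of_comm [Finite W] (hk : LocFin k) (p : ℕ) [Fact p.Prime] [CharP k p]
    (hN : NSys M (TT D k) (nc hp k)) {A : Set ↥(D.group k)} (hAf : A.Finite) (hAT : ∀ t ∈ A, t ∈ TT D k)
    (hA : ∀ a, IsRoot cs hp.isCartan a → ∃ t ∈ A, cX hp t a ≠ 1) {c : ↥(D.group k)} (hc : ∀ t ∈ A, c * t = t * c) :
    ∃ w, Rp cs hN w c := by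
  have H := tow hp cs hk p
  have C := coordsL hp cs hk p
  rw [← TL_eq hp hk, ← XL_eq hp hk] at C
  have hcG : c ∈ GG cs hp.isCartan (TL (Tj hp (k := k))) (XL (Xj hp)) := by
    rw [GG_eq_top hp cs hk]; exact Subgroup.mem_top c
  obtain ⟨j0, h0⟩ := H.mem_GG.1 hcG
  have hf := hAf.to_subtype
  obtain ⟨j1, h1⟩ := H.exists_level (S := fun j => (Tj hp (k := k) j : Set ↥(D.group k)))
    (fun a b hab => SetLike.coe_subset_coe.2 (H.monoT hab)) (f := fun t : A => (t : ↥(D.group k)))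
    (fun t => H.mem_TL.1 (by rw [TL_eq hp hk]; exact hAT t t.2))
  obtain ⟨j, b0, b1⟩ := H.dir j0 j1
  have hAj : A ⊆ (Tj hp (k := k) j : Set ↥(D.group k)) := fun t ht => H.monoT b1 (h1 ⟨t, ht⟩)
  obtain ⟨x, hx, w, n, hn, -, y, hy, rfl⟩ := NormalForm.mem_centralizer (H.rgd j) (S := A) hAj (H.mono_GG b0 h0)
    (Subgroup.mem_centralizer_iff.2 fun t ht => (hc t ht).symm)
  have key : RGD.Sup (fun a => Xj hp (k := k) j a ⊓ Subgroup.centralizer A) (RGD.Pos cs hp.isCartan) ≤ ⊥ := by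
    refine RGD.Sup_le fun a ha => ?_
    rintro z ⟨hz, hzc⟩
    rw [Subgroup.mem_bot]
    by_contra hz1
    obtain ⟨t, htA, hta⟩ := hA a ha.1
    have htT : t ∈ TL (Tj hp (k := k)) := by rw [TL_eq hp hk]; exact hAT t htA
    have h3 := mem_Sx_of_centralizer C htT ha.1 (le_XL j a hz) hz1 (by
      rw [Subgroup.mem_centralizer_singleton_iff]
      exact (Subgroup.mem_centralizer_iff.1 hzc t htA).symm)
    exact hta (by rw [cX_root hp cs (hAT t htA) ha.1]; exact h3.2)
  have hx1 : x = 1 := Subgroup.mem_bot.1 (key hx)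
  have hy1 : y = 1 := Subgroup.mem_bot.1 (key hy)
  subst hx1
  subst hy1
  rw [one_mul, mul_one]
  have h2 := H.rp_up hn
  have h4 : ∀ (T' : Subgroup ↥(D.group k)) (e : T' = TT D k) (h : NSys M T' (nc hp k)),
      Rp cs h w n → Rp cs hN w n := by
    rintro _ rfl h h5
    exact h5
  exact ⟨w, h4 _ (TL_eq hp hk) _ h2⟩

/-- **An element of the Weyl group fixing `A`**, of order prime to the exponent of `A`, is trivial, if every root is
nontrivial on `A`. -/
theorem eq_one_of_fix [Finite W] {A : Set ↥(D.group k)} (hAT : ∀ t ∈ A, t ∈ TT D k)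
    (hA : ∀ a, IsRoot cs hp.isCartan a → ∃ t ∈ A, cX hp t a ≠ 1) {r : ℕ} (hAr : ∀ t ∈ A, t ^ r = 1) {m : ℕ} (hm0 : 0 < m)
    (hmr : m.Coprime r) {w : W} (hw : w ^ m = 1)
    (hfix : ∀ t ∈ A, ∀ a, IsRoot cs hp.isCartan a → cX hp t (rep cs hp.isCartan w a) = cX hp t a) : w = 1 := by
  by_contra hw1
  obtain ⟨a, ha, h0⟩ := BpExc.Fix.exists_root_sum_eq_zero (h := hp.isCartan) (cs := cs) hw1 hm0 hw
  obtain ⟨t, htA, hta⟩ := hA a ha
  apply hta
  have hmc := isMC_cX hp (hAT t htA)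
  have h1 : ∀ i, cX hp t (rep cs hp.isCartan (w ^ i) a) = cX hp t a := by
    intro i
    induction i with
    | zero => rw [pow_zero, map_one, Module.End.one_apply]
    | succ i ih => rw [pow_succ', rep_mul_apply, hfix t htA _ (ha.act _), ih]
  have h2 : cX hp t a ^ m = 1 := by
    have h3 := hmc.sum (Finset.range m) (fun i => rep cs hp.isCartan (w ^ i) a)
    rw [h0, hmc.zero, Finset.prod_congr rfl (fun i _ => h1 i), Finset.prod_const, Finset.card_range] at h3
    exact h3.symm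
  have h3 : cX hp t a ^ r = 1 := by
    rw [← cX_pow hp (hAT t htA), hAr t htA, cX_one]
  have h4 : orderOf (cX hp t a) ∣ 1 := by
    have := Nat.dvd_gcd (orderOf_dvd_of_pow_eq_one h2) (orderOf_dvd_of_pow_eq_one h3)
    rwa [hmr.gcd_eq_one] at this
  exact orderOf_eq_one_iff.1 (Nat.dvd_one.1 h4)

include hp in
/-- A representative determines the element of the Weyl group. -/
theorem rp_unique [Finite W] (hk : LocFin k) (p : ℕ) [Fact p.Prime] [CharP k p] (hN : NSys M (TT D k) (nc hp k))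
    {w w' : W} {g : ↥(D.group k)} (h1 : Rp cs hN w g) (h2 : Rp cs hN w' g) : w = w' := by
  have H := tow hp cs hk p
  have h4 : ∀ (T' : Subgroup ↥(D.group k)) (_ : TT D k = T') (h : NSys M T' (nc hp k)) (v : W),
      Rp cs hN v g → Rp cs h v g := by
    rintro _ rfl h v h5
    exact h5
  exact (H.normal_form_unique (one_mem _) (one_mem _) (h4 _ (TL_eq hp hk).symm H.nsys w h1)
    (h4 _ (TL_eq hp hk).symm H.nsys w' h2) (one_mem _) (one_mem _) rfl).1

theorem rp_pow {hN : NSys M (TT D k) (nc hp k)} {w : W} {g : ↥(D.group k)} (h : Rp cs hN w g) (n : ℕ) :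
    Rp cs hN (w ^ n) (g ^ n) := by
  induction n with
  | zero => rw [pow_zero, pow_zero]; exact rp_one
  | succ n ih => rw [pow_succ, pow_succ]; exact ih.mul h

theorem fix_of_rp (hk : LocFin k) (p : ℕ) [Fact p.Prime] [CharP k p] {hN : NSys M (TT D k) (nc hp k)}
    {w : W} {c t : ↥(D.group k)} (h : Rp cs hN w c) (ht : t ∈ TT D k) (hc : c * t = t * c) (a : Fin l → ℤ) :
    cX hp t (rep cs hp.isCartan w a) = cX hp t a := by
  have h1 := cX_rp hp cs hk p h ht a
  rwa [show c * t * c⁻¹ = t by rw [hc]; group] at h1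

/-- **The centralizer of `A`**: elements `c` with `c ^ m = 1`, `m` prime to the exponent of `A`, lie in the torus. -/
theorem mem_TT_of_pow [Finite W] (hk : LocFin k) (p : ℕ) [Fact p.Prime] [CharP k p]
    (hN : NSys M (TT D k) (nc hp k)) {A : Set ↥(D.group k)} (hAf : A.Finite) (hAT : ∀ t ∈ A, t ∈ TT D k)
    (hA : ∀ a, IsRoot cs hp.isCartan a → ∃ t ∈ A, cX hp t a ≠ 1) {r : ℕ} (hAr : ∀ t ∈ A, t ^ r = 1) {m : ℕ} (hm0 : 0 < m)
    (hmr : m.Coprime r) {c : ↥(D.group k)} (hc : ∀ t ∈ A, c * t = t * c) (hcm : c ^ m = 1) : c ∈ TT D k := by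
  obtain ⟨w, hw⟩ := exists_rp_of_comm hp cs hk p hN hAf hAT hA hc
  have h1 := rp_pow hp cs hw m
  rw [hcm] at h1
  have h2 : w ^ m = 1 := rp_unique hp cs hk p hN h1 rp_one
  have h3 : w = 1 := eq_one_of_fix hp cs hAT hA hAr hm0 hmr h2 fun t ht a _ => fix_of_rp hp cs hk p hw (hAT t ht) (hc t ht) a
  rw [h3] at hw
  exact hw.mem_of_one

end Cfsg.Agent.H630.Exc
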