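import Cfsg.Agent.H630.ExcK
import Cfsg.Agent.H986.EqD.CycL
import Cfsg.Agent.H630.ExcH
import Cfsg.Agent.H129.TriD4
import Cfsg.Agent.S1067

/-!
# The row of `³D₄` in cross characteristic (helper630)
-/

set_option autoImplicit false
set_option linter.unusedSectionVars false
set_option linter.unusedVariables false

namespace Cfsg.Agent.H630.Exc

open CoxeterSystem Cfsg Cfsg.Lie Cfsg.Lie.ChevalleyDatum
open Cfsg.Agent.ChevalleyStructure Cfsg.Agent.ChevalleyStructure.Elts Cfsg.Agent.ChevalleyStructure.CoxeterGeom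
  Cfsg.Agent.ChevalleyStructure.CoxeterGeomTypes Cfsg.Agent.ChevalleyStructure.NPerm
open Cfsg.Agent.Tits.Roots Cfsg.Agent.Tits.Core Cfsg.Agent.Nodes Cfsg.Agent.Nodes.Reps Cfsg.Agent.Nodes.BNOf
  Cfsg.Agent.Nodes.RGDChev Cfsg.Agent.Nodes.Bruhat Cfsg.Agent.Nodes.SubComb Cfsg.Agent.Nodes.Coroot
open Cfsg.Agent.KFacts.RgdField Cfsg.Agent.KFacts.RgdChevCoord Cfsg.Agent.BpExc.TorCent Cfsg.Agent.BpExc.TorChev
open Cfsg.Agent.GpExc.Field Cfsg.Agent.BpExc.Tow Cfsg.Agent.BpExc.TowChev Cfsg.Agent.BpExc.Fr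
  Cfsg.Agent.BpExc.LangFr Cfsg.Agent.LangThm Cfsg.Agent.BpExc Cfsg.Agent.H129.TorusChar Cfsg.Agent.H129.TorusMain
open Cfsg.Agent.H129.TriD4 (tau isFrob_tau fr_tau embT embT_injective tau_embT tau_range tri tri_apply tri_sr
  tri_three)
open Cfsg.Agent.H630.NH Cfsg.Agent.H130.WeylCk Cfsg.Agent.H130.PolyL Cfsg.Agent.H130.WeylTab

universe u v

/-! ### polynomials -/

section Poly

open Polynomial

theorem sum_ofL {l : ℕ} (R : Module.End ℤ (Fin l → ℤ)) : ∀ (cs : List ℤ) (x : Fin l → ℤ),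
    ∑ j : Fin cs.length, cs.get j • (R ^ (j : ℕ)) x = aeval R (ofL cs) x
  | [], x => by
    rw [ofL, map_zero, LinearMap.zero_apply]
    exact Finset.sum_empty
  | c :: cs, x => by
    have ih := sum_ofL R cs (R x)
    have h1 : ∑ j : Fin (c :: cs).length, (c :: cs).get j • (R ^ (j : ℕ)) x =
        c • x + ∑ j : Fin cs.length, cs.get j • (R ^ (j : ℕ)) (R x) := Fin.sum_univ_succ _
    rw [h1, ih, ofL, map_add, mul_comm X, map_mul, aeval_X, LinearMap.add_apply, Module.End.mul_apply, aeval_C]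
    rfl

theorem sum_evalL (Q : ℤ) : ∀ cs : List ℤ, ∑ j : Fin cs.length, cs.get j * Q ^ (j : ℕ) = (ofL cs).eval Q
  | [] => by
    rw [ofL, eval_zero]
    exact Finset.sum_empty
  | c :: cs => by
    have ih := sum_evalL Q cs
    have h1 : ∑ j : Fin (c :: cs).length, (c :: cs).get j * Q ^ (j : ℕ) =
        c * Q ^ 0 + ∑ j : Fin cs.length, cs.get j * Q ^ ((j : ℕ) + 1) := Fin.sum_univ_succ _
    rw [h1, ofL, eval_add, eval_C, eval_mul, eval_X, ← ih, Finset.mul_sum, pow_zero, mul_one]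
    congr 1
    exact Finset.sum_congr rfl fun j _ => by rw [pow_succ]; ring

theorem eval_cyc3 (Q : ℤ) : (cyclotomic 3 ℤ).eval Q = Q ^ 2 + Q + 1 := by
  rw [cyclotomic_eq 3 (by decide)]
  simp only [cycL, ofL, eval_add, eval_C, eval_mul, eval_X, eval_zero]
  ring

theorem eval_cyc12 (Q : ℤ) : (cyclotomic 12 ℤ).eval Q = Q ^ 4 - Q ^ 2 + 1 := by
  rw [cyclotomic_eq 12 (by decide)]
  simp only [cycL, ofL, eval_add, eval_C, eval_mul, eval_X, eval_zero]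
  ring

theorem eval_cyc1 (Q : ℤ) : (cyclotomic 1 ℤ).eval Q = Q - 1 := by
  rw [cyclotomic_one, eval_sub, eval_X, eval_one]

end Poly

theorem not_nine_dvd (Q : ℤ) : ¬ (9 : ℤ) ∣ Q ^ 2 + Q + 1 := by
  have h : ∀ x : ZMod 9, x ^ 2 + x + 1 ≠ 0 := by decide
  intro h1
  apply h (Q : ZMod 9)
  have h2 := (ZMod.intCast_zmod_eq_zero_iff_dvd (Q ^ 2 + Q + 1) 9).2 (by exact_mod_cast h1)
  push_cast at h2
  exact h2

theorem not_nine_dvd' (Q : ℤ) : ¬ (9 : ℤ) ∣ Q ^ 4 - Q ^ 2 + 1 := by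
  have h : ∀ x : ZMod 9, x ^ 4 - x ^ 2 + 1 ≠ 0 := by decide
  intro h1
  apply h (Q : ZMod 9)
  have h2 := (ZMod.intCast_zmod_eq_zero_iff_dvd (Q ^ 4 - Q ^ 2 + 1) 9).2 (by exact_mod_cast h1)
  push_cast at h2
  exact h2

/-! ### the endomorphisms -/

/-- the triality as a linear map -/
def triE : Module.End ℤ (Fin 4 → ℤ) := tri.toAddMonoidHom.toIntLinearMap

theorem triE_apply (x : Fin 4 → ℤ) : triE x = tri x := rfl

theorem triE_pow : triE ^ 3 = 1 := by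
  apply LinearMap.ext
  intro x
  exact tri_three x

/-- the matrices -/
def m3 : List (List ℤ) := [[0, 1, 0, 1], [0, 0, 1, 0], [0, -1, -1, 0], [-1, -1, -1, -1]]
def m12 : List (List ℤ) := [[1, 1, 1, 0], [-1, -1, 0, 0], [1, 1, 0, 1], [0, 1, 0, 0]]
def mT : List (List ℤ) := [[0, 0, 1, 0], [0, 1, 0, 0], [0, 0, 0, 1], [1, 0, 0, 0]]
def mS : List (List ℤ) := [[0, -1, -1, -1], [1, 1, 1, 1], [-1, -1, 0, -1], [-1, -1, -1, 0]]

/-- the permutation of the simple roots -/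
def tp : Fin 4 → Fin 4 := ![2, 1, 3, 0]

theorem tri_single (i : Fin 4) : tri (Pi.single i 1) = Pi.single (tp i) 1 := funext (tri_sr i)

theorem triE_single (i : Fin 4) : triE (Pi.single i 1) = toFn 4 (mT.getD i []) := by
  rw [triE_apply, tri_single]
  have h : ∀ i : Fin 4, mT.getD i [] = bas 4 (tp i).1 := by decide +kernel
  rw [h, toFn_bas]

theorem lenT : mT.length = 4 ∧ ∀ b ∈ mT, b.length = 4 := by decide
theorem lenS : mS.length = 4 ∧ ∀ b ∈ mS, b.length = 4 := by decide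
theorem len3 : m3.length = 4 ∧ ∀ b ∈ m3, b.length = 4 := by decide
theorem len12 : m12.length = 4 ∧ ∀ b ∈ m12, b.length = 4 := by decide

theorem cy3 : ∀ i : Fin 4, polyL 4 m3 (cycL 3) (bas 4 i) = List.replicate 4 0 := by decide +kernel
theorem cy12 : ∀ i : Fin 4, polyL 4 m12 (cycL 12) (bas 4 i) = List.replicate 4 0 := by decide +kernel
theorem it3 : ∀ i : Fin 4, itL 4 m3 3 (bas 4 i) = bas 4 i := by decide +kernel
theorem it12 : ∀ i : Fin 4, itL 4 m12 12 (bas 4 i) = bas 4 i := by decide +kernel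
theorem itS : ∀ i : Fin 4, itL 4 mS 3 (bas 4 i) = bas 4 i := by decide +kernel
theorem cyS : ∀ i : Fin 4, polyL 4 mS [1, 1, 1] (polyL 4 mT [1, 1, 1] (bas 4 i)) = List.replicate 4 0 := by
  decide +kernel
theorem commS : ∀ i : Fin 4, lc 4 (lc 4 (bas 4 i) mT) mS = lc 4 (lc 4 (bas 4 i) mS) mT := by decide +kernel

theorem ck3 : RegRCk chevD4 4 alD4 3 m3 [([-1, -1, 2], [0, 1], [3, -2], 3)] 3 := by decide +kernel
theorem ck12 : RegRCk chevD4 4 alD4 12 m12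
    [([1, 1, 0, -1, -1, -2, -1, -1, 0, 1, 1, 2], [-1, 3, -1, 0], [13, -2, 11, -2, 0, 0, -7, 2, -5, 2, 0], 12),
      ([-1, 1, 0, -1, 1, -2, 1, -1, 0, 1, -1, 2], [1, 3, 1, 0], [13, 2, 11, 2, 0, 0, -7, -2, -5, -2, 0], 12)] 12 := by
  decide +kernel

theorem ckT : ∀ v ∈ rootL chevD4 4, v.length = 4 ∧
    ((v.getD 1 0 = 1 ∨ v.getD 1 0 = -1 ∨ v.getD 1 0 = 2 ∨ v.getD 1 0 = -2) ∨
      (v.getD 0 0 + v.getD 2 0 + v.getD 3 0 = 1 ∨ v.getD 0 0 + v.getD 2 0 + v.getD 3 0 = -1)) := by decide +kernel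

section D4

variable {W : Type*} [Group W] (cs : CoxeterSystem coxeterD4 W)

/-- `rep w₁ ∘ tri` -/
noncomputable def RR (w1 : W) : Module.End ℤ (Fin 4 → ℤ) := rep cs RGDTwD4.hp.isCartan w1 * triE

theorem RR_single {word : List (Fin 4)} {m : List (List ℤ)}
    (h : ∀ i : Fin 4, acn alD4 word 1 (bas 4 (tp i)) = m.getD i []) (i : Fin 4) :
    RR cs (cs.wordProd word) (Pi.single i 1) = toFn 4 (m.getD i []) := by
  show rep cs RGDTwD4.hp.isCartan (cs.wordProd word) (tri (Pi.single i 1)) = _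
  rw [tri_single, ← toFn_bas, ← h i, toFn_acn cs RGDTwD4.hp.isCartan lists_D4 word _ _ (length_bas (tp i).1), pow_one]

theorem RR3 (i : Fin 4) : RR cs (cs.wordProd [0, 1, 0, 2, 1, 3, 1, 0]) (Pi.single i 1) = toFn 4 (m3.getD i []) :=
  RR_single cs (by decide +kernel) i

theorem RR12 (i : Fin 4) : RR cs (cs.wordProd [0, 1]) (Pi.single i 1) = toFn 4 (m12.getD i []) :=
  RR_single cs (by decide +kernel) i

theorem RR1 : RR cs 1 = triE := by rw [RR, map_one, one_mul]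

/-- the element of order 3 commuting with `tri` -/
theorem repS (i : Fin 4) : rep cs RGDTwD4.hp.isCartan (cs.wordProd [1, 0, 2, 3] ^ 2) (Pi.single i 1) =
    toFn 4 (mS.getD i []) :=
  rep_single RGDTwD4.hp cs lists_D4 [1, 0, 2, 3] 2 (by decide +kernel) i

theorem has_R (w1 : W) {ε : ℤ} (hε : ε = 1 ∨ ε = -1) :
    ∃ w, ∀ x, theta RGDTwD4.hp cs w tri x = ε • RR cs w1 x := by
  rcases hε with rfl | rfl
  · exact ⟨w1, fun x => by rw [one_smul]; rfl⟩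
  · refine ⟨w1 * (cs.wordProd [0, 1, 2, 3] ^ 3), fun x => ?_⟩
    show rep cs RGDTwD4.hp.isCartan (w1 * (cs.wordProd [0, 1, 2, 3] ^ 3)) (tri x) = _
    rw [map_mul, Module.End.mul_apply, rep_neg_of RGDTwD4.hp cs lists_D4 [0, 1, 2, 3] 3 (by decide +kernel), map_neg,
      neg_smul, one_smul]
    rfl

theorem aeval_zero_of {R : Module.End ℤ (Fin 4 → ℤ)} {m : List (List ℤ)} (hm : m.length = 4 ∧ ∀ b ∈ m, b.length = 4)
    (h : ∀ i : Fin 4, R (Pi.single i 1) = toFn 4 (m.getD i [])) {c : List ℤ}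
    (hc : ∀ i : Fin 4, polyL 4 m c (bas 4 i) = List.replicate 4 0) : Polynomial.aeval R (ofL c) = 0 := by
  refine end_ext fun i => ?_
  rw [← toFn_polyL hm.1 hm.2 h c _ (length_bas i.1), hc, toFn_replicate, LinearMap.zero_apply]

theorem pow_one_of {R : Module.End ℤ (Fin 4 → ℤ)} {m : List (List ℤ)} (hm : m.length = 4 ∧ ∀ b ∈ m, b.length = 4)
    (h : ∀ i : Fin 4, R (Pi.single i 1) = toFn 4 (m.getD i [])) {n : ℕ}
    (hc : ∀ i : Fin 4, itL 4 m n (bas 4 i) = bas 4 i) : R ^ n = 1 := by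
  refine end_ext fun i => ?_
  rw [← (toFn_itL hm.1 hm.2 h n _ (length_bas i.1)).2, hc, Module.End.one_apply]

variable {k : Type u} [Field k] {p e : ℕ} [hpF : Fact p.Prime] [CharP k p] {σ : MulAut ↥(chevD4.group k)}
  {X : Type v} [Group X] {e0 : X →* ↥(chevD4.group k)} (S : Setup RGDTwD4.hp cs p e σ tri e0 1)

include S

/-- order 3 -/
theorem D4_three [IsAlgClosed k] [Finite W] [Finite X] {π : Set ℕ} {r s : ℕ} (hrp : r.Prime) (hsp : s.Prime)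
    (hr : r ∈ π) (hs : s ∈ π) (hrs : r ≠ s) (hrc : r ≠ p) (hr2 : r ≠ 2) {ε Q : ℤ} (hε : ε = 1 ∨ ε = -1)
    (hQ : Q = ε * (p ^ e : ℕ)) (hrn : orderOf (Q : ZMod r) = 3) (hc : Cond π X) {y : X}
    (hy : ∃ m, orderOf y = s ^ m) : y ^ (Q ^ 2 + Q + 1).natAbs = 1 := by
  have hrd : ¬ r ∣ 1 := fun h => hrp.one_lt.ne' (Nat.dvd_one.1 h)
  have hQr := not_dvd_Q (p := p) (e := e) Fact.out hrp hrc hε hQ
  obtain ⟨w, hw⟩ := has_R cs (cs.wordProd [0, 1, 0, 2, 1, 3, 1, 0]) hε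
  have h1 := S.pow_eq_oneR RGDTwD4.hp cs hrp hsp hr hs hrs hrc hrd hr2 hε hw (N := 3)
    (pow_one_of len3 (RR3 cs) it3) hQ ((dvd_pow_sub_one_iff 3).2 (by rw [hrn]))
    (regR_of_ck RGDTwD4.hp cs (RR3 cs) ck3 (by decide) hrp hQr hrn (by
      intro h
      have h2 : r ∣ 3 := by exact_mod_cast h
      obtain rfl := (Nat.prime_dvd_prime_iff_eq hrp Nat.prime_three).1 h2
      have := ord_dvd hrp hQr
      rw [hrn] at this
      revert this
      decide)) (c := fun j => (cycL 3).get j) (fun x => by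
      rw [sum_ofL, aeval_zero_of len3 (RR3 cs) cy3, LinearMap.zero_apply]) hc hy
  have h2 := sum_evalL Q (cycL 3)
  rw [← cyclotomic_eq 3 (by decide), eval_cyc3] at h2
  rwa [h2] at h1

/-- order 12 -/
theorem D4_twelve [IsAlgClosed k] [Finite W] [Finite X] {π : Set ℕ} {r s : ℕ} (hrp : r.Prime) (hsp : s.Prime)
    (hr : r ∈ π) (hs : s ∈ π) (hrs : r ≠ s) (hrc : r ≠ p) (hr2 : r ≠ 2) {ε Q : ℤ} (hε : ε = 1 ∨ ε = -1)
    (hQ : Q = ε * (p ^ e : ℕ)) (hrn : orderOf (Q : ZMod r) = 12) (hc : Cond π X) {y : X}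
    (hy : ∃ m, orderOf y = s ^ m) : y ^ (Q ^ 4 - Q ^ 2 + 1).natAbs = 1 := by
  have hrd : ¬ r ∣ 1 := fun h => hrp.one_lt.ne' (Nat.dvd_one.1 h)
  have hQr := not_dvd_Q (p := p) (e := e) Fact.out hrp hrc hε hQ
  obtain ⟨w, hw⟩ := has_R cs (cs.wordProd [0, 1]) hε
  have h1 := S.pow_eq_oneR RGDTwD4.hp cs hrp hsp hr hs hrs hrc hrd hr2 hε hw (N := 12)
    (pow_one_of len12 (RR12 cs) it12) hQ ((dvd_pow_sub_one_iff 12).2 (by rw [hrn]))
    (regR_of_ck RGDTwD4.hp cs (RR12 cs) ck12 (by decide) hrp hQr hrn (by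
      intro h
      have h2 : r ∣ 12 := by exact_mod_cast h
      have h3 := ord_dvd hrp hQr
      rw [hrn] at h3
      have h4 := Nat.le_of_dvd (by norm_num) h2
      have h5 := Nat.le_of_dvd (by have := hrp.two_le; omega) h3
      omega)) (c := fun j => (cycL 12).get j) (fun x => by
      rw [sum_ofL, aeval_zero_of len12 (RR12 cs) cy12, LinearMap.zero_apply]) hc hy
  have h2 := sum_evalL Q (cycL 12)
  rw [← cyclotomic_eq 12 (by decide), eval_cyc12] at h2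
  rwa [h2] at h1

omit S in
/-- regularity of the torus of `tri` -/
theorem regT_one [IsAlgClosed k] {r : ℕ} (hrp : r.Prime) (hrc : r ≠ p) (hr2 : r ≠ 2) {ε Q : ℤ}
    (hε : ε = 1 ∨ ε = -1) (hQ : Q = ε * (p ^ e : ℕ)) (hrQ : (r : ℤ) ∣ Q - 1) {w : W}
    (hw : ∀ x, theta RGDTwD4.hp cs w tri x = ε • triE x) : RegT k RGDTwD4.hp cs w tri (p ^ e) r := by
  have hrZ := Nat.prime_iff_prime_int.1 hrp
  have hrk : (r : k) ≠ 0 := by
    rw [Ne, CharP.cast_eq_zero_iff k p]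
    intro h
    exact hrc ((Nat.prime_dvd_prime_iff_eq (Fact.out : p.Prime) hrp).1 h).symm
  have hkey : ∀ L : (Fin 4 → ℤ) →+ ℤ, (∀ x, L (tri x) = L x) → ∀ x,
      (r : ℤ) ∣ L (theta RGDTwD4.hp cs w tri x) - ((p ^ e : ℕ) : ℤ) * L x := by
    intro L hL x
    have h1 : L (theta RGDTwD4.hp cs w tri x) - ((p ^ e : ℕ) : ℤ) * L x = (Q - 1) * (-ε * L x) := by
      rw [hw, map_zsmul, triE_apply, hL, smul_eq_mul, hQ]
      rcases hε with rfl | rfl <;> ring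
    rw [h1]
    exact hrQ.mul_right _
  have h1 : ∀ n : ℤ, n = 1 ∨ n = -1 ∨ n = 2 ∨ n = -2 → ¬ (r : ℤ) ∣ n := by
    intro n hn h
    have h2 : r ∣ n.natAbs := Int.natCast_dvd.1 h
    have h3 : n.natAbs ∣ 2 := by rcases hn with rfl | rfl | rfl | rfl <;> decide
    exact hr2 ((Nat.prime_dvd_prime_iff_eq hrp Nat.prime_two).1 (h2.trans h3))
  intro a ha
  obtain ⟨v, hv, -, rfl⟩ := exists_rootL RGDTwD4.hp cs ha
  obtain ⟨-, hck⟩ := ckT v hv
  rcases hck with h2 | h2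
  · obtain ⟨t, ht, h3, h4, h5⟩ := exists_torsionL RGDTwD4.hp invC_D4 two_ne_zero (θ := theta RGDTwD4.hp cs w tri)
      (q := p ^ e) hrk (coordF 4 1) (hkey _ fun x => rfl)
    refine ⟨t, ht, h3, h4, fun h6 => ?_⟩
    exact h1 _ h2 ((h5 _).1 h6)
  · obtain ⟨t, ht, h3, h4, h5⟩ := exists_torsionL RGDTwD4.hp invC_D4 two_ne_zero (θ := theta RGDTwD4.hp cs w tri)
      (q := p ^ e) hrk (coordF 4 0 + coordF 4 2 + coordF 4 3) (hkey _ fun x => by
        show x 3 + x 0 + x 2 = x 0 + x 2 + x 3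
        ring)
    refine ⟨t, ht, h3, h4, fun h6 => ?_⟩
    exact h1 _ (by tauto) ((h5 _).1 h6)

/-- order 1 -/
theorem D4_one [IsAlgClosed k] [Finite W] [Finite X] {π : Set ℕ} {r s : ℕ} (hrp : r.Prime) (hsp : s.Prime)
    (hr : r ∈ π) (hs : s ∈ π) (hrs : r ≠ s) (hrc : r ≠ p) (hr2 : r ≠ 2) {ε Q : ℤ} (hε : ε = 1 ∨ ε = -1)
    (hQ : Q = ε * (p ^ e : ℕ)) (hrQ : (r : ℤ) ∣ Q - 1) (hc : Cond π X) {y : X}
    (hy : ∃ m, orderOf y = s ^ m) : y ^ (Q ^ 3 - 1).natAbs = 1 := by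
  have hrd : ¬ r ∣ 1 := fun h => hrp.one_lt.ne' (Nat.dvd_one.1 h)
  obtain ⟨w, hw⟩ := has_R cs 1 hε
  rw [RR1] at hw
  refine S.pow_eq_oneT RGDTwD4.hp cs hrp hsp hr hs hrs hrd w (regT_one cs hrp hrc hr2 hε hQ hrQ hw) ?_ hc hy
  intro t ht hθ
  have h1 := torus_annih RGDTwD4.hp cs hε hw hQ ht hθ (m := 4) (c := ![-1, 0, 0, 1]) (fun x => by
    rw [Fin.sum_univ_four]
    show (-1 : ℤ) • (triE ^ 0) x + (0 : ℤ) • (triE ^ 1) x + (0 : ℤ) • (triE ^ 2) x + (1 : ℤ) • (triE ^ 3) x = 0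
    rw [triE_pow, pow_zero]
    simp)
  rw [Fin.sum_univ_four] at h1
  have h2 : (![-1, 0, 0, 1] : Fin 4 → ℤ) 0 * Q ^ ((0 : Fin 4) : ℕ) + (![-1, 0, 0, 1] : Fin 4 → ℤ) 1 * Q ^ ((1 : Fin 4) : ℕ) +
      (![-1, 0, 0, 1] : Fin 4 → ℤ) 2 * Q ^ ((2 : Fin 4) : ℕ) + (![-1, 0, 0, 1] : Fin 4 → ℤ) 3 * Q ^ ((3 : Fin 4) : ℕ) =
      Q ^ 3 - 1 := by
    show -1 * Q ^ 0 + 0 * Q ^ 1 + 0 * Q ^ 2 + 1 * Q ^ 3 = Q ^ 3 - 1
    ring
  rwa [h2] at h1

/-- an element of order 9 -/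
theorem exists_nine [IsAlgClosed k] [Finite W] [Finite X] (h3 : 3 ≠ p) : ∃ x : X, orderOf x = 9 := by
  have hpp : p.Prime := Fact.out
  have h3k : ((9 : ℕ) : k) ≠ 0 := by
    rw [Ne, CharP.cast_eq_zero_iff k p]
    intro h
    exact h3 ((Nat.prime_dvd_prime_iff_eq hpp Nat.prime_three).1 (hpp.dvd_of_dvd_pow (show p ∣ 3 ^ 2 from h))).symm
  obtain ⟨ε, Q, hε, hQ, h3Q⟩ : ∃ ε Q : ℤ, (ε = 1 ∨ ε = -1) ∧ Q = ε * (p ^ e : ℕ) ∧ (3 : ℤ) ∣ Q - 1 := by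
    have hn : ¬ 3 ∣ p ^ e := fun h =>
      h3 ((Nat.prime_dvd_prime_iff_eq Nat.prime_three hpp).1 (Nat.prime_three.dvd_of_dvd_pow h))
    rcases (by omega : p ^ e % 3 = 1 ∨ p ^ e % 3 = 2) with h | h
    · exact ⟨1, 1 * (p ^ e : ℕ), Or.inl rfl, rfl, by omega⟩
    · exact ⟨-1, -1 * (p ^ e : ℕ), Or.inr rfl, rfl, by omega⟩
  obtain ⟨w, hw⟩ := has_R cs 1 hε
  rw [RR1] at hw
  have hNs := S.nsys RGDTwD4.hp cs
  obtain ⟨n', hn'⟩ := exists_rp cs hNs w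
  obtain ⟨z, hz⟩ := lang_all RGDTwD4.hp cs S.pos S.frob S.fr 1 n'
  rw [map_one, one_mul] at hz
  obtain ⟨m, hm⟩ := h3Q
  have hQm : Q = 1 + 3 * m := by linarith
  have h9 : (9 : ℤ) ∣ Q ^ 3 - 1 := ⟨m + 3 * m ^ 2 + 3 * m ^ 3, by rw [hQm]; ring⟩
  have h9' : ((9 : ℕ) : ℤ) ∣ ((p ^ e : ℕ) : ℤ) ^ (2 * 3) - 1 := by
    have h1 : ((p ^ e : ℕ) : ℤ) ^ (2 * 3) = Q ^ (2 * 3) := by rw [hQ, mul_pow, eps_pow_two hε, one_mul]
    rw [h1]
    exact h9.trans ⟨Q ^ 3 + 1, by ring⟩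
  obtain ⟨t, ht, h1, h2, h4⟩ := exists_torsion' RGDTwD4.hp invC_D4 two_ne_zero
    (theta_powR RGDTwD4.hp cs hε hw triE_pow) h3k h9' (coordF 4 0)
  have hLq : ∀ x, Lq (coordF 4 0) (theta RGDTwD4.hp cs w tri) (p ^ e) (2 * 3) x =
      (Q ^ 3 + 1) * (Q ^ 3 * x 0 + Q ^ 2 * x 3 + Q * x 2) := by
    intro x
    rw [Lq_eqR RGDTwD4.hp cs hε hw triE_pow _ hQ]
    congr 1
    rw [Finset.sum_range_succ, Finset.sum_range_succ, Finset.sum_range_one]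
    show Q ^ (3 - 0) * x 0 + Q ^ (3 - 1) * x 3 + Q ^ (3 - 2) * x 2 = _
    norm_num
  have h5 : t ^ 3 ≠ 1 := by
    intro h
    have h6 : cX RGDTwD4.hp t ((3 : ℤ) • sr 0) = 1 := by
      have hmc := isMC_cX RGDTwD4.hp ht
      rw [hmc.zsmul]
      have h7 := cX_pow RGDTwD4.hp ht 3 (sr 0)
      rw [h, cX_one] at h7
      have h8 : cX RGDTwD4.hp t (sr 0) ^ (3 : ℤ) = cX RGDTwD4.hp t (sr 0) ^ 3 := by
        rw [show (3 : ℤ) = ((3 : ℕ) : ℤ) by norm_num, zpow_natCast]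
      rw [h8, ← h7]
    rw [h4, hLq] at h6
    have h8 : (Q ^ 3 + 1) * (Q ^ 3 * ((3 : ℤ) • (sr 0 : Fin 4 → ℤ)) 0 + Q ^ 2 * ((3 : ℤ) • (sr 0 : Fin 4 → ℤ)) 3 +
        Q * ((3 : ℤ) • (sr 0 : Fin 4 → ℤ)) 2) = (Q ^ 3 + 1) * (Q ^ 3 * 3) := by
      have e0 : (sr 0 : Fin 4 → ℤ) 0 = 1 := rfl
      have e3 : (sr 0 : Fin 4 → ℤ) 3 = 0 := rfl
      have e2 : (sr 0 : Fin 4 → ℤ) 2 = 0 := rfl
      simp only [Pi.smul_apply, smul_eq_mul, e0, e3, e2]
      ring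
    rw [h8] at h6
    have h10 : (9 : ℤ) ∣ (Q ^ 3 + 1) * (Q ^ 3 * 3) - 3 * (2 * 1) := by
      obtain ⟨c, hc⟩ := h9
      have : Q ^ 3 = 1 + 9 * c := by linarith
      rw [this]
      exact ⟨(9 * c + 3) * 3 * c, by ring⟩
    have h11 := dvd_sub h6 h10
    have h12 : (Q ^ 3 + 1) * (Q ^ 3 * 3) - ((Q ^ 3 + 1) * (Q ^ 3 * 3) - 3 * (2 * 1)) = 6 := by ring
    have h13 : ((9 : ℕ) : ℤ) ∣ 6 := by rw [← h12]; exact h11
    norm_num at h13
  have h7 : orderOf t = 3 ^ (1 + 1) :=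
    orderOf_eq_prime_pow (by rw [pow_one]; exact h5) (show t ^ 3 ^ (1 + 1) = 1 from h2)
  obtain ⟨x, hx, -⟩ := S.exists_of_torsion RGDTwD4.hp cs hn' hz Nat.prime_three (by norm_num) ht h1 (j := 2) h2
  refine ⟨x, ?_⟩
  have h8 := orderOf_injective (MulAut.conj z⁻¹).toMonoidHom (MulAut.conj z⁻¹).injective (e0 x)
  have h10 : (MulAut.conj z⁻¹).toMonoidHom (e0 x) = t := by
    rw [← hx]
    show z⁻¹ * e0 x * z⁻¹⁻¹ = _
    rw [inv_inv]
  rw [h10, orderOf_injective e0 S.inj] at h8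
  rw [← h8, h7]
  norm_num

/-- the bad prime 3 -/
theorem D4_bad [IsAlgClosed k] [Finite W] [Finite X] {π : Set ℕ} {s : ℕ} (hsp : s.Prime)
    (hr : 3 ∈ π) (hs : s ∈ π) (hrs : 3 ≠ s) (hrc : 3 ≠ p) (hsX : s ∣ Nat.card X) {ε Q : ℤ} (hε : ε = 1 ∨ ε = -1)
    (hQ : Q = ε * (p ^ e : ℕ)) (hrQ : ((3 : ℕ) : ℤ) ∣ Q - 1) (hsQ : (s : ℤ) ∣ Q - 1) : ¬ Cond π X := by
  obtain ⟨w, hw⟩ := has_R cs 1 hε
  rw [RR1] at hw
  obtain ⟨sW, hsW⟩ : ∃ sW, sW = cs.wordProd [1, 0, 2, 3] ^ 2 := ⟨_, rfl⟩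
  have hS := repS cs
  rw [← hsW] at hS
  have hcomm : rep cs RGDTwD4.hp.isCartan sW * triE = triE * rep cs RGDTwD4.hp.isCartan sW := by
    refine end_ext fun i => ?_
    rw [Module.End.mul_apply, Module.End.mul_apply, ← toFn_lin lenT.1 lenT.2 triE_single (length_bas i.1),
      ← toFn_lin lenS.1 lenS.2 hS (length_lc _ _ lenT.2), ← toFn_lin lenS.1 lenS.2 hS (length_bas i.1),
      ← toFn_lin lenT.1 lenT.2 triE_single (length_lc _ _ lenS.2), commS]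
  have hS3 : rep cs RGDTwD4.hp.isCartan sW ^ 3 = 1 := pow_one_of lenS hS itS
  have hsum : Polynomial.aeval (rep cs RGDTwD4.hp.isCartan sW) (ofL [1, 1, 1]) *
      Polynomial.aeval triE (ofL [1, 1, 1]) = 0 := by
    refine end_ext fun i => ?_
    rw [Module.End.mul_apply, ← toFn_polyL lenT.1 lenT.2 triE_single _ _ (length_bas i.1),
      ← toFn_polyL lenS.1 lenS.2 hS _ _ (length_polyL lenT.2 _ _ (length_bas i.1)), cyS, toFn_replicate,
      LinearMap.zero_apply]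
  refine S.not_cond_BT RGDTwD4.hp cs Nat.prime_three hsp hr hs hrs (by norm_num) hsX w (n := 2 * 3) (by norm_num)
    (theta_powR RGDTwD4.hp cs hε hw triE_pow) (regT_one cs Nat.prime_three hrc (by norm_num) hε hQ hrQ hw)
    (s := sW) (fun x => ?_) (j := 1) ?_ ?_
  · rw [hw, hw, map_zsmul, ← Module.End.mul_apply, hcomm, Module.End.mul_apply]
  · apply rep_injective cs RGDTwD4.hp.isCartan
    rw [map_pow, map_one]
    exact hS3
  · intro t ht hθ hts hfix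
    have hmc := isMC_cX RGDTwD4.hp ht
    have hts' : ∀ x, cX RGDTwD4.hp t x ^ s = 1 := fun x => by rw [← cX_pow RGDTwD4.hp ht, hts, cX_one]
    have h1 : ∀ x, cX RGDTwD4.hp t (triE x) = cX RGDTwD4.hp t x := by
      intro x
      have h2 := cX_R RGDTwD4.hp cs hε hw hQ ht hθ 1 x
      rw [pow_one, pow_one] at h2
      obtain ⟨m, hm⟩ := hsQ
      have h3 : Q = 1 + s * m := by linarith
      rw [h2, h3, zpow_add₀ (hmc.ne_zero x), zpow_one, zpow_mul, zpow_natCast, hts', one_zpow, mul_one]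
    refine cX_inj RGDTwD4.hp ht (one_mem _) fun i => ?_
    rw [cX_one]
    obtain ⟨x, hx⟩ : ∃ x : Fin 4 → ℤ, x = sr i := ⟨_, rfl⟩
    rw [← hx]
    have key : ∀ (R : Module.End ℤ (Fin 4 → ℤ)), (∀ x, cX RGDTwD4.hp t (R x) = cX RGDTwD4.hp t x) → ∀ x,
        cX RGDTwD4.hp t (Polynomial.aeval R (ofL [1, 1, 1]) x) = cX RGDTwD4.hp t x ^ 3 := by
      intro R hR x
      rw [← sum_ofL]
      have h2 : ∑ j : Fin ([1, 1, 1] : List ℤ).length, ([1, 1, 1] : List ℤ).get j • (R ^ (j : ℕ)) x =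
          x + R x + R (R x) := by
        show ∑ j : Fin 3, ([1, 1, 1] : List ℤ).get j • (R ^ (j : ℕ)) x = x + R x + R (R x)
        rw [Fin.sum_univ_three]
        show (1 : ℤ) • (R ^ 0) x + (1 : ℤ) • (R ^ 1) x + (1 : ℤ) • (R ^ 2) x = x + R x + R (R x)
        rw [one_smul, one_smul, one_smul, pow_zero, pow_one, sq]
        rfl
      rw [h2, hmc.add, hmc.add, hR, hR, hR]
      ring
    have h4 := key _ hfix (Polynomial.aeval triE (ofL [1, 1, 1]) x)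
    rw [key _ h1, ← Module.End.mul_apply, hsum, LinearMap.zero_apply, hmc.zero, ← pow_mul] at h4
    have h10 : orderOf (cX RGDTwD4.hp t x) ∣ 1 := by
      have h11 := Nat.dvd_gcd (orderOf_dvd_of_pow_eq_one h4.symm) (orderOf_dvd_of_pow_eq_one (hts' x))
      have h12 : Nat.gcd (3 * 3) s = 1 := Nat.Coprime.mul_left ((Nat.coprime_primes Nat.prime_three hsp).2 hrs)
        ((Nat.coprime_primes Nat.prime_three hsp).2 hrs)
      rwa [h12] at h11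
    exact orderOf_eq_one_iff.1 (Nat.dvd_one.1 h10)

/-- the polynomial -/
def fsD4 (Q : ℤ) : ℤ := (Q ^ 2 - 1) * (Q ^ 6 - 1) * (Q ^ 8 + Q ^ 4 + 1)

/-- the abelian subgroup, order 3 -/
theorem D4_pos3 [IsAlgClosed k] [Finite W] [Finite X] {ε Q : ℤ} (hε : ε = 1 ∨ ε = -1) (hQ : Q = ε * (p ^ e : ℕ))
    {g' N' : ℕ} (hcard : g' * Nat.card X = (p ^ e) ^ N' * (fsD4 Q).natAbs) {π : Set ℕ}
    (hπ : ∀ r ∈ π, r.Prime ∧ r ≠ 2 ∧ r ≠ p ∧ orderOf (Q : ZMod r) = 3) :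
    ∃ T : Subgroup X, IsMulCommutative T ∧ ∀ r ∈ π, ¬ r ∣ T.index := by
  obtain ⟨w, hw⟩ := has_R cs (cs.wordProd [0, 1, 0, 2, 1, 3, 1, 0]) hε
  have hdeg := natDegree_cyclotomic_eq (n := 3) (by decide)
  refine S.exists_torusR RGDTwD4.hp cs hε hw hQ (n := 3) (N := 3) (by norm_num)
    (pow_one_of len3 (RR3 cs) it3) dvd_rfl (a := 2)
    (fun i => toFn 4 (([[0, 0, 0, 1], [0, 0, 1, 0]] : List (List ℤ)).getD i []))
    (fun i => fn 4 (([[-1, 0, 0, 0], [1, -1, 0, 0]] : List (List ℤ)).getD i [])) 1 ?_ ?_ hcard fun r hr => ?_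
  · intro i
    rw [cyclotomic_eq 3 (by decide), aeval_zero_of len3 (RR3 cs) cy3, LinearMap.zero_apply]
  · intro i i' j hj
    have hck : ∀ i i' : Fin 2, ∀ j < 2, dot (([[-1, 0, 0, 0], [1, -1, 0, 0]] : List (List ℤ)).getD i [])
        (itL 4 m3 j (([[0, 0, 0, 1], [0, 0, 1, 0]] : List (List ℤ)).getD i' [])) =
        if i = i' ∧ j + 1 = 2 then 1 else 0 := by decide +kernel
    have hlen : ∀ i : Fin 2, (([[-1, 0, 0, 0], [1, -1, 0, 0]] : List (List ℤ)).getD i []).length = 4 ∧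
      (([[0, 0, 0, 1], [0, 0, 1, 0]] : List (List ℤ)).getD i []).length = 4 := by decide
    have hd : (Polynomial.cyclotomic 3 ℤ).natDegree = 2 := by
      have : (cycL 3).length = 3 := rfl
      omega
    rw [hd] at hj ⊢
    obtain ⟨h1, h2⟩ := toFn_itL len3.1 len3.2 (RR3 cs) j _ (hlen i').2
    rw [← h2, ← hck i i' j hj, dot_eq _ _ (hlen i).1 h1]
    rfl
  · obtain ⟨hrp, hr2, hrc, hrn⟩ := hπ r hr
    have hrZ := Nat.prime_iff_prime_int.1 hrp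
    have hQr := not_dvd_Q (p := p) (e := e) Fact.out hrp hrc hε hQ
    have hno : ∀ n : ℕ, ¬ 3 ∣ n → ¬ (r : ℤ) ∣ Q ^ n - 1 := fun n hn h => hn (by
      have := (dvd_pow_sub_one_iff n).1 h
      rwa [hrn] at this)
    have h3 : (r : ℤ) ∣ Q ^ 3 - 1 := (dvd_pow_sub_one_iff 3).2 (by rw [hrn])
    have hr2' : ¬ (r : ℤ) ∣ 2 := fun h => hr2 ((Nat.prime_dvd_prime_iff_eq hrp Nat.prime_two).1 (by exact_mod_cast h))
    have hr3 : r ≠ 3 := by
      rintro rfl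
      have := ord_dvd hrp hQr
      rw [hrn] at this
      revert this
      decide
    have hp3 : ¬ (r : ℤ) ∣ Q ^ 3 + 1 := fun h => hr2' (by
      have := dvd_sub h h3
      rwa [show Q ^ 3 + 1 - (Q ^ 3 - 1) = 2 by ring] at this)
    have hp6 : ¬ (r : ℤ) ∣ Q ^ 6 + 1 := fun h => hr2' (by
      have := dvd_sub h (h3.trans (show Q ^ 3 - 1 ∣ Q ^ 6 - 1 from ⟨Q ^ 3 + 1, by ring⟩))
      rwa [show Q ^ 6 + 1 - (Q ^ 6 - 1) = 2 by ring] at this)
    refine ⟨hrp, hr2, hrc, fun h => hrp.one_lt.ne' (Nat.dvd_one.1 h), hrn, fun h =>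
      hr3 ((Nat.prime_dvd_prime_iff_eq hrp Nat.prime_three).1 h), fun h => hrp.one_lt.ne' (Nat.dvd_one.1 (by
        exact_mod_cast h)), (Q ^ 2 - 1) * ((Q ^ 2 - 1) * (Q ^ 2 - Q + 1)) * ((Q ^ 2 - Q + 1) * (Q ^ 4 - Q ^ 2 + 1)), ?_,
      ?_⟩
    · rw [eval_cyc3, fsD4]
      ring
    · intro h
      have e2 := hno 2 (by norm_num)
      have e6 : ¬ (r : ℤ) ∣ Q ^ 2 - Q + 1 := fun h => hp3 (h.trans ⟨Q + 1, by ring⟩)
      have e12 : ¬ (r : ℤ) ∣ Q ^ 4 - Q ^ 2 + 1 := fun h => hp6 (h.trans ⟨Q ^ 2 + 1, by ring⟩)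
      rcases hrZ.dvd_mul.1 h with h | h
      · rcases hrZ.dvd_mul.1 h with h | h
        · exact e2 h
        · rcases hrZ.dvd_mul.1 h with h | h
          · exact e2 h
          · exact e6 h
      · rcases hrZ.dvd_mul.1 h with h | h
        · exact e6 h
        · exact e12 h

/-- the abelian subgroup, order 12 -/
theorem D4_pos12 [IsAlgClosed k] [Finite W] [Finite X] {ε Q : ℤ} (hε : ε = 1 ∨ ε = -1) (hQ : Q = ε * (p ^ e : ℕ))
    {g' N' : ℕ} (hcard : g' * Nat.card X = (p ^ e) ^ N' * (fsD4 Q).natAbs) {π : Set ℕ}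
    (hπ : ∀ r ∈ π, r.Prime ∧ r ≠ 2 ∧ r ≠ p ∧ orderOf (Q : ZMod r) = 12) :
    ∃ T : Subgroup X, IsMulCommutative T ∧ ∀ r ∈ π, ¬ r ∣ T.index := by
  obtain ⟨w, hw⟩ := has_R cs (cs.wordProd [0, 1]) hε
  have hdeg := natDegree_cyclotomic_eq (n := 12) (by decide)
  refine S.exists_torusR RGDTwD4.hp cs hε hw hQ (n := 12) (N := 12) (by norm_num)
    (pow_one_of len12 (RR12 cs) it12) dvd_rfl (a := 1)
    (fun i => toFn 4 (([[0, 0, 0, 1]] : List (List ℤ)).getD i []))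
    (fun i => fn 4 (([[0, 0, -1, 0]] : List (List ℤ)).getD i [])) 1 ?_ ?_ hcard fun r hr => ?_
  · intro i
    rw [cyclotomic_eq 12 (by decide), aeval_zero_of len12 (RR12 cs) cy12, LinearMap.zero_apply]
  · intro i i' j hj
    have hck : ∀ i i' : Fin 1, ∀ j < 4, dot (([[0, 0, -1, 0]] : List (List ℤ)).getD i [])
        (itL 4 m12 j (([[0, 0, 0, 1]] : List (List ℤ)).getD i' [])) =
        if i = i' ∧ j + 1 = 4 then 1 else 0 := by decide +kernel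
    have hlen : ∀ i : Fin 1, (([[0, 0, -1, 0]] : List (List ℤ)).getD i []).length = 4 ∧
      (([[0, 0, 0, 1]] : List (List ℤ)).getD i []).length = 4 := by decide
    have hd : (Polynomial.cyclotomic 12 ℤ).natDegree = 4 := by
      have : (cycL 12).length = 5 := rfl
      omega
    rw [hd] at hj ⊢
    obtain ⟨h1, h2⟩ := toFn_itL len12.1 len12.2 (RR12 cs) j _ (hlen i').2
    rw [← h2, ← hck i i' j hj, dot_eq _ _ (hlen i).1 h1]
    rfl
  · obtain ⟨hrp, hr2, hrc, hrn⟩ := hπ r hr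
    have hrZ := Nat.prime_iff_prime_int.1 hrp
    have hQr := not_dvd_Q (p := p) (e := e) Fact.out hrp hrc hε hQ
    have hno : ∀ n : ℕ, ¬ 12 ∣ n → ¬ (r : ℤ) ∣ Q ^ n - 1 := fun n hn h => hn (by
      have := (dvd_pow_sub_one_iff n).1 h
      rwa [hrn] at this)
    have hr12 : 13 ≤ r := by
      have h1 := ord_dvd hrp hQr
      rw [hrn] at h1
      have := Nat.le_of_dvd (by have := hrp.two_le; omega) h1
      omega
    refine ⟨hrp, hr2, hrc, fun h => hrp.one_lt.ne' (Nat.dvd_one.1 h), hrn, fun h => by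
      have := Nat.le_of_dvd (by norm_num) h
      omega, fun h => hrp.one_lt.ne' (Nat.dvd_one.1 (by
        exact_mod_cast h)), (Q ^ 2 - 1) * (Q ^ 6 - 1) * ((Q ^ 2 - Q + 1) * (Q ^ 2 + Q + 1)), ?_, ?_⟩
    · rw [eval_cyc12, fsD4]
      ring
    · intro h
      have e2 := hno 2 (by norm_num)
      have e6 := hno 6 (by norm_num)
      rcases hrZ.dvd_mul.1 h with h | h
      · rcases hrZ.dvd_mul.1 h with h | h
        · exact e2 h
        · exact e6 h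
      · exact e6 (h.trans ⟨Q ^ 2 - 1, by ring⟩)

/-- the abelian subgroup, order 1 -/
theorem D4_pos1 [IsAlgClosed k] [Finite W] [Finite X] {ε Q : ℤ} (hε : ε = 1 ∨ ε = -1) (hQ : Q = ε * (p ^ e : ℕ))
    {g' N' : ℕ} (hcard : g' * Nat.card X = (p ^ e) ^ N' * (fsD4 Q).natAbs) {π : Set ℕ}
    (hπ : ∀ r ∈ π, r.Prime ∧ r ≠ 2 ∧ r ≠ 3 ∧ r ≠ p ∧ orderOf (Q : ZMod r) = 1) :
    ∃ T : Subgroup X, IsMulCommutative T ∧ ∀ r ∈ π, ¬ r ∣ T.index := by
  obtain ⟨w, hw⟩ := has_R cs 1 hε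
  rw [RR1] at hw
  refine S.exists_torusR RGDTwD4.hp cs hε hw hQ (n := 1) (N := 3) (by norm_num)
    triE_pow (by norm_num) (a := 2)
    (fun i => toFn 4 (([[0, 1, 0, 0], [1, 0, 1, 1]] : List (List ℤ)).getD i []))
    (fun i => fn 4 (([[0, 1, 0, 0], [1, 0, 0, 0]] : List (List ℤ)).getD i [])) 1 ?_ ?_ hcard fun r hr => ?_
  · intro i
    rw [cyclotomic_eq 1 (by decide)]
    have h1 : ∀ i : Fin 2, polyL 4 mT (cycL 1) (([[0, 1, 0, 0], [1, 0, 1, 1]] : List (List ℤ)).getD i []) =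
      List.replicate 4 0 := by decide +kernel
    have hlen : ∀ i : Fin 2, (([[0, 1, 0, 0], [1, 0, 1, 1]] : List (List ℤ)).getD i []).length = 4 := by decide
    rw [← toFn_polyL lenT.1 lenT.2 triE_single _ _ (hlen i), h1, toFn_replicate]
  · intro i i' j hj
    have hd : (Polynomial.cyclotomic 1 ℤ).natDegree = 1 := by
      rw [Polynomial.natDegree_cyclotomic, Nat.totient_one]
    rw [hd] at hj ⊢
    obtain rfl : j = 0 := by omega
    rw [pow_zero, Module.End.one_apply]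
    have hck : ∀ i i' : Fin 2, dot (([[0, 1, 0, 0], [1, 0, 0, 0]] : List (List ℤ)).getD i [])
        (([[0, 1, 0, 0], [1, 0, 1, 1]] : List (List ℤ)).getD i' []) =
        if i = i' ∧ 0 + 1 = 1 then 1 else 0 := by decide +kernel
    have hlen : ∀ i : Fin 2, (([[0, 1, 0, 0], [1, 0, 0, 0]] : List (List ℤ)).getD i []).length = 4 ∧
      (([[0, 1, 0, 0], [1, 0, 1, 1]] : List (List ℤ)).getD i []).length = 4 := by decide
    rw [← hck i i', dot_eq _ _ (hlen i).1 (hlen i').2]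
    rfl
  · obtain ⟨hrp, hr2, hr3, hrc, hrn⟩ := hπ r hr
    have hrZ := Nat.prime_iff_prime_int.1 hrp
    have hr1 : (r : ℤ) ∣ Q - 1 := by
      have := (dvd_pow_sub_one_iff (r := r) (Q := Q) 1).2 (by rw [hrn])
      rwa [pow_one] at this
    refine ⟨hrp, hr2, hrc, fun h => hrp.one_lt.ne' (Nat.dvd_one.1 h), hrn, fun h =>
      hr3 ((Nat.prime_dvd_prime_iff_eq hrp Nat.prime_three).1 h), fun h => hrp.one_lt.ne' (Nat.dvd_one.1 (by
        exact_mod_cast h)), (Q + 1) * (Q ^ 5 + Q ^ 4 + Q ^ 3 + Q ^ 2 + Q + 1) * (Q ^ 8 + Q ^ 4 + 1), ?_, ?_⟩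
    · rw [eval_cyc1, fsD4]
      ring
    · intro h
      have h1 : (r : ℤ) ∣ (Q + 1) * (Q ^ 5 + Q ^ 4 + Q ^ 3 + Q ^ 2 + Q + 1) * (Q ^ 8 + Q ^ 4 + 1) - 36 := by
        obtain ⟨m, hm⟩ := hr1
        have h2 : ∃ c, (Q + 1) * (Q ^ 5 + Q ^ 4 + Q ^ 3 + Q ^ 2 + Q + 1) * (Q ^ 8 + Q ^ 4 + 1) - 36 = (Q - 1) * c := by
          have h3 : Polynomial.IsRoot ((Polynomial.X + 1) * (Polynomial.X ^ 5 + Polynomial.X ^ 4 + Polynomial.X ^ 3 +
            Polynomial.X ^ 2 + Polynomial.X + 1) * (Polynomial.X ^ 8 + Polynomial.X ^ 4 + 1) - 36 :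
              Polynomial ℤ) 1 := by
            simp only [Polynomial.IsRoot, Polynomial.eval_sub, Polynomial.eval_mul, Polynomial.eval_add,
              Polynomial.eval_pow, Polynomial.eval_X, Polynomial.eval_one, Polynomial.eval_ofNat]
            norm_num
          obtain ⟨P, hP⟩ := Polynomial.dvd_iff_isRoot.2 h3
          refine ⟨P.eval Q, ?_⟩
          have h4 := congrArg (fun f => f.eval Q) hP
          simp only [Polynomial.eval_sub, Polynomial.eval_mul, Polynomial.eval_add,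
              Polynomial.eval_pow, Polynomial.eval_X, Polynomial.eval_one, Polynomial.eval_ofNat,
              Polynomial.eval_C] at h4
          exact h4
        obtain ⟨c, hc⟩ := h2
        rw [hc, hm]
        exact (dvd_mul_right _ _).mul_right _
      have h2 := dvd_sub h h1
      rw [sub_sub_cancel] at h2
      have h3 : r ∣ 2 ^ 2 * 3 ^ 2 := by exact_mod_cast h2
      rcases hrp.dvd_mul.1 h3 with h4 | h4
      · exact hr2 ((Nat.prime_dvd_prime_iff_eq hrp Nat.prime_two).1 (hrp.dvd_of_dvd_pow h4))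
      · exact hr3 ((Nat.prime_dvd_prime_iff_eq hrp Nat.prime_three).1 (hrp.dvd_of_dvd_pow h4))

/-- all orders are 3 if one is -/
theorem D4_all3 [IsAlgClosed k] [Finite W] [Finite X] {π : Set ℕ}
    (hπ : ∀ r ∈ π, r.Prime ∧ r ≠ 2 ∧ r ≠ p ∧ r ∣ Nat.card X) (hc : Cond π X) {ε Q : ℤ} (hε : ε = 1 ∨ ε = -1)
    (hQ : Q = ε * (p ^ e : ℕ)) {r s : ℕ} (hr : r ∈ π) (hs : s ∈ π) (hrn : orderOf (Q : ZMod r) = 3) :
    orderOf (Q : ZMod s) = 3 := by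
  by_cases hrs : r = s
  · rw [← hrs]; exact hrn
  obtain ⟨h1, h2, h3, h4⟩ := hπ r hr
  obtain ⟨g1, g2, g3, g4⟩ := hπ s hs
  have : Fact s.Prime := ⟨g1⟩
  have key : ∀ y : X, (∃ m, orderOf y = s ^ m) → ((orderOf y : ℕ) : ℤ) ∣ Q ^ 2 + Q + 1 := fun y hy =>
    Int.natCast_dvd.2 (orderOf_dvd_of_pow_eq_one (D4_three cs S h1 g1 hr hs hrs h3 h2 hε hQ hrn hc hy))
  by_cases hs3 : s = 3
  · exfalso
    subst hs3
    obtain ⟨y, hy⟩ := exists_nine cs S g3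
    have h5 := key y ⟨2, by rw [hy]; norm_num⟩
    rw [hy] at h5
    exact not_nine_dvd Q h5
  · obtain ⟨y, hy⟩ := exists_prime_orderOf_dvd_card' s g4
    have h5 := key y ⟨1, by rw [hy, pow_one]⟩
    rw [hy] at h5
    have h6 := (dvd_pow_sub_one_iff 3).1 (h5.trans (show Q ^ 2 + Q + 1 ∣ Q ^ 3 - 1 from ⟨Q - 1, by ring⟩))
    rcases (Nat.dvd_prime Nat.prime_three).1 h6 with h7 | h7
    · exfalso
      have h8 := (dvd_pow_sub_one_iff (r := s) (Q := Q) 1).2 (by rw [h7])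
      rw [pow_one] at h8
      have h9 := dvd_sub h5 (h8.mul_right (Q + 2))
      rw [show Q ^ 2 + Q + 1 - (Q - 1) * (Q + 2) = 3 by ring] at h9
      exact hs3 ((Nat.prime_dvd_prime_iff_eq g1 Nat.prime_three).1 (by exact_mod_cast h9))
    · exact h7

/-- all orders are 12 if one is -/
theorem D4_all12 [IsAlgClosed k] [Finite W] [Finite X] {π : Set ℕ}
    (hπ : ∀ r ∈ π, r.Prime ∧ r ≠ 2 ∧ r ≠ p ∧ r ∣ Nat.card X) (hc : Cond π X) {ε Q : ℤ} (hε : ε = 1 ∨ ε = -1)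
    (hQ : Q = ε * (p ^ e : ℕ)) {r s : ℕ} (hr : r ∈ π) (hs : s ∈ π) (hrn : orderOf (Q : ZMod r) = 12) :
    orderOf (Q : ZMod s) = 12 := by
  by_cases hrs : r = s
  · rw [← hrs]; exact hrn
  obtain ⟨h1, h2, h3, h4⟩ := hπ r hr
  obtain ⟨g1, g2, g3, g4⟩ := hπ s hs
  have : Fact s.Prime := ⟨g1⟩
  have key : ∀ y : X, (∃ m, orderOf y = s ^ m) → ((orderOf y : ℕ) : ℤ) ∣ Q ^ 4 - Q ^ 2 + 1 := fun y hy =>
    Int.natCast_dvd.2 (orderOf_dvd_of_pow_eq_one (D4_twelve cs S h1 g1 hr hs hrs h3 h2 hε hQ hrn hc hy))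
  by_cases hs3 : s = 3
  · exfalso
    subst hs3
    obtain ⟨y, hy⟩ := exists_nine cs S g3
    have h5 := key y ⟨2, by rw [hy]; norm_num⟩
    rw [hy] at h5
    exact not_nine_dvd' Q h5
  · obtain ⟨y, hy⟩ := exists_prime_orderOf_dvd_card' s g4
    have h5 := key y ⟨1, by rw [hy, pow_one]⟩
    rw [hy] at h5
    have h6 := (dvd_pow_sub_one_iff 12).1 (h5.trans (show Q ^ 4 - Q ^ 2 + 1 ∣ Q ^ 12 - 1 from
      ⟨Q ^ 8 + Q ^ 6 - Q ^ 2 - 1, by ring⟩))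
    have h7 : ∀ n < 13, n ∣ 12 → n ∣ 6 ∨ n ∣ 4 ∨ n = 12 := by decide
    rcases h7 _ (Nat.lt_succ_of_le (Nat.le_of_dvd (by norm_num) h6)) h6 with h8 | h8 | h8
    · exfalso
      have h9 := (dvd_pow_sub_one_iff (r := s) (Q := Q) 6).2 h8
      have h10 := dvd_sub (h5.trans (show Q ^ 4 - Q ^ 2 + 1 ∣ Q ^ 6 + 1 from ⟨Q ^ 2 + 1, by ring⟩)) h9
      rw [show Q ^ 6 + 1 - (Q ^ 6 - 1) = 2 by ring] at h10
      exact g2 ((Nat.prime_dvd_prime_iff_eq g1 Nat.prime_two).1 (by exact_mod_cast h10))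
    · exfalso
      have h9 := (dvd_pow_sub_one_iff (r := s) (Q := Q) 4).2 h8
      -- `Q^2 ≡ 2`, `Q^4 ≡ 4`
      have h10 : (s : ℤ) ∣ 3 := by
        have e1 := (h5.mul_right (Q ^ 2 + 2))
        have e2 := (h9.mul_right (Q ^ 2 + 1))
        have e3 := dvd_sub e1 e2
        have e4 : (Q ^ 4 - Q ^ 2 + 1) * (Q ^ 2 + 2) - (Q ^ 4 - 1) * (Q ^ 2 + 1) = 3 := by ring
        rwa [e4] at e3
      exact hs3 ((Nat.prime_dvd_prime_iff_eq g1 Nat.prime_three).1 (by exact_mod_cast h10))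
    · exact h8

/-- **The row of `³D₄`.** -/
theorem crossRow_D4_gen [IsAlgClosed k] [Finite W] [Finite X]
    {g' N' : ℕ} (hcard : g' * Nat.card X = (p ^ e) ^ N' * (fsD4 (p ^ e : ℕ)).natAbs) : CrossRow p X := by
  have hpp : p.Prime := Fact.out
  intro π hπ hnt hc
  obtain ⟨q, hq⟩ : ∃ q : ℤ, q = ((p ^ e : ℕ) : ℤ) := ⟨_, rfl⟩
  rw [← hq] at hcard
  have h1 : (1 : ℤ) = 1 ∨ (1 : ℤ) = -1 := Or.inl rfl
  have hQ1 : q = 1 * (p ^ e : ℕ) := by rw [hq, one_mul]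
  have hev : ∀ {ε : ℤ}, (ε = 1 ∨ ε = -1) → fsD4 (ε * q) = fsD4 q := by
    rintro ε (rfl | rfl) <;> unfold fsD4 <;> ring
  have hcardε : ∀ {ε : ℤ}, (ε = 1 ∨ ε = -1) → g' * Nat.card X = (p ^ e) ^ N' * (fsD4 (ε * q)).natAbs := by
    intro ε hε
    rw [hev hε]; exact hcard
  -- the orders
  have hord : ∀ r ∈ π, orderOf (q : ZMod r) ∈ [1, 2, 3, 6, 12] := by
    intro r hr
    obtain ⟨g1, g2, g3, g4⟩ := hπ r hr
    have hrZ := Nat.prime_iff_prime_int.1 g1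
    have hQr := not_dvd_Q (p := p) (e := e) Fact.out g1 g3 h1 hQ1
    have h5 : r ∣ (p ^ e) ^ N' * (fsD4 q).natAbs := by
      rw [← hcard]; exact g4.mul_left _
    rcases g1.dvd_mul.1 h5 with h6 | h6
    · exact absurd ((Nat.prime_dvd_prime_iff_eq g1 hpp).1 (g1.dvd_of_dvd_pow (g1.dvd_of_dvd_pow h6))) g3
    · have h7 : (r : ℤ) ∣ fsD4 q := Int.natCast_dvd.2 h6
      have h12 : orderOf (q : ZMod r) ∣ 12 ∧ orderOf (q : ZMod r) ≠ 4 := by
        rcases hrZ.dvd_mul.1 h7 with h8 | h8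
        · rcases hrZ.dvd_mul.1 h8 with h9 | h9
          · have h10 := (dvd_pow_sub_one_iff 2).1 h9
            exact ⟨h10.trans (by norm_num), fun h11 => by rw [h11] at h10; revert h10; decide⟩
          · have h10 := (dvd_pow_sub_one_iff 6).1 h9
            exact ⟨h10.trans (by norm_num), fun h11 => by rw [h11] at h10; revert h10; decide⟩
        · refine ⟨(dvd_pow_sub_one_iff 12).1 (h8.trans ⟨q ^ 4 - 1, by ring⟩), fun h11 => ?_⟩
          have h9 := (dvd_pow_sub_one_iff (r := r) (Q := q) 4).2 (by rw [h11])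
          have h10 := dvd_sub h8 (h9.mul_right (q ^ 4 + 2))
          rw [show q ^ 8 + q ^ 4 + 1 - (q ^ 4 - 1) * (q ^ 4 + 2) = 3 by ring] at h10
          obtain rfl := (Nat.prime_dvd_prime_iff_eq g1 Nat.prime_three).1 (by exact_mod_cast h10)
          have h12 := ord_dvd g1 hQr
          rw [h11] at h12
          revert h12
          decide
      have h13 : ∀ n < 13, n ∣ 12 ∧ n ≠ 4 → n ∈ [1, 2, 3, 6, 12] := by decide
      exact h13 _ (Nat.lt_succ_of_le (Nat.le_of_dvd (by norm_num) h12.1)) h12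
  have hp3 : ∀ r ∈ π, r.Prime ∧ r ≠ 2 ∧ r ≠ p := fun r hr => ⟨(hπ r hr).1, (hπ r hr).2.1, (hπ r hr).2.2.1⟩
  by_cases h12 : ∃ r ∈ π, orderOf (q : ZMod r) = 12
  · obtain ⟨r, hr, hrn⟩ := h12
    exact D4_pos12 cs S h1 hQ1 hcard fun s hs => ⟨(hp3 s hs).1, (hp3 s hs).2.1, (hp3 s hs).2.2,
      D4_all12 cs S hπ hc h1 hQ1 hr hs hrn⟩
  by_cases h3 : ∃ ε : ℤ, (ε = 1 ∨ ε = -1) ∧ ∃ r ∈ π, orderOf ((ε * q : ℤ) : ZMod r) = 3
  · obtain ⟨ε, hε, r, hr, hrn⟩ := h3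
    have hQε : ε * q = ε * (p ^ e : ℕ) := by rw [hq]
    exact D4_pos3 cs S hε hQε (hcardε hε) fun s hs => ⟨(hp3 s hs).1, (hp3 s hs).2.1, (hp3 s hs).2.2,
      D4_all3 cs S hπ hc hε hQε hr hs hrn⟩
  -- orders at most two
  obtain ⟨r0, hr0⟩ := hnt.nonempty
  have hε0 : ∃ ε : ℤ, (ε = 1 ∨ ε = -1) ∧ orderOf ((ε * q : ℤ) : ZMod r0) = 1 := by
    have h4 := hord r0 hr0
    simp only [List.mem_cons, List.not_mem_nil, or_false] at h4
    rcases h4 with h4 | h4 | h4 | h4 | h4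
    · exact ⟨1, h1, by rw [one_mul]; exact h4⟩
    · refine ⟨-1, Or.inr rfl, ?_⟩
      rw [neg_one_mul]
      exact order_neg (hπ r0 hr0).1 (n := 1) h4 (by norm_num) one_pos
    · exact absurd ⟨1, h1, r0, hr0, by rw [one_mul]; exact h4⟩ h3
    · refine absurd ⟨-1, Or.inr rfl, r0, hr0, ?_⟩ h3
      rw [neg_one_mul]
      exact order_neg (hπ r0 hr0).1 (n := 3) h4 (by norm_num) (by norm_num)
    · exact absurd ⟨r0, hr0, h4⟩ h12
  obtain ⟨ε, hε, h5⟩ := hε0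
  have hQε : ε * q = ε * (p ^ e : ℕ) := by rw [hq]
  have hd0 : (r0 : ℤ) ∣ ε * q - 1 := by
    have := (dvd_pow_sub_one_iff (r := r0) (Q := ε * q) 1).2 (by rw [h5])
    rwa [pow_one] at this
  have hall : ∀ s ∈ π, orderOf ((ε * q : ℤ) : ZMod s) = 1 := by
    intro s hs
    by_cases hrs : r0 = s
    · rw [← hrs]; exact h5
    obtain ⟨g1, g2, g3, g4⟩ := hπ s hs
    have : Fact s.Prime := ⟨g1⟩
    obtain ⟨y, hy⟩ := exists_prime_orderOf_dvd_card' s g4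
    have h6 := D4_one cs S (hπ r0 hr0).1 g1 hr0 hs hrs (hπ r0 hr0).2.2.1 (hπ r0 hr0).2.1 hε hQε hd0 hc (y := y)
      ⟨1, by rw [hy, pow_one]⟩
    have h7 := orderOf_dvd_of_pow_eq_one h6
    rw [hy] at h7
    have h8 := (dvd_pow_sub_one_iff 3).1 (Int.natCast_dvd.2 h7)
    rcases (Nat.dvd_prime Nat.prime_three).1 h8 with h9 | h9
    · exact h9
    · exact absurd ⟨ε, hε, s, hs, h9⟩ h3
  by_cases h3π : 3 ∈ π
  · exfalso
    obtain ⟨s, hs, hs3⟩ := hnt.exists_ne 3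
    have hd : ∀ s ∈ π, (s : ℤ) ∣ ε * q - 1 := fun s hs => by
      have := (dvd_pow_sub_one_iff (r := s) (Q := ε * q) 1).2 (by rw [hall s hs])
      rwa [pow_one] at this
    exact D4_bad cs S (hπ s hs).1 h3π hs hs3.symm (hπ 3 h3π).2.2.1 (hπ s hs).2.2.2 hε hQε (hd 3 h3π) (hd s hs) hc
  · exact D4_pos1 cs S hε hQε (hcardε hε) fun s hs => ⟨(hp3 s hs).1, (hp3 s hs).2.1,
      fun h => h3π (by rw [← h]; exact hs), (hp3 s hs).2.2, hall s hs⟩

end D4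

/-- the setup of `³D₄(q)` -/
theorem setup_twD4 {W : Type*} [Group W] (cs : CoxeterSystem coxeterD4 W) {k : Type u} [Field k]
    [IsAlgClosed k] {p e : ℕ} [Fact p.Prime] [CharP k p] (hk : LocFin k) {F : Type u} [Field F] [Fintype F]
    (f : F →+* k) {q : ℕ} (he0 : 0 < e) (hqe : q = p ^ e) (hq : IsPrimePow q) (hF : Fintype.card F = q ^ 3) :
    Setup RGDTwD4.hp cs p e (tau k p e) tri (embT f hq hF) 1 where
  lf := hk
  pos := he0
  frob := isFrob_tau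
  fr := fr_tau cs
  inv := ⟨_, 2, two_ne_zero, invC_D4⟩
  inj := embT_injective f hq hF
  fix := tau_embT f hqe hq hF
  range := fun _ _ _ _ hy _ => tau_range f hqe hq hF hy

/-- **Type `³D₄`.** -/
theorem crossRow_twD4 (r : ℕ) [Fact r.Prime] (F : Type u) [Field F] [Fintype F] [CharP F r] {q : ℕ}
    (hq : IsPrimePow q) (hF : Fintype.card F = q ^ 3) : CrossRow r ↥(twistedD4 F q) := by
  obtain ⟨k, _, _, f, p, hpp, hkp, e', hk, hka, he0', hcF⟩ := H378.TorFin.exists_closure F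
  have hkr : CharP k r := charP_of_injective_ringHom f.injective r
  obtain rfl : r = p := CharP.eq k hkr hkp
  obtain ⟨e, he0, hqe⟩ : ∃ e, 0 < e ∧ q = r ^ e := by
    obtain ⟨r', e, hr', he, rfl⟩ := hq
    have h1 : r' ∣ r ^ e' := by
      rw [← hcF, Nat.card_eq_fintype_card, hF]
      exact (dvd_pow_self r' he.ne').trans (dvd_pow_self _ three_ne_zero)
    have h2 : r' = r := (Nat.prime_dvd_prime_iff_eq hr'.nat_prime hpp.out).1 (hr'.nat_prime.dvd_of_dvd_pow h1)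
    exact ⟨e, he, by rw [h2]⟩
  have cs := coxeterD4.toCoxeterSystem
  have hW := finite_W RGDTwD4.hp cs
  have S := setup_twD4 cs hk f he0 hqe hq hF
  refine crossRow_D4_gen cs S (g' := 1) (N' := 12) ?_
  rw [S1067.result hq hF, ← hqe, one_mul, fsD4, Int.natAbs_mul, Int.natAbs_mul]
  have ev : ∀ i : ℕ, ((q : ℤ) ^ i - 1).natAbs = q ^ i - 1 := by
    intro i
    have h1 : 1 ≤ q ^ i := Nat.one_le_pow _ _ hq.pos
    have h2 : ((q : ℕ) : ℤ) ^ i - 1 = ((q ^ i - 1 : ℕ) : ℤ) := by push_cast [Nat.cast_sub h1]; ring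
    rw [h2, Int.natAbs_natCast]
  have e8 : ((q : ℤ) ^ 8 + (q : ℤ) ^ 4 + 1).natAbs = q ^ 8 + q ^ 4 + 1 := by
    have : (q : ℤ) ^ 8 + (q : ℤ) ^ 4 + 1 = ((q ^ 8 + q ^ 4 + 1 : ℕ) : ℤ) := by push_cast; ring
    rw [this, Int.natAbs_natCast]
  rw [ev, ev, e8]
  ring

end Cfsg.Agent.H630.Exc
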