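import Cfsg.Agent.H630.ExcB
import Cfsg.Agent.H378.RegTw
import Cfsg.Agent.H378.RegE7
import Cfsg.Agent.H944.TorAnyChev

/-!
# `Cond` and twisted tori, continued (helper630)

* `Setup.exists_conj_tX` : if `Cond {r, s} X` and every root is nontrivial on the `r`-subgroup `A` of a twisted torus then
  every `s`-element of `X` is conjugate into the torus;
* `HasTor` : `θ = ε w₁`; `RegAt` : every root is nontrivial on the elements of order `r`;
* `Setup.pow_eq_one` : the resulting bound for the exponent; `Setup.not_cond_reg`;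
* `Setup.totient_le` : `Cond {r, s} X`, orders `m ≠ m'` of `q` modulo `r`, `s > l + 1`: `φ(m) + φ(m') ≤ l`.
-/

set_option autoImplicit false
set_option linter.unusedSectionVars false

namespace Cfsg.Agent.H630.Exc

open CoxeterSystem Cfsg Cfsg.Lie Cfsg.Lie.ChevalleyDatum
open Cfsg.Agent.ChevalleyStructure Cfsg.Agent.ChevalleyStructure.Elts Cfsg.Agent.ChevalleyStructure.CoxeterGeom
  Cfsg.Agent.ChevalleyStructure.CoxeterGeomTypes Cfsg.Agent.ChevalleyStructure.NPerm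
open Cfsg.Agent.Tits.Roots Cfsg.Agent.Tits.Core Cfsg.Agent.Nodes Cfsg.Agent.Nodes.Reps Cfsg.Agent.Nodes.BNOf
  Cfsg.Agent.Nodes.RGDChev Cfsg.Agent.Nodes.Bruhat Cfsg.Agent.Nodes.SubComb Cfsg.Agent.Nodes.Coroot
open Cfsg.Agent.KFacts.RgdField Cfsg.Agent.KFacts.RgdChevCoord Cfsg.Agent.BpExc.TorCent Cfsg.Agent.BpExc.TorChev
open Cfsg.Agent.GpExc.Field Cfsg.Agent.BpExc.Tow Cfsg.Agent.BpExc.TowChev Cfsg.Agent.BpExc.Fr
  Cfsg.Agent.BpExc.LangFr Cfsg.Agent.LangThm Cfsg.Agent.BpExc Cfsg.Agent.H129.TorusChar Cfsg.Agent.H129.TorusMain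
open Cfsg.Agent.H129.TorAct (cX_tau tau_mem exists_theta)
open Cfsg.Agent.H630.NH

universe u v

variable {D : ChevalleyDatum} {l : ℕ} {M : CoxeterMatrix (Fin l)} (hp : IsType D l M) {k : Type u} [Field k]
  {W : Type*} [Group W] (cs : CoxeterSystem M W)

variable {p e : ℕ} [Fact p.Prime] [CharP k p] {σ : MulAut ↥(D.group k)} {g : (Fin l → ℤ) ≃+ (Fin l → ℤ)}
  {X : Type v} [Group X] {e0 : X →* ↥(D.group k)} {d : ℕ} (S : Setup hp cs p e σ g e0 d)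

include S

theorem Setup.conj_pow_eq {y : X} {z : ↥(D.group k)} (n : ℕ) : (z⁻¹ * e0 y * z) ^ n = z⁻¹ * e0 (y ^ n) * z := by
  have h2 := conj_pow (i := n) (a := z⁻¹) (b := e0 y)
  rw [inv_inv] at h2
  rw [h2, map_pow]

/-- **An `s`-element is conjugate into the torus.** -/
theorem Setup.exists_conj_tX [Finite W] [Finite X] {π : Set ℕ} {r s : ℕ} (hrp : r.Prime) (hsp : s.Prime)
    (hr : r ∈ π) (hs : s ∈ π) (hrs : r ≠ s) {z : ↥(D.group k)} (A : Subgroup X) (hA : IsPGroup r A)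
    (hAT : A ≤ tX D k e0 z) (hroot : ∀ a, IsRoot cs hp.isCartan a → ∃ x ∈ A, cX hp (z⁻¹ * e0 x * z) a ≠ 1)
    (hc : Cond π X) {y : X} (hy : ∃ m, orderOf y = s ^ m) : ∃ h : X, h⁻¹ * y * h ∈ tX D k e0 z := by
  have : Fact r.Prime := ⟨hrp⟩
  have : Fact s.Prime := ⟨hsp⟩
  have hNs := S.nsys hp cs
  obtain ⟨h, hh⟩ := exists_conj_le r A hA _ (hc s hs r hr (Ne.symm hrs) y hy)
  obtain ⟨y', hy'⟩ : ∃ y', y' = h⁻¹ * y * h := ⟨_, rfl⟩
  have hyc : ∀ a ∈ A, a * y' = y' * a := by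
    intro a ha
    have h2 := hh a ha
    rw [Subgroup.mem_centralizer_singleton_iff] at h2
    have h3 : a * (h⁻¹ * y * h) = h⁻¹ * (h * a * h⁻¹ * y) * h := by group
    rw [hy', h3, h2]
    group
  have hys : orderOf y' = orderOf y := by
    have := orderOf_injective (MulAut.conj h⁻¹).toMonoidHom (MulAut.conj h⁻¹).injective y
    rw [hy']
    simpa using this
  obtain ⟨m, hm⟩ := hy
  obtain ⟨j, hj⟩ := IsPGroup.iff_card.1 hA
  refine ⟨h, ?_⟩
  rw [← hy', mem_tX]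
  refine mem_TT_of_pow hp cs S.lf p hNs (A := (fun x : X => z⁻¹ * e0 x * z) '' (A : Set X))
    ((Set.toFinite _).image _) ?_ ?_ (r := r ^ j) ?_ (m := s ^ m) (pow_pos hsp.pos m)
    (Nat.Coprime.pow _ _ ((Nat.coprime_primes hsp hrp).2 (Ne.symm hrs))) ?_ ?_
  · rintro _ ⟨x, hx, rfl⟩
    exact hAT hx
  · intro a ha
    obtain ⟨x, hx, h1⟩ := hroot a ha
    exact ⟨_, ⟨x, hx, rfl⟩, h1⟩
  · rintro _ ⟨x, hx, rfl⟩
    have h1 : x ^ r ^ j = 1 := by
      have := pow_card_eq_one' (x := (⟨x, hx⟩ : A))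
      rw [hj] at this
      exact congrArg Subtype.val this
    rw [S.conj_pow_eq hp cs, h1, map_one]; group
  · rintro _ ⟨x, hx, rfl⟩
    have h2 := hyc x hx
    calc z⁻¹ * e0 y' * z * (z⁻¹ * e0 x * z) = z⁻¹ * (e0 (y' * x)) * z := by rw [map_mul]; group
      _ = z⁻¹ * (e0 (x * y')) * z := by rw [h2]
      _ = _ := by rw [map_mul]; group
  · rw [S.conj_pow_eq hp cs, ← hm, ← hys, pow_orderOf_eq_one, map_one]; group

/-- Then it is killed by the exponent of the torus. -/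
theorem Setup.pow_eq_one_of [IsAlgClosed k] [Finite W] [Finite X] {π : Set ℕ} {r s : ℕ} (hrp : r.Prime) (hsp : s.Prime)
    (hr : r ∈ π) (hs : s ∈ π) (hrs : r ≠ s) {hN : NSys M (TT D k) (nc hp k)} {w : W} {n z : ↥(D.group k)}
    (hn : Rp cs hN w n) (hz : n = z⁻¹ * σ z) (A : Subgroup X) (hA : IsPGroup r A)
    (hAT : A ≤ tX D k e0 z) (hroot : ∀ a, IsRoot cs hp.isCartan a → ∃ x ∈ A, cX hp (z⁻¹ * e0 x * z) a ≠ 1)
    {N : ℕ} (hN' : ∀ t ∈ TT D k, (∀ x, cX hp t (theta hp cs w g x) = cX hp t x ^ p ^ e) → t ^ N = 1)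
    (hc : Cond π X) {y : X} (hy : ∃ m, orderOf y = s ^ m) : y ^ N = 1 := by
  obtain ⟨h, hh⟩ := S.exists_conj_tX hp cs hrp hsp hr hs hrs A hA hAT hroot hc hy
  have h1 := hN' _ hh ((tau_iff hp cs S.lf S.frob S.fr hn hh).1 (S.tau hp cs hz _))
  rw [S.conj_pow_eq hp cs] at h1
  have h2 : e0 ((h⁻¹ * y * h) ^ N) = 1 := by
    have h3 : e0 ((h⁻¹ * y * h) ^ N) = z * (z⁻¹ * e0 ((h⁻¹ * y * h) ^ N) * z) * z⁻¹ := by group
    rw [h3, h1]; group
  have h3 : (h⁻¹ * y * h) ^ N = 1 := S.inj (by rw [h2, map_one])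
  have h4 := conj_pow (i := N) (a := h⁻¹) (b := y)
  rw [inv_inv] at h4
  rw [h4] at h3
  calc y ^ N = h * (h⁻¹ * y ^ N * h) * h⁻¹ := by group
    _ = 1 := by rw [h3]; group

/-- **Theorem A, second version**: every `s`-element is killed by the exponent of the torus. -/
theorem Setup.pow_eq_one [IsAlgClosed k] [Finite W] [Finite X] {π : Set ℕ} {r s : ℕ} (hrp : r.Prime) (hsp : s.Prime)
    (hr : r ∈ π) (hs : s ∈ π) (hrs : r ≠ s) (hrc : r ≠ p) (hrd : ¬ r ∣ d) (w : W) {n : ℕ}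
    (hθ : ∀ x, (theta hp cs w g)^[n] x = x) (hq : (r : ℤ) ∣ ((p ^ e : ℕ) : ℤ) ^ n - 1)
    (hroot : ∀ a, IsRoot cs hp.isCartan a → ∃ L : (Fin l → ℤ) →+ ℤ, ¬ (r : ℤ) ∣ Lq L (theta hp cs w g) (p ^ e) n a)
    {N : ℕ} (hN : ∀ t ∈ TT D k, (∀ x, cX hp t (theta hp cs w g x) = cX hp t x ^ p ^ e) → t ^ N = 1)
    (hc : Cond π X) {y : X} (hy : ∃ m, orderOf y = s ^ m) : y ^ N = 1 := by
  have : Fact r.Prime := ⟨hrp⟩
  have hNs := S.nsys hp cs
  obtain ⟨n', hn'⟩ := exists_rp cs hNs w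
  obtain ⟨z, hz⟩ := lang_all hp cs S.pos S.frob S.fr 1 n'
  rw [map_one, one_mul] at hz
  have hrk : (r : k) ≠ 0 := by
    rw [Ne, CharP.cast_eq_zero_iff k p]
    intro h
    exact hrc ((Nat.prime_dvd_prime_iff_eq (Fact.out : p.Prime) hrp).1 h).symm
  obtain ⟨B, d', hd', hB⟩ := S.inv
  refine S.pow_eq_one_of hp cs hrp hsp hr hs hrs hn' hz (tXr hp S.inj z r) ?_ (fun x hx => hx.1) ?_ hN hc hy
  · rintro ⟨x, hx⟩
    exact ⟨1, Subtype.ext (by rw [pow_one]; exact hx.2)⟩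
  · intro a ha
    obtain ⟨L, hL⟩ := hroot a ha
    obtain ⟨t, ht, h1, h2, h3⟩ := exists_torsion hp hB hd' hθ hrk hq L hL
    obtain ⟨x, hx⟩ := S.exists_of_tau hp cs hz ((tau_iff hp cs S.lf S.frob S.fr hn' ht).2 h1) hrp hrd ⟨1, by
      rw [pow_one]; exact h2⟩
    refine ⟨x, ⟨by rw [mem_tX, hx]; exact ht, ?_⟩, by rw [hx]; exact h3⟩
    apply S.inj
    rw [map_pow, map_one]
    have h1 : e0 x = z * t * z⁻¹ := by rw [← hx]; group
    rw [h1, conj_pow, h2]; group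

/-- `θ = ε w₁` for some `w`. -/
def HasTor (hp : IsType D l M) (cs : CoxeterSystem M W) (g : (Fin l → ℤ) ≃+ (Fin l → ℤ)) (ε : ℤ) (w1 : W) : Prop :=
  ∃ w : W, ∀ x, theta hp cs w g x = ε • rep cs hp.isCartan w1 x

/-- Every root is nontrivial on the elements of order `r` of the torus. -/
def RegAt {A : Fin l → Fin l → ℤ} (cs : CoxeterSystem M W) (h : IsCartan M A) (w1 : W) (n r : ℕ) (Q : ℤ) : Prop :=
  ∀ a, IsRoot cs h a → ∃ L : (Fin l → ℤ) →+ ℤ,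
    ¬ (r : ℤ) ∣ ∑ j ∈ Finset.range n, Q ^ (n - j) * L ((rep cs h w1 ^ j) a)

omit S in
theorem theta_iter {w w1 : W} {ε : ℤ} (h : ∀ x, theta hp cs w g x = ε • rep cs hp.isCartan w1 x) (j : ℕ)
    (x : Fin l → ℤ) : (theta hp cs w g)^[j] x = ε ^ j • (rep cs hp.isCartan w1 ^ j) x := by
  induction j with
  | zero => rw [Function.iterate_zero_apply, pow_zero, one_smul, pow_zero, Module.End.one_apply]
  | succ j ih => rw [Function.iterate_succ_apply', ih, map_zsmul, h, smul_smul, pow_succ, pow_succ',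
      Module.End.mul_apply]

omit S in
theorem eps_pow_two {ε : ℤ} (hε : ε = 1 ∨ ε = -1) (n : ℕ) : ε ^ (2 * n) = 1 := by
  rcases hε with rfl | rfl
  · rw [one_pow]
  · rw [pow_mul]; norm_num

omit S in
theorem rep_pow_one {w1 : W} {n : ℕ} (hw : w1 ^ n = 1) : rep cs hp.isCartan w1 ^ n = 1 := by
  rw [← map_pow, hw, map_one]

omit S in
theorem Lq_eq {w w1 : W} {ε : ℤ} (hε : ε = 1 ∨ ε = -1) (h : ∀ x, theta hp cs w g x = ε • rep cs hp.isCartan w1 x)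
    {n : ℕ} (hw : rep cs hp.isCartan w1 ^ n = 1) (q : ℕ) {Q : ℤ} (hQ : Q = ε * q) (L : (Fin l → ℤ) →+ ℤ) (a : Fin l → ℤ) :
    Lq L (theta hp cs w g) q (2 * n) a =
      (Q ^ n + 1) * ∑ j ∈ Finset.range n, Q ^ (n - j) * L ((rep cs hp.isCartan w1 ^ j) a) := by
  unfold Lq
  have h1 : ∀ j ∈ Finset.range (2 * n), (q : ℤ) ^ (2 * n - j) * L ((theta hp cs w g)^[j] a) =
      Q ^ (2 * n - j) * L ((rep cs hp.isCartan w1 ^ j) a) := by
    intro j hj
    rw [Finset.mem_range] at hj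
    rw [theta_iter hp cs h, map_zsmul, smul_eq_mul, hQ, mul_pow, ← mul_assoc]
    congr 1
    rw [mul_comm]
    congr 1
    have h2 := eps_pow_two hε n
    have h3 : ε ^ (2 * n) = ε ^ (2 * n - j) * ε ^ j := by rw [← pow_add]; congr 1; omega
    rcases hε with rfl | rfl
    · rw [one_pow, one_pow]
    · rw [h2] at h3
      rcases neg_one_pow_eq_or ℤ j with h4 | h4 <;> rw [h4] at h3 ⊢ <;> linarith
  rw [Finset.sum_congr rfl h1, two_mul, Finset.sum_range_add, add_mul, one_mul, Finset.mul_sum]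
  congr 1
  · refine Finset.sum_congr rfl fun j hj => ?_
    rw [Finset.mem_range] at hj
    rw [← mul_assoc, ← pow_add]
    congr 2
    omega
  · refine Finset.sum_congr rfl fun j hj => ?_
    rw [Finset.mem_range] at hj
    rw [pow_add, hw, one_mul]
    congr 2
    omega

/-- The exponent of the torus of `ε w₁`. -/
theorem Setup.torus_exp {w w1 : W} {ε : ℤ} (hε : ε = 1 ∨ ε = -1)
    (h : ∀ x, theta hp cs w g x = ε • rep cs hp.isCartan w1 x) {n : ℕ} (hw : rep cs hp.isCartan w1 ^ n = 1) {Q : ℤ}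
    (hQ : Q = ε * (p ^ e : ℕ)) {t : ↥(D.group k)} (ht : t ∈ TT D k)
    (hθ : ∀ x, cX hp t (theta hp cs w g x) = cX hp t x ^ p ^ e) : t ^ (Q ^ n - 1).natAbs = 1 := by
  have hmc := isMC_cX hp ht
  refine cX_inj hp (pow_mem ht _) (one_mem _) fun i => ?_
  rw [cX_pow hp ht, cX_one]
  have h0 := hmc.ne_zero (sr i)
  have h1 := cX_iter hp hθ n (sr i)
  rw [theta_iter hp cs h, hw, Module.End.one_apply, hmc.zsmul] at h1
  have h2 : cX hp t (sr i) ^ (((p ^ e : ℕ) : ℤ) ^ n - ε ^ n) = 1 := by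
    rw [zpow_sub₀ h0, h1]
    have h3 : cX hp t (sr i) ^ (((p ^ e : ℕ) : ℤ) ^ n) = cX hp t (sr i) ^ (p ^ e) ^ n := by
      rw [← zpow_natCast]
      congr 1
    rw [h3, div_self (pow_ne_zero _ h0)]
  have h3 : (((Q ^ n - 1).natAbs : ℕ) : ℤ) = ((p ^ e : ℕ) : ℤ) ^ n - ε ^ n ∨
      (((Q ^ n - 1).natAbs : ℕ) : ℤ) = -(((p ^ e : ℕ) : ℤ) ^ n - ε ^ n) := by
    have h4 : Q ^ n - 1 = ε ^ n * (((p ^ e : ℕ) : ℤ) ^ n - ε ^ n) := by
      rw [hQ, mul_pow, mul_sub, ← pow_add, ← two_mul, eps_pow_two hε]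
    have h5 : ε ^ n = 1 ∨ ε ^ n = -1 := by
      rcases hε with rfl | rfl
      · left; rw [one_pow]
      · exact neg_one_pow_eq_or ℤ n
    rw [h4, Int.natCast_natAbs, abs_mul]
    have h6 : |ε ^ n| = 1 := by rcases h5 with h5 | h5 <;> rw [h5] <;> norm_num
    rw [h6, one_mul]
    exact abs_choice _
  rw [← zpow_natCast]
  rcases h3 with h3 | h3 <;> rw [h3]
  · exact h2
  · rw [zpow_neg, h2, inv_one]

/-- **Theorem A for a regular element.** -/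
theorem Setup.pow_eq_one_reg [IsAlgClosed k] [Finite W] [Finite X] {π : Set ℕ} {r s : ℕ} (hrp : r.Prime)
    (hsp : s.Prime) (hr : r ∈ π) (hs : s ∈ π) (hrs : r ≠ s) (hrc : r ≠ p) (hrd : ¬ r ∣ d) (hr2 : r ≠ 2) {ε : ℤ}
    (hε : ε = 1 ∨ ε = -1) {w1 : W} (hT : HasTor hp cs g ε w1) {n : ℕ} (hw : rep cs hp.isCartan w1 ^ n = 1) {Q : ℤ}
    (hQ : Q = ε * (p ^ e : ℕ)) (hrQ : (r : ℤ) ∣ Q ^ n - 1) (hreg : RegAt cs hp.isCartan w1 n r Q)
    (hc : Cond π X) {y : X} (hy : ∃ m, orderOf y = s ^ m) : y ^ (Q ^ n - 1).natAbs = 1 := by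
  obtain ⟨w, hw'⟩ := hT
  have hrZ := Nat.prime_iff_prime_int.1 hrp
  refine S.pow_eq_one hp cs hrp hsp hr hs hrs hrc hrd w (n := 2 * n) (fun x => ?_) ?_ (fun a ha => ?_)
    (fun t ht hθ => S.torus_exp hp cs hε hw' hw hQ ht hθ) hc hy
  · rw [theta_iter hp cs hw', eps_pow_two hε, one_smul, mul_comm, pow_mul, hw, one_pow,
      Module.End.one_apply]
  · have h1 : ((p ^ e : ℕ) : ℤ) ^ (2 * n) = Q ^ (2 * n) := by rw [hQ, mul_pow, eps_pow_two hε, one_mul]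
    rw [h1]
    refine hrQ.trans ⟨Q ^ n + 1, ?_⟩
    ring
  · obtain ⟨L, hL⟩ := hreg a ha
    refine ⟨L, fun h1 => ?_⟩
    rw [Lq_eq hp cs hε hw' hw _ hQ] at h1
    rcases hrZ.dvd_mul.1 h1 with h2 | h2
    · have h3 : (r : ℤ) ∣ 2 := by
        have h4 := dvd_sub h2 hrQ
        have h5 : Q ^ n + 1 - (Q ^ n - 1) = 2 := by ring
        rwa [h5] at h4
      have h4 : r ∣ 2 := by exact_mod_cast h3
      exact hr2 ((Nat.prime_dvd_prime_iff_eq hrp Nat.prime_two).1 h4)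
    · exact hL h2

/-- **Theorem A for a regular element**, contradiction. -/
theorem Setup.not_cond_reg [IsAlgClosed k] [Finite W] [Finite X] {π : Set ℕ} {r s : ℕ} (hrp : r.Prime)
    (hsp : s.Prime) (hr : r ∈ π) (hs : s ∈ π) (hrs : r ≠ s) (hrc : r ≠ p) (hrd : ¬ r ∣ d) (hr2 : r ≠ 2)
    (hsX : s ∣ Nat.card X) {ε : ℤ}
    (hε : ε = 1 ∨ ε = -1) {w1 : W} (hT : HasTor hp cs g ε w1) {n : ℕ} (hw : rep cs hp.isCartan w1 ^ n = 1) {Q : ℤ}
    (hQ : Q = ε * (p ^ e : ℕ)) (hrQ : (r : ℤ) ∣ Q ^ n - 1) (hreg : RegAt cs hp.isCartan w1 n r Q)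
    (hsQ : ¬ (s : ℤ) ∣ Q ^ n - 1) : ¬ Cond π X := by
  intro hc
  have : Fact s.Prime := ⟨hsp⟩
  obtain ⟨y, hy⟩ := exists_prime_orderOf_dvd_card' s hsX
  have h1 := S.pow_eq_one_reg hp cs hrp hsp hr hs hrs hrc hrd hr2 hε hT hw hQ hrQ hreg hc (y := y) ⟨1, by
    rw [hy, pow_one]⟩
  have h2 := orderOf_dvd_of_pow_eq_one h1
  rw [hy] at h2
  exact hsQ (Int.natCast_dvd.2 h2)

/-! ### orders modulo primes -/

section Arith

variable {r : ℕ} {Q : ℤ}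

omit S in
theorem dvd_pow_sub_one_iff (n : ℕ) : (r : ℤ) ∣ Q ^ n - 1 ↔ orderOf (Q : ZMod r) ∣ n := by
  rw [orderOf_dvd_iff_pow_eq_one, ← ZMod.intCast_zmod_eq_zero_iff_dvd, Int.cast_sub, Int.cast_pow, Int.cast_one,
    sub_eq_zero]

omit S in
theorem ord_pos (hr : r.Prime) (hQ : ¬ (r : ℤ) ∣ Q) : 0 < orderOf (Q : ZMod r) := by
  have : Fact r.Prime := ⟨hr⟩
  have h1 : (Q : ZMod r) ≠ 0 := by rwa [Ne, ZMod.intCast_zmod_eq_zero_iff_dvd]
  exact orderOf_pos_iff.2 (isOfFinOrder_iff_pow_eq_one.2 ⟨r - 1, by have := hr.two_le; omega, ZMod.pow_card_sub_one_eq_one h1⟩)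

omit S in
theorem ord_dvd (hr : r.Prime) (hQ : ¬ (r : ℤ) ∣ Q) : orderOf (Q : ZMod r) ∣ r - 1 := by
  have : Fact r.Prime := ⟨hr⟩
  have h1 : (Q : ZMod r) ≠ 0 := by rwa [Ne, ZMod.intCast_zmod_eq_zero_iff_dvd]
  exact orderOf_dvd_of_pow_eq_one (ZMod.pow_card_sub_one_eq_one h1)

omit S in
theorem not_dvd_ord (hr : r.Prime) (hQ : ¬ (r : ℤ) ∣ Q) : ¬ r ∣ orderOf (Q : ZMod r) := by
  intro h
  have h1 := Nat.le_of_dvd (by have := hr.two_le; omega) (h.trans (ord_dvd hr hQ))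
  have := hr.two_le
  omega

omit S in
theorem dvd_cyclotomic (hr : r.Prime) (hQ : ¬ (r : ℤ) ∣ Q) :
    (r : ℤ) ∣ (Polynomial.cyclotomic (orderOf (Q : ZMod r)) ℤ).eval Q := by
  have : Fact r.Prime := ⟨hr⟩
  have h1 : NeZero ((orderOf (Q : ZMod r) : ℕ) : ZMod r) := ⟨by
    rw [Ne, ZMod.natCast_eq_zero_iff]
    exact not_dvd_ord hr hQ⟩
  have h2 := (Polynomial.isRoot_cyclotomic_iff (R := ZMod r)).2 (IsPrimitiveRoot.orderOf (Q : ZMod r))
  rw [← ZMod.intCast_zmod_eq_zero_iff_dvd]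
  rw [Polynomial.IsRoot.def, ← Polynomial.map_cyclotomic_int, Polynomial.eval_intCast_map] at h2
  exact h2

end Arith

/-! ### elements of order `r s` -/

omit S in
theorem exists_rp_of_conj [Finite W] (hk : LocFin k) (p : ℕ) [Fact p.Prime] [CharP k p]
    (hN : NSys M (TT D k) (nc hp k)) {s t c : ↥(D.group k)}
    (hs : s ∈ TT D k) (ht : t ∈ TT D k) (h : c * s = t * c) : ∃ (w : W) (n : ↥(D.group k)), Rp cs hN w n ∧ n * s = t * n := by
  have H := tow hp cs hk p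
  have C := coordsL hp cs hk p
  rw [← TL_eq hp hk, ← XL_eq hp hk] at C
  have ht' : t ∈ TL (Tj hp (k := k)) := by rw [TL_eq hp hk]; exact ht
  have hs' : s ∈ TL (Tj hp (k := k)) := by rw [TL_eq hp hk]; exact hs
  have hcG : c ∈ GG cs hp.isCartan (TL (Tj hp (k := k))) (XL (Xj hp)) := by
    rw [GG_eq_top hp cs hk]; exact Subgroup.mem_top c
  obtain ⟨m, -, w, n, hn, hnt, -⟩ := BpExc.Fr.exists_form H C hs' ht' hcG h
  have h4 : ∀ (T' : Subgroup ↥(D.group k)) (_ : T' = TT D k) (h : NSys M T' (nc hp k)),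
      Rp cs h w n → Rp cs hN w n := by
    rintro _ rfl h h5
    exact h5
  exact ⟨w, n, h4 _ (TL_eq hp hk) _ hn, hnt⟩

/-- **Torality of the elements of `X`.** -/
theorem Setup.exists_theta_elem [IsAlgClosed k] [Finite W] (hka : BpExc.TorAll.HAlg p k) {x : X} {N : ℕ} (hN0 : N ≠ 0)
    (hNp : N.Coprime p) (hx : x ^ N = 1) : ∃ (w : W) (t z : ↥(D.group k)), t ∈ TT D k ∧ z⁻¹ * e0 x * z = t ∧
      ∀ y, cX hp t (theta hp cs w g y) = cX hp t y ^ p ^ e := by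
  obtain ⟨g', hg'⟩ := H944.TorAnyChev.exists_conj_mem_TT hp p hka (x := e0 x) hN0 hNp (by rw [← map_pow, hx, map_one])
  obtain ⟨z, hz⟩ : ∃ z, z = g'⁻¹ := ⟨_, rfl⟩
  have hN := S.nsys hp cs
  have ht : z⁻¹ * e0 x * z ∈ TT D k := by rw [hz, inv_inv]; exact hg'
  have h1 : σ (z⁻¹ * e0 x * z) = (σ z)⁻¹ * e0 x * σ z := by rw [map_mul, map_mul, map_inv, S.fix]
  obtain ⟨w, n, hn, hnt⟩ := exists_rp_of_conj hp cs S.lf p hN (s := σ (z⁻¹ * e0 x * z)) (t := z⁻¹ * e0 x * z)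
    (c := z⁻¹ * σ z) ((S.fr.tor _).2 ht) ht (by rw [h1]; group)
  refine ⟨w, _, z, ht, rfl, (tau_iff hp cs S.lf S.frob S.fr hn ht).1 ?_⟩
  rw [hnt]
  group

/-- `θ` as an endomorphism. -/
def thE (hp : IsType D l M) (cs : CoxeterSystem M W) (w : W) (g : (Fin l → ℤ) ≃+ (Fin l → ℤ)) :
    Module.End ℤ (Fin l → ℤ) := H378.RegTw.endo (g.trans (repAut cs hp.isCartan w))

omit S in
theorem thE_apply (w : W) (x : Fin l → ℤ) : thE hp cs w g x = theta hp cs w g x := rfl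

theorem Setup.exists_thE_pow [Finite W] (w : W) : ∃ N, 0 < N ∧ thE hp cs w g ^ N = 1 := by
  refine H378.RegTw.exists_pow_one (cs := cs) (h := hp.isCartan) fun a => ?_
  show IsRoot cs hp.isCartan (rep cs hp.isCartan w (g a)) ↔ _
  rw [← S.fr.root a]
  refine ⟨fun h => ?_, fun h => h.act w⟩
  have := h.act w⁻¹
  rwa [rep_inv_apply] at this

omit S in
/-- a nonzero vector killed by `Φ_m(ε θ)` from an element of order `r` of the torus -/
theorem exists_ker_elem {w : W} {N : ℕ} (hN0 : 0 < N) (hN : thE hp cs w g ^ N = 1) {ε : ℤ} (hε : ε = 1 ∨ ε = -1)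
    {t : ↥(D.group k)} (ht : t ∈ TT D k) (hθ : ∀ x, cX hp t (theta hp cs w g x) = cX hp t x ^ p ^ e)
    {r : ℕ} (hr : r.Prime) (hlr : l + 1 < r) (htr : orderOf t = r) {Q : ℤ} (hQ : Q = ε * (p ^ e : ℕ))
    (hrQ : ¬ (r : ℤ) ∣ Q) :
    ∃ y : Fin l → ℤ, y ≠ 0 ∧
      Polynomial.aeval (ε • thE hp cs w g) (Polynomial.cyclotomic (orderOf (Q : ZMod r)) ℤ) y = 0 := by
  have hN2 : (ε • thE hp cs w g) ^ (2 * N) = 1 := by
    rw [_root_.smul_pow, eps_pow_two hε, one_smul, mul_comm, pow_mul, hN, one_pow]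
  obtain ⟨N', hN'0, hN'1, hN'2⟩ := H378.RegTw.order_coprime (by omega : 0 < 2 * N) hN2 hr hlr
  have hmc := isMC_cX hp ht
  set χ : H378.TorDual.Ch l k := H378.TorChar.tchar hp ⟨t, ht⟩ with hχd
  have hχ : ∀ x, ((χ (Multiplicative.ofAdd x) : kˣ) : k) = cX hp t x := H378.RegTw.tchar_eq_cX hp ht
  have hpow : (t : ↥(D.group k)) ^ r = 1 := by rw [← htr]; exact pow_orderOf_eq_one t
  have h1 : χ ∈ H378.TorDual.KerOf k (ε • thE hp cs w g - Q • (1 : Module.End ℤ (Fin l → ℤ))) := by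
    rw [H378.TorDual.mem_kerOf]
    intro x
    apply Units.ext
    rw [hχ, Units.val_one]
    have e1 : (ε • thE hp cs w g - Q • (1 : Module.End ℤ (Fin l → ℤ))) x = ε • theta hp cs w g x + (-Q) • x := by
      rw [LinearMap.sub_apply, LinearMap.smul_apply, LinearMap.smul_apply, Module.End.one_apply, thE_apply, neg_smul,
        sub_eq_add_neg]
    rw [e1, hmc.add, hmc.zsmul, hmc.zsmul, hθ, hQ, zpow_neg, mul_comm ε, zpow_mul, zpow_natCast,
      mul_inv_cancel₀ (zpow_ne_zero _ (pow_ne_zero _ (hmc.ne_zero x)))]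
  obtain ⟨R, -, x, hx, hx1⟩ := H378.LatCodim.exists_ker (m := orderOf (Q : ZMod r)) (ord_pos hr hrQ) hN'0 hN'1 hr hN'2
    (not_dvd_ord hr hrQ) (dvd_cyclotomic hr hrQ) h1 (by
      intro h2
      have h3 : t = 1 := by
        refine cX_inj hp ht (one_mem _) fun i => ?_
        rw [← hχ, h2, cX_one]
        rfl
      rw [h3, orderOf_one] at htr
      exact hr.one_lt.ne htr) (by
      refine MonoidHom.ext fun x => Units.ext ?_
      have h2 := hχ (Multiplicative.toAdd x)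
      have h3 : ((χ x : kˣ) : k) = cX hp t (Multiplicative.toAdd x) := h2
      rw [MonoidHom.pow_apply, Units.val_pow_eq_pow_val, h3, ← cX_pow hp ht, hpow, cX_one]
      rfl)
  refine ⟨_, ?_, hx⟩
  intro h0
  rw [h0, ofAdd_zero, map_one] at hx1
  exact hx1 rfl

/-- **Two primes and the degree.** -/
theorem Setup.totient_le [IsAlgClosed k] [Finite W] (hka : BpExc.TorAll.HAlg p k) {x : X} {r s : ℕ} (hr : r.Prime)
    (hs : s.Prime) (hrp : r ≠ p) (hsp : s ≠ p) (hlr : l + 1 < r) (hls : l + 1 < s)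
    (hx : orderOf x = r * s) {ε : ℤ} (hε : ε = 1 ∨ ε = -1) {Q : ℤ} (hQ : Q = ε * (p ^ e : ℕ))
    (hne : orderOf (Q : ZMod r) ≠ orderOf (Q : ZMod s)) :
    (orderOf (Q : ZMod r)).totient + (orderOf (Q : ZMod s)).totient ≤ l := by
  have hpp : p.Prime := Fact.out
  have hcr : ¬ r ∣ p := fun h => hrp ((Nat.prime_dvd_prime_iff_eq hr hpp).1 h)
  have hcs : ¬ s ∣ p := fun h => hsp ((Nat.prime_dvd_prime_iff_eq hs hpp).1 h)
  have hQr : ∀ {r : ℕ}, r.Prime → ¬ r ∣ p → ¬ (r : ℤ) ∣ Q := by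
    intro r hr h1 h2
    apply h1
    have h3 : r ∣ Q.natAbs := Int.natCast_dvd.1 h2
    have h4 : Q.natAbs = p ^ e := by
      rw [hQ, Int.natAbs_mul]
      rcases hε with rfl | rfl <;> simp
    rw [h4] at h3
    exact hr.dvd_of_dvd_pow h3
  obtain ⟨w, t, z, ht, hz, hθ⟩ := S.exists_theta_elem hp cs hka (x := x) (N := r * s)
    (mul_ne_zero hr.ne_zero hs.ne_zero) (Nat.Coprime.mul_left ((Nat.Prime.coprime_iff_not_dvd hr).2 hcr)
      ((Nat.Prime.coprime_iff_not_dvd hs).2 hcs)) (by rw [← hx]; exact pow_orderOf_eq_one x)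
  have hto : orderOf t = r * s := by
    rw [← hx, ← hz]
    have h1 := orderOf_injective (MulAut.conj z⁻¹).toMonoidHom (MulAut.conj z⁻¹).injective (e0 x)
    have h2 : (MulAut.conj z⁻¹).toMonoidHom (e0 x) = z⁻¹ * e0 x * z := by
      show z⁻¹ * e0 x * z⁻¹⁻¹ = _
      rw [inv_inv]
    rw [h2] at h1
    rw [h1, orderOf_injective e0 S.inj]
  obtain ⟨N, hN0, hN⟩ := S.exists_thE_pow hp cs w
  have hpowθ : ∀ m x, cX hp (t ^ m) (theta hp cs w g x) = cX hp (t ^ m) x ^ p ^ e := by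
    intro m x
    rw [cX_pow hp ht, cX_pow hp ht, hθ, ← pow_mul, ← pow_mul, mul_comm]
  obtain ⟨y, hy, hy'⟩ := exists_ker_elem hp cs hN0 hN hε (pow_mem ht s) (hpowθ s) hr hlr (by
    rw [orderOf_pow_of_dvd hs.ne_zero (by rw [hto]; exact dvd_mul_left _ _), hto, Nat.mul_div_cancel _ hs.pos]) hQ
    (hQr hr hcr)
  obtain ⟨y', hy1, hy1'⟩ := exists_ker_elem hp cs hN0 hN hε (pow_mem ht r) (hpowθ r) hs hls (by
    rw [orderOf_pow_of_dvd hr.ne_zero (by rw [hto]; exact dvd_mul_right _ _), hto, Nat.mul_div_cancel_left _ hr.pos]) hQ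
    (hQr hs hcs)
  exact H378.RegE7.two_ker (ord_pos hr (hQr hr hcr)) (ord_pos hs (hQr hs hcs)) hne hy hy1 hy' hy1'

omit S in
/-- `Cond {r, s}` gives an element of order `r s`. -/
theorem exists_mul_order [Finite X] {π : Set ℕ} {r s : ℕ} (hrp : r.Prime) (hsp : s.Prime) (hr : r ∈ π) (hs : s ∈ π)
    (hrs : r ≠ s) (hrX : r ∣ Nat.card X) (hsX : s ∣ Nat.card X) (hc : Cond π X) : ∃ x : X, orderOf x = r * s := by
  have : Fact r.Prime := ⟨hrp⟩
  have : Fact s.Prime := ⟨hsp⟩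
  obtain ⟨y, hy⟩ := exists_prime_orderOf_dvd_card' s hsX
  have h1 := hc s hs r hr (Ne.symm hrs) y ⟨1, by rw [hy, pow_one]⟩
  have h2 : r ∣ Nat.card (Subgroup.centralizer ({y} : Set X)) := by
    have h3 := Subgroup.card_mul_index (Subgroup.centralizer ({y} : Set X))
    rw [← h3] at hrX
    exact (hrp.dvd_mul.1 hrX).resolve_right h1
  obtain ⟨x, hx⟩ := exists_prime_orderOf_dvd_card' r h2
  have hxo : orderOf (x : X) = r := by rw [Subgroup.orderOf_coe]; exact hx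
  have hcomm : Commute (x : X) y := Subgroup.mem_centralizer_singleton_iff.1 x.2
  refine ⟨x * y, ?_⟩
  rw [hcomm.orderOf_mul_eq_mul_orderOf_of_coprime (by rw [hxo, hy]; exact (Nat.coprime_primes hrp hsp).2 hrs), hxo, hy]

end Cfsg.Agent.H630.Exc
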