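import Cfsg.Agent.H630.ExcC
import Cfsg.Agent.H130.Cok

/-!
# The order of a twisted torus (helper630)

* `Setup.pow_dvd_card_tX` : `r^(v a)` divides the order of `X ∩ z T z⁻¹`, if `r ^ v ∣ Φ_n(Q)` and there is a certificate for
  `Φ_n(w₁)^a`;
* `exists_of_torus` : the abelian subgroup of index prime to `π`.
-/

set_option autoImplicit false
set_option linter.unusedSectionVars false

namespace Cfsg.Agent.H630.Exc

open CoxeterSystem Cfsg Cfsg.Lie Cfsg.Lie.ChevalleyDatum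
open Cfsg.Agent.ChevalleyStructure Cfsg.Agent.ChevalleyStructure.Elts Cfsg.Agent.ChevalleyStructure.CoxeterGeom
  Cfsg.Agent.ChevalleyStructure.CoxeterGeomTypes Cfsg.Agent.ChevalleyStructure.NPerm
open Cfsg.Agent.Tits.Roots Cfsg.Agent.Tits.Core Cfsg.Agent.Nodes Cfsg.Agent.Nodes.Reps Cfsg.Agent.Nodes.BNOf
  Cfsg.Agent.Nodes.RGDChev Cfsg.Agent.Nodes.Bruhat Cfsg.Agent.Nodes.SubComb Cfsg.Agent.Nodes.Coroot
open Cfsg.Agent.KFacts.RgdField Cfsg.Agent.KFacts.RgdChevCoord Cfsg.Agent.BpExc.TorCent Cfsg.Agent.BpExc.TorChev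
open Cfsg.Agent.GpExc.Field Cfsg.Agent.BpExc.Tow Cfsg.Agent.BpExc.TowChev Cfsg.Agent.BpExc.Fr
  Cfsg.Agent.BpExc.LangFr Cfsg.Agent.LangThm Cfsg.Agent.BpExc Cfsg.Agent.H129.TorusChar Cfsg.Agent.H129.TorusMain
open Cfsg.Agent.H129.TorAct (cX_tau tau_mem exists_theta)
open Cfsg.Agent.H630.NH

universe u v

/-! ### the eigenvectors modulo `m` -/

section Lat

open Polynomial

variable {l : ℕ}

theorem exists_eig {R : Module.End ℤ (Fin l → ℤ)} {P : ℤ[X]} {Q m : ℤ} (hm : m ∣ P.eval Q) {x : Fin l → ℤ}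
    (hx : aeval R P x = 0) (j : ℕ) :
    ∃ u : Fin l → ℤ, (R ^ j) (aeval R (P /ₘ (X - C Q)) x) = Q ^ j • aeval R (P /ₘ (X - C Q)) x + m • u := by
  obtain ⟨b, hb⟩ := hm
  have hdiv : P = (X - C Q) * (P /ₘ (X - C Q)) + C (P.eval Q) := by
    have := modByMonic_add_div P (X - C Q)
    rw [modByMonic_X_sub_C_eq_C_eval, add_comm] at this
    exact this.symm
  have h1 : R (aeval R (P /ₘ (X - C Q)) x) = Q • aeval R (P /ₘ (X - C Q)) x + m • (-(b • x)) := by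
    have h2 := congrArg (fun p => aeval R p x) hdiv
    simp only [map_add, map_mul, map_sub, aeval_X, aeval_C, LinearMap.add_apply, Module.End.mul_apply] at h2
    rw [hx] at h2
    have h3 : (R - (algebraMap ℤ (Module.End ℤ (Fin l → ℤ))) Q) (aeval R (P /ₘ (X - C Q)) x) =
        R (aeval R (P /ₘ (X - C Q)) x) - Q • aeval R (P /ₘ (X - C Q)) x := rfl
    have h4 : ((algebraMap ℤ (Module.End ℤ (Fin l → ℤ))) (P.eval Q)) x = (m * b) • x := by
      rw [hb]; rfl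
    rw [h3, h4] at h2
    have h5 : R (aeval R (P /ₘ (X - C Q)) x) = Q • aeval R (P /ₘ (X - C Q)) x - (m * b) • x := by
      have h6 : R (aeval R (P /ₘ (X - C Q)) x) =
        (R (aeval R (P /ₘ (X - C Q)) x) - Q • aeval R (P /ₘ (X - C Q)) x + (m * b) • x) +
          (Q • aeval R (P /ₘ (X - C Q)) x - (m * b) • x) := by abel
      rw [← h2, zero_add] at h6
      exact h6
    rw [h5, smul_neg, smul_smul, sub_eq_add_neg]
  induction j with
  | zero => exact ⟨0, by simp⟩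
  | succ j ih =>
    obtain ⟨u, hu⟩ := ih
    refine ⟨R u + Q ^ j • (-(b • x)), ?_⟩
    rw [pow_succ', Module.End.mul_apply, hu, map_add, map_smul, map_smul, h1, pow_succ, smul_add, smul_smul, smul_smul,
      smul_add, smul_smul, mul_comm (Q ^ j) m]
    abel

end Lat

variable {D : ChevalleyDatum} {l : ℕ} {M : CoxeterMatrix (Fin l)} (hp : IsType D l M) {k : Type u} [Field k]
  {W : Type*} [Group W] (cs : CoxeterSystem M W)

/-- characters of a twisted torus -/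
theorem exists_char [IsAlgClosed k] {d' : ℕ} {B' : Fin l → Fin l → ℤ} (hB : InvC D l d' B') (hd' : d' ≠ 0)
    {θ : (Fin l → ℤ) →+ (Fin l → ℤ)} {q n : ℕ} (hθ : ∀ x, θ^[n] x = x) {r : ℕ} (hr : (r : k) ≠ 0)
    (hrq : (r : ℤ) ∣ (q : ℤ) ^ n - 1) :
    ∃ ζ : k, IsPrimitiveRoot ζ r ∧ ζ ≠ 0 ∧ ∀ L : (Fin l → ℤ) →+ ℤ,
    ∃ t ∈ TT D k, (∀ x, cX hp t (θ x) = cX hp t x ^ q) ∧ t ^ r = 1 ∧ ∀ x, cX hp t x = ζ ^ Lq L θ q n x := by
  have hr0 : NeZero (r : k) := ⟨hr⟩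
  obtain ⟨ζ, hζ⟩ := HasEnoughRootsOfUnity.exists_primitiveRoot k r
  have hz0 : ζ ≠ 0 := by
    rintro rfl
    have h1 := hζ.pow_eq_one
    have h2 : r ≠ 0 := by rintro rfl; exact hr Nat.cast_zero
    rw [zero_pow h2] at h1
    exact zero_ne_one h1
  refine ⟨ζ, hζ, hz0, fun L => ?_⟩
  have hφ : IsMC (fun x : Fin l → ℤ => ζ ^ Lq L θ q n x) := by
    refine ⟨?_, fun x y => ?_⟩
    · show ζ ^ Lq L θ q n 0 = 1
      rw [Lq_zero, zpow_zero]
    · show ζ ^ Lq L θ q n (x + y) = _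
      rw [Lq_add, zpow_add₀ hz0]
  obtain ⟨t, ht, hc⟩ := exists_cX hp hB hd' hφ (fun i => IsAlgClosed.exists_pow_nat_eq _ (Nat.pos_of_ne_zero hd'))
  refine ⟨t, ht, fun x => ?_, ?_, hc⟩
  · rw [hc, hc, ← zpow_natCast, ← zpow_mul]
    have h1 := (hrq.trans (Lq_theta L hθ x))
    have h2 : ζ ^ (Lq L θ q n (θ x) - q * Lq L θ q n x) = 1 := (hζ.zpow_eq_one_iff_dvd _).2 h1
    rw [zpow_sub₀ hz0, div_eq_one_iff_eq (zpow_ne_zero _ hz0)] at h2
    rw [h2, mul_comm]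
  · refine cX_inj hp (pow_mem ht r) (one_mem _) fun i => ?_
    rw [cX_pow hp ht, cX_one, hc, ← zpow_natCast, ← zpow_mul, mul_comm, zpow_mul, zpow_natCast, hζ.pow_eq_one, one_zpow]

variable {p e : ℕ} [Fact p.Prime] [CharP k p] {σ : MulAut ↥(D.group k)} {g : (Fin l → ℤ) ≃+ (Fin l → ℤ)}
  {X : Type v} [Group X] {e0 : X →* ↥(D.group k)} {d : ℕ} (S : Setup hp cs p e σ g e0 d)

include S

open Polynomial in
/-- **The order of a twisted torus.** -/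
theorem Setup.pow_dvd_card_tX [IsAlgClosed k] [Finite W] [Finite X] {hN : NSys M (TT D k) (nc hp k)} {w w1 : W}
    {ε : ℤ} (hε : ε = 1 ∨ ε = -1) (h : ∀ x, theta hp cs w g x = ε • rep cs hp.isCartan w1 x)
    {n' z : ↥(D.group k)} (hn' : Rp cs hN w n') (hz : n' = z⁻¹ * σ z) {r : ℕ} (hr : r.Prime) (hrp : r ≠ p)
    (hrd : ¬ r ∣ d) (hr2 : r ≠ 2) {Q : ℤ} (hQ : Q = ε * (p ^ e : ℕ)) {n : ℕ} (hn : orderOf (Q : ZMod r) = n)
    (hw : rep cs hp.isCartan w1 ^ n = 1) {a : ℕ} (x : Fin a → Fin l → ℤ) (y : Fin a → ((Fin l → ℤ) →ₗ[ℤ] ℤ)) (c : ℤ)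
    (hc : ¬ (r : ℤ) ∣ c) (hx : ∀ i, aeval (rep cs hp.isCartan w1) (cyclotomic n ℤ) (x i) = 0)
    (hy : ∀ i i', ∀ j < (cyclotomic n ℤ).natDegree, y i ((rep cs hp.isCartan w1 ^ j) (x i')) =
      if i = i' ∧ j + 1 = (cyclotomic n ℤ).natDegree then c else 0)
    {v : ℕ} (hv : ((r ^ v : ℕ) : ℤ) ∣ (cyclotomic n ℤ).eval Q) : (r ^ v) ^ a ∣ Nat.card (tX D k e0 z) := by
  classical
  have : Fact r.Prime := ⟨hr⟩
  obtain ⟨m, hm⟩ : ∃ m, m = r ^ v := ⟨_, rfl⟩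
  rw [← hm] at hv ⊢
  have hrZ := Nat.prime_iff_prime_int.1 hr
  have hpp : p.Prime := Fact.out
  have hcr : ¬ r ∣ p := fun h => hrp ((Nat.prime_dvd_prime_iff_eq hr hpp).1 h)
  have hQr : ¬ (r : ℤ) ∣ Q := by
    intro h2
    apply hcr
    have h3 : r ∣ Q.natAbs := Int.natCast_dvd.1 h2
    have h4 : Q.natAbs = p ^ e := by
      rw [hQ, Int.natAbs_mul]
      rcases hε with rfl | rfl <;> simp
    rw [h4] at h3
    exact hr.dvd_of_dvd_pow h3
  have hn0 : 0 < n := by rw [← hn]; exact ord_pos hr hQr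
  have hrn : ¬ r ∣ n := by rw [← hn]; exact not_dvd_ord hr hQr
  have hrk : (r : k) ≠ 0 := by
    rw [Ne, CharP.cast_eq_zero_iff k p]
    intro h
    exact hrp ((Nat.prime_dvd_prime_iff_eq hpp hr).1 h).symm
  have hmk : (m : k) ≠ 0 := by rw [hm, Nat.cast_pow]; exact pow_ne_zero _ hrk
  have hm0 : 0 < m := by rw [hm]; exact pow_pos hr.pos _
  have hmQn : (m : ℤ) ∣ Q ^ n - 1 := by
    have h1 : (cyclotomic n ℤ) ∣ Polynomial.X ^ n - 1 := cyclotomic.dvd_X_pow_sub_one n ℤ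
    have h2 := eval_dvd (x := Q) h1
    rw [eval_sub, eval_pow, eval_X, eval_one] at h2
    exact hv.trans h2
  have hmq : (m : ℤ) ∣ ((p ^ e : ℕ) : ℤ) ^ (2 * n) - 1 := by
    have h1 : ((p ^ e : ℕ) : ℤ) ^ (2 * n) = Q ^ (2 * n) := by rw [hQ, mul_pow, eps_pow_two hε, one_mul]
    rw [h1]
    exact hmQn.trans ⟨Q ^ n + 1, by ring⟩
  have hθ : ∀ x, (theta hp cs w g)^[2 * n] x = x := fun x => by
    rw [theta_iter hp cs h, eps_pow_two hε, one_smul, mul_comm, pow_mul, hw, one_pow,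
      Module.End.one_apply]
  obtain ⟨B, d', hd', hB⟩ := S.inv
  obtain ⟨ζ, hζ, hz0, hchar⟩ := exists_char hp hB hd' (q := p ^ e) (n := 2 * n) hθ hmk hmq
  -- the elements of `X`
  have hex : ∀ c' : Fin a → Fin m, ∃ x' : X, x' ∈ tXr hp S.inj z m ∧ ∀ b, cX hp (z⁻¹ * e0 x' * z) b =
      ζ ^ Lq (∑ i, ((c' i : ℕ) : ℤ) • (y i).toAddMonoidHom) (theta hp cs w g) (p ^ e) (2 * n) b := by
    intro c'
    obtain ⟨t, ht, h1, h2, h3⟩ := hchar (∑ i, ((c' i : ℕ) : ℤ) • (y i).toAddMonoidHom)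
    obtain ⟨x', hx'⟩ := S.exists_of_tau hp cs hz ((tau_iff hp cs S.lf S.frob S.fr hn' ht).2 h1) hr hrd ⟨v, by
      rw [← hm]; exact h2⟩
    refine ⟨x', ⟨by rw [mem_tX, hx']; exact ht, ?_⟩, fun b => by rw [hx', h3]⟩
    apply S.inj
    have h4 := S.conj_pow_eq hp cs (y := x') (z := z) m
    rw [hx', h2] at h4
    rw [map_one]
    have h5 : e0 (x' ^ m) = z * (z⁻¹ * e0 (x' ^ m) * z) * z⁻¹ := by group
    rw [h5, ← h4]; group
  choose F hF1 hF2 using hex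
  -- injectivity
  have hPm : (cyclotomic n ℤ).Monic := cyclotomic.monic n ℤ
  have hPd : 0 < (cyclotomic n ℤ).natDegree := by
    rw [natDegree_cyclotomic]
    exact Nat.totient_pos.2 hn0
  have hinj : Function.Injective F := by
    intro c1 c2 he
    funext i
    have h1 : ∀ b, (m : ℤ) ∣ Lq (∑ i, ((c1 i : ℕ) : ℤ) • (y i).toAddMonoidHom) (theta hp cs w g) (p ^ e) (2 * n) b -
        Lq (∑ i, ((c2 i : ℕ) : ℤ) • (y i).toAddMonoidHom) (theta hp cs w g) (p ^ e) (2 * n) b := by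
      intro b
      rw [← hζ.zpow_eq_one_iff_dvd, zpow_sub₀ hz0, div_eq_one_iff_eq (zpow_ne_zero _ hz0), ← hF2, ← hF2, he]
    have h2 : ∀ c' : Fin a → Fin m, ∃ u : ℤ,
        Lq (∑ i, ((c' i : ℕ) : ℤ) • (y i).toAddMonoidHom) (theta hp cs w g) (p ^ e) (2 * n)
          (aeval (rep cs hp.isCartan w1) (cyclotomic n ℤ /ₘ (Polynomial.X - C Q)) (x i)) =
          ((Q ^ n + 1) * (n * Q ^ n * c)) * ((c' i : ℕ) : ℤ) + m * u := by
      intro c'
      set L : (Fin l → ℤ) →+ ℤ := ∑ i, ((c' i : ℕ) : ℤ) • (y i).toAddMonoidHom with hL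
      set zi := aeval (rep cs hp.isCartan w1) (cyclotomic n ℤ /ₘ (Polynomial.X - C Q)) (x i) with hzi
      have hLz : L zi = c * ((c' i : ℕ) : ℤ) := by
        rw [hL, AddMonoidHom.finsetSum_apply]
        have h3 : ∀ i', y i' zi = if i' = i then c else 0 := by
          intro i'
          refine H130.Cok.functional hPm hPd Q (y i') (x i) _ fun j hj => ?_
          rw [hy i' i j hj]
          by_cases h : i' = i
          · simp [h]
          · simp [h]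
        rw [Finset.sum_eq_single i]
        · show ((c' i : ℕ) : ℤ) * y i zi = _
          rw [h3, if_pos rfl, mul_comm]
        · intro i' _ hi'
          show ((c' i' : ℕ) : ℤ) * y i' zi = 0
          rw [h3, if_neg hi', mul_zero]
        · intro h; exact absurd (Finset.mem_univ _) h
      have h3 : ∀ j : ℕ, ∃ u : ℤ, L ((rep cs hp.isCartan w1 ^ j) zi) = Q ^ j * L zi + m * u := by
        intro j
        obtain ⟨u, hu⟩ := exists_eig hv (hx i) j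
        exact ⟨L u, by rw [hzi, hu, map_add, map_zsmul, map_zsmul, smul_eq_mul, smul_eq_mul]⟩
      choose u hu using h3
      refine ⟨(Q ^ n + 1) * ∑ j ∈ Finset.range n, Q ^ (n - j) * u j, ?_⟩
      rw [Lq_eq hp cs hε h hw _ hQ]
      have h4 : ∀ j ∈ Finset.range n, Q ^ (n - j) * L ((rep cs hp.isCartan w1 ^ j) zi) =
          Q ^ n * L zi + m * (Q ^ (n - j) * u j) := by
        intro j hj
        rw [Finset.mem_range] at hj
        rw [hu j, mul_add, ← mul_assoc, ← pow_add, Nat.sub_add_cancel hj.le]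
        ring
      rw [Finset.sum_congr rfl h4, Finset.sum_add_distrib, Finset.sum_const, Finset.card_range, ← Finset.mul_sum, hLz,
        nsmul_eq_mul]
      ring
    obtain ⟨u1, hu1⟩ := h2 c1
    obtain ⟨u2, hu2⟩ := h2 c2
    have h3 := h1 (aeval (rep cs hp.isCartan w1) (cyclotomic n ℤ /ₘ (Polynomial.X - C Q)) (x i))
    rw [hu1, hu2] at h3
    have h4 : (m : ℤ) ∣ ((Q ^ n + 1) * (n * Q ^ n * c)) * (((c1 i : ℕ) : ℤ) - ((c2 i : ℕ) : ℤ)) := by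
      have h5 := dvd_sub h3 (dvd_mul_right (m : ℤ) (u1 - u2))
      have h6 : (Q ^ n + 1) * (n * Q ^ n * c) * ((c1 i : ℕ) : ℤ) + m * u1 -
        ((Q ^ n + 1) * (n * Q ^ n * c) * ((c2 i : ℕ) : ℤ) + m * u2) - m * (u1 - u2) =
        ((Q ^ n + 1) * (n * Q ^ n * c)) * (((c1 i : ℕ) : ℤ) - ((c2 i : ℕ) : ℤ)) := by ring
      rwa [h6] at h5
    have hcop : IsCoprime (m : ℤ) ((Q ^ n + 1) * (n * Q ^ n * c)) := by
      rw [hm, Nat.cast_pow]
      apply IsCoprime.pow_left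
      rw [hrZ.irreducible.coprime_iff_not_dvd]
      intro h
      rcases hrZ.dvd_mul.1 h with h | h
      · have h3 : (r : ℤ) ∣ Q ^ n - 1 := (dvd_pow_sub_one_iff n).2 (by rw [hn])
        have h4 := dvd_sub h h3
        have h5 : Q ^ n + 1 - (Q ^ n - 1) = 2 := by ring
        rw [h5] at h4
        have h6 : r ∣ 2 := by exact_mod_cast h4
        exact hr2 ((Nat.prime_dvd_prime_iff_eq hr Nat.prime_two).1 h6)
      · rcases hrZ.dvd_mul.1 h with h | h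
        · rcases hrZ.dvd_mul.1 h with h | h
          · exact hrn (Int.natCast_dvd_natCast.1 h)
          · exact hQr (hrZ.dvd_of_dvd_pow h)
        · exact hc h
    have h5 := hcop.dvd_of_dvd_mul_left h4
    apply Fin.ext
    have h6 : ((c1 i : ℕ) : ℤ) - ((c2 i : ℕ) : ℤ) = 0 := by
      apply Int.eq_zero_of_abs_lt_dvd h5
      have := (c1 i).2
      have := (c2 i).2
      rw [abs_lt]
      constructor <;> omega
    omega
  -- counting
  have hK : IsPGroup r (tXr hp S.inj z m) := by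
    rintro ⟨x', hx'⟩
    exact ⟨v, Subtype.ext (by rw [← hm]; exact hx'.2)⟩
  obtain ⟨j, hj⟩ := IsPGroup.iff_card.1 hK
  have hle : m ^ a ≤ Nat.card (tXr hp S.inj z m) := by
    have h1 : Nat.card (Fin a → Fin m) = m ^ a := by
      rw [Nat.card_fun, Nat.card_fin, Nat.card_fin]
    rw [← h1]
    exact Nat.card_le_card_of_injective (fun c' => (⟨F c', hF1 c'⟩ : tXr hp S.inj z m)) fun c1 c2 h =>
      hinj (congrArg Subtype.val h)
  have h1 : m ^ a ∣ Nat.card (tXr hp S.inj z m) := by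
    rw [hj] at hle ⊢
    rw [hm, ← pow_mul] at hle ⊢
    exact pow_dvd_pow r ((Nat.pow_le_pow_iff_right hr.one_lt).1 hle)
  exact h1.trans (Subgroup.card_dvd_of_le fun x' hx' => hx'.1)

end Cfsg.Agent.H630.Exc

namespace Cfsg.Agent.H630.Exc

open Polynomial

/-! ### valuations -/

/-- `Q ^ n - 1 = Φ_n(Q) C` with `r ∤ C` -/
theorem exists_pow_sub_one {r : ℕ} (hr : r.Prime) {Q : ℤ} (hQ : ¬ (r : ℤ) ∣ Q) :
    ∃ C : ℤ, Q ^ orderOf (Q : ZMod r) - 1 = (cyclotomic (orderOf (Q : ZMod r)) ℤ).eval Q * C ∧ ¬ (r : ℤ) ∣ C := by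
  have hrZ := Nat.prime_iff_prime_int.1 hr
  have hn0 := ord_pos hr hQ
  have h1 := prod_cyclotomic_eq_X_pow_sub_one hn0 ℤ
  rw [← Nat.cons_self_properDivisors hn0.ne', Finset.prod_cons] at h1
  have h2 := congrArg (fun f => f.eval Q) h1
  simp only [eval_mul, eval_prod, eval_sub, eval_pow, eval_X, eval_one] at h2
  refine ⟨_, h2.symm, ?_⟩
  intro h3
  obtain ⟨i, hi, h4⟩ := (hrZ.dvd_finsetProd_iff _).1 h3
  rw [Nat.mem_properDivisors] at hi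
  have h5 := eval_dvd (x := Q) (cyclotomic.dvd_X_pow_sub_one i ℤ)
  rw [eval_sub, eval_pow, eval_X, eval_one] at h5
  have h6 := (dvd_pow_sub_one_iff i).1 (h4.trans h5)
  have h7 : 0 < i := Nat.pos_of_dvd_of_pos hi.1 hn0
  have := Nat.le_of_dvd h7 h6
  omega

theorem exists_pow_mul {r : ℕ} (hr : r.Prime) {Q : ℤ} (hQ : ¬ (r : ℤ) ∣ Q) {k : ℕ} (hk : ¬ r ∣ k) :
    ∃ C : ℤ, Q ^ (orderOf (Q : ZMod r) * k) - 1 = (cyclotomic (orderOf (Q : ZMod r)) ℤ).eval Q * C ∧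
      ¬ (r : ℤ) ∣ C := by
  have hrZ := Nat.prime_iff_prime_int.1 hr
  obtain ⟨C, hC, hrC⟩ := exists_pow_sub_one hr hQ
  obtain ⟨y, hy⟩ : ∃ y, y = Q ^ orderOf (Q : ZMod r) := ⟨_, rfl⟩
  refine ⟨C * ∑ j ∈ Finset.range k, y ^ j, ?_, ?_⟩
  · rw [← mul_assoc, ← hC, pow_mul, ← hy, mul_comm]
    exact (geom_sum_mul y k).symm
  · intro h
    rcases hrZ.dvd_mul.1 h with h | h
    · exact hrC h
    · have h1 : (r : ℤ) ∣ y - 1 := by rw [hy]; exact (dvd_pow_sub_one_iff _).2 dvd_rfl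
      have h2 : (r : ℤ) ∣ (∑ j ∈ Finset.range k, y ^ j) - k := by
        have h3 : (∑ j ∈ Finset.range k, y ^ j) - (k : ℤ) = ∑ j ∈ Finset.range k, (y ^ j - 1) := by
          rw [Finset.sum_sub_distrib, Finset.sum_const, Finset.card_range, nsmul_eq_mul, mul_one]
        rw [h3]
        refine Finset.dvd_sum fun j _ => h1.trans ?_
        have := sub_dvd_pow_sub_pow y 1 j
        rwa [one_pow] at this
      have h3 := dvd_sub h h2
      have h4 : (∑ j ∈ Finset.range k, y ^ j) - ((∑ j ∈ Finset.range k, y ^ j) - (k : ℤ)) = k := by ring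
      rw [h4] at h3
      exact hk (Int.natCast_dvd_natCast.1 h3)

theorem exists_prod {r : ℕ} (hr : r.Prime) {Q : ℤ} (hQ : ¬ (r : ℤ) ∣ Q) (degs : List ℕ)
    (hd : ∀ i ∈ degs, orderOf (Q : ZMod r) ∣ i → ¬ r ∣ i) :
    ∃ C : ℤ, (degs.map (fun i => Q ^ i - 1)).prod = (cyclotomic (orderOf (Q : ZMod r)) ℤ).eval Q ^
      (degs.filter (fun i => orderOf (Q : ZMod r) ∣ i)).length * C ∧ ¬ (r : ℤ) ∣ C := by
  have hrZ := Nat.prime_iff_prime_int.1 hr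
  induction degs with
  | nil => exact ⟨1, by simp, fun h => by
      have : r ∣ 1 := by exact_mod_cast h
      exact hr.one_lt.ne' (Nat.dvd_one.1 this)⟩
  | cons i L ih =>
    obtain ⟨C, hC, hrC⟩ := ih fun j hj => hd j (List.mem_cons_of_mem _ hj)
    rw [List.map_cons, List.prod_cons, hC, List.filter_cons]
    by_cases h : orderOf (Q : ZMod r) ∣ i
    · obtain ⟨k, hk⟩ := h
      have hrk : ¬ r ∣ k := fun h1 => hd i (List.mem_cons_self ..) ⟨k, hk⟩ (by rw [hk]; exact h1.mul_left _)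
      obtain ⟨C', hC', hrC'⟩ := exists_pow_mul hr hQ hrk
      refine ⟨C' * C, ?_, fun h1 => (hrZ.dvd_mul.1 h1).elim hrC' hrC⟩
      rw [if_pos (by simp [hk]), hk, hC', List.length_cons, pow_succ]
      ring
    · refine ⟨(Q ^ i - 1) * C, ?_, fun h1 => (hrZ.dvd_mul.1 h1).elim (fun h2 => h ((dvd_pow_sub_one_iff i).1 h2)) hrC⟩
      rw [if_neg (by simpa using h)]
      ring

/-- the index of a subgroup whose order contains `(r ^ v) ^ a` -/
theorem not_dvd_index {X : Type*} [Group X] [Finite X] (T : Subgroup X) {r : ℕ} (hr : r.Prime) {F : ℤ}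
    {fs : ℤ} {a : ℕ} (hfs : ∃ R, fs = F ^ a * R ∧ ¬ (r : ℤ) ∣ R) {q N g : ℕ} (hrq : ¬ r ∣ q)
    (hcard : g * Nat.card X = q ^ N * fs.natAbs) {v : ℕ} {b : ℤ} (hv : F = (r ^ v : ℕ) * b) (hb : ¬ (r : ℤ) ∣ b)
    (hT : (r ^ v) ^ a ∣ Nat.card T) : ¬ r ∣ T.index := by
  rintro ⟨i, hi⟩
  have hrZ := Nat.prime_iff_prime_int.1 hr
  obtain ⟨R, hR, hrR⟩ := hfs
  obtain ⟨j, hj⟩ := hT
  have h1 := Subgroup.card_mul_index T
  rw [hi, hj] at h1
  have h2 : (r ^ v) ^ a * r ∣ q ^ N * fs.natAbs := by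
    rw [← hcard, ← h1]
    exact ⟨g * (j * i), by ring⟩
  have hra : 0 < (r ^ v) ^ a := pow_pos (pow_pos hr.pos _) _
  have h3 : fs.natAbs = (r ^ v) ^ a * (b ^ a * R).natAbs := by
    rw [hR, hv, mul_pow, mul_assoc, Int.natAbs_mul]
    congr 1
  rw [h3] at h2
  have h4 : (r ^ v) ^ a * r ∣ (r ^ v) ^ a * (q ^ N * (b ^ a * R).natAbs) := by
    refine h2.trans (dvd_of_eq ?_)
    ring
  have h5 := Nat.dvd_of_mul_dvd_mul_left hra h4
  rcases (Nat.Prime.dvd_mul hr).1 h5 with h6 | h6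
  · exact hrq (hr.dvd_of_dvd_pow h6)
  · have h7 : (r : ℤ) ∣ b ^ a * R := Int.natCast_dvd.2 h6
    rcases hrZ.dvd_mul.1 h7 with h8 | h8
    · exact hb (hrZ.dvd_of_dvd_pow h8)
    · exact hrR h8

/-- the `r`-part of a nonzero integer -/
theorem exists_part {r : ℕ} (hr : r.Prime) {F : ℤ} (hF : F ≠ 0) :
    ∃ (v : ℕ) (b : ℤ), F = (r ^ v : ℕ) * b ∧ ¬ (r : ℤ) ∣ b := by
  obtain ⟨v, b, hb, h⟩ := Nat.exists_eq_pow_mul_and_not_dvd (n := F.natAbs) (Int.natAbs_ne_zero.2 hF) r hr.ne_one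
  rcases Int.natAbs_eq F with h1 | h1
  · refine ⟨v, b, ?_, fun h2 => hb (Int.natCast_dvd_natCast.1 h2)⟩
    rw [h1, h]
    push_cast
    rfl
  · refine ⟨v, -b, ?_, fun h2 => hb (Int.natCast_dvd_natCast.1 ((dvd_neg).1 h2))⟩
    rw [h1, h]
    push_cast
    ring

/-- `Φ_n(Q) ≠ 0` for `1 < |Q|` -/
theorem cyclotomic_eval_ne_zero {n : ℕ} (hn : 0 < n) {Q : ℤ} (hQ : 1 < Q.natAbs) : (cyclotomic n ℤ).eval Q ≠ 0 := by
  intro h
  have h5 := eval_dvd (x := Q) (cyclotomic.dvd_X_pow_sub_one n ℤ)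
  rw [h, eval_sub, eval_pow, eval_X, eval_one, zero_dvd_iff, sub_eq_zero] at h5
  have h6 := congrArg Int.natAbs h5
  rw [Int.natAbs_pow, Int.natAbs_one] at h6
  exact (Nat.one_lt_pow hn.ne' hQ).ne' h6

/-! ### the abelian subgroup -/

section Pos

open CoxeterSystem Cfsg Cfsg.Lie Cfsg.Lie.ChevalleyDatum
open Cfsg.Agent.ChevalleyStructure Cfsg.Agent.ChevalleyStructure.Elts Cfsg.Agent.ChevalleyStructure.CoxeterGeom
  Cfsg.Agent.ChevalleyStructure.CoxeterGeomTypes Cfsg.Agent.ChevalleyStructure.NPerm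
open Cfsg.Agent.Tits.Roots Cfsg.Agent.Tits.Core Cfsg.Agent.Nodes Cfsg.Agent.Nodes.Reps Cfsg.Agent.Nodes.BNOf
  Cfsg.Agent.Nodes.RGDChev Cfsg.Agent.Nodes.Bruhat Cfsg.Agent.Nodes.SubComb Cfsg.Agent.Nodes.Coroot
open Cfsg.Agent.KFacts.RgdField Cfsg.Agent.KFacts.RgdChevCoord Cfsg.Agent.BpExc.TorCent Cfsg.Agent.BpExc.TorChev
open Cfsg.Agent.GpExc.Field Cfsg.Agent.BpExc.Tow Cfsg.Agent.BpExc.TowChev Cfsg.Agent.BpExc.Fr
  Cfsg.Agent.BpExc.LangFr Cfsg.Agent.LangThm Cfsg.Agent.BpExc Cfsg.Agent.H129.TorusChar Cfsg.Agent.H129.TorusMain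

universe u v

variable {D : ChevalleyDatum} {l : ℕ} {M : CoxeterMatrix (Fin l)} (hp : IsType D l M) {k : Type u} [Field k]
  {W : Type*} [Group W] (cs : CoxeterSystem M W)
  {p e : ℕ} [Fact p.Prime] [CharP k p] {σ : MulAut ↥(D.group k)} {g : (Fin l → ℤ) ≃+ (Fin l → ℤ)}
  {X : Type v} [Group X] {e0 : X →* ↥(D.group k)} {d : ℕ} (S : Setup hp cs p e σ g e0 d)

include S

/-- **The abelian subgroup.** -/
theorem Setup.exists_torus [IsAlgClosed k] [Finite W] [Finite X] {ε : ℤ} (hε : ε = 1 ∨ ε = -1) {w1 : W}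
    (hT : HasTor hp cs g ε w1) {Q : ℤ} (hQ : Q = ε * (p ^ e : ℕ)) {n : ℕ} (hn0 : 0 < n)
    (hw : rep cs hp.isCartan w1 ^ n = 1) {a : ℕ} (x : Fin a → Fin l → ℤ) (y : Fin a → ((Fin l → ℤ) →ₗ[ℤ] ℤ)) (c : ℤ)
    (hx : ∀ i, aeval (rep cs hp.isCartan w1) (cyclotomic n ℤ) (x i) = 0)
    (hy : ∀ i i', ∀ j < (cyclotomic n ℤ).natDegree, y i ((rep cs hp.isCartan w1 ^ j) (x i')) =
      if i = i' ∧ j + 1 = (cyclotomic n ℤ).natDegree then c else 0)
    {fs : ℤ} {N g' : ℕ} (hcard : g' * Nat.card X = (p ^ e) ^ N * fs.natAbs) {π : Set ℕ}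
    (hπ : ∀ r ∈ π, r.Prime ∧ r ≠ 2 ∧ r ≠ p ∧ ¬ r ∣ d ∧ orderOf (Q : ZMod r) = n ∧ ¬ (r : ℤ) ∣ c ∧
      ∃ R, fs = (cyclotomic n ℤ).eval Q ^ a * R ∧ ¬ (r : ℤ) ∣ R) :
    ∃ T : Subgroup X, IsMulCommutative T ∧ ∀ r ∈ π, ¬ r ∣ T.index := by
  obtain ⟨w, hw'⟩ := hT
  have hNs := S.nsys hp cs
  obtain ⟨n', hn'⟩ := exists_rp cs hNs w
  obtain ⟨z, hz⟩ := lang_all hp cs S.pos S.frob S.fr 1 n'
  rw [map_one, one_mul] at hz
  refine ⟨tX D k e0 z, ⟨⟨fun a b => Subtype.ext (tX_comm hp S.inj z a.2 b.2)⟩⟩, fun r hr => ?_⟩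
  obtain ⟨hrp, hr2, hrc, hrd, hrn, hcr, hR⟩ := hπ r hr
  have hQ1 : 1 < Q.natAbs := by
    have h4 : Q.natAbs = p ^ e := by
      rw [hQ, Int.natAbs_mul]
      rcases hε with rfl | rfl <;> simp
    rw [h4]
    exact Nat.one_lt_pow S.pos.ne' (Fact.out : p.Prime).one_lt
  obtain ⟨v, b, hv, hb⟩ := exists_part hrp (cyclotomic_eval_ne_zero hn0 hQ1)
  refine not_dvd_index _ hrp hR (fun h => ?_) hcard hv hb
    (S.pow_dvd_card_tX hp cs hε hw' hn' hz hrp hrc hrd hr2 hQ hrn hw x y c hcr hx hy (v := v) ⟨b, hv⟩)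
  exact hrc ((Nat.prime_dvd_prime_iff_eq hrp (Fact.out : p.Prime)).1 (hrp.dvd_of_dvd_pow h))

end Pos

end Cfsg.Agent.H630.Exc
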