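import Cfsg.Agent.H630.ExcD
import Cfsg.Agent.H130.WeylTab

/-!
# Tables for the twisted tori of the exceptional groups (helper630)

* `rootL` : the list of the roots; `lc` : linear combinations of lists;
* `RegCk` : a decidable check, `regAt_of_ck` : it gives `RegAt`;
* `Setup.exists_torus_cert` : the abelian subgroup from a certificate `H130.WeylCk.Cert`.
-/

set_option autoImplicit false
set_option linter.unusedSectionVars false

namespace Cfsg.Agent.H630.Exc

open CoxeterSystem Cfsg Cfsg.Lie Cfsg.Lie.ChevalleyDatum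
open Cfsg.Agent.ChevalleyStructure Cfsg.Agent.ChevalleyStructure.Elts Cfsg.Agent.ChevalleyStructure.CoxeterGeom
  Cfsg.Agent.ChevalleyStructure.CoxeterGeomTypes Cfsg.Agent.ChevalleyStructure.NPerm
open Cfsg.Agent.Tits.Roots Cfsg.Agent.Tits.Core Cfsg.Agent.Nodes Cfsg.Agent.Nodes.Reps Cfsg.Agent.Nodes.BNOf
  Cfsg.Agent.Nodes.RGDChev Cfsg.Agent.Nodes.Bruhat Cfsg.Agent.Nodes.SubComb Cfsg.Agent.Nodes.Coroot
open Cfsg.Agent.KFacts.RgdField Cfsg.Agent.KFacts.RgdChevCoord Cfsg.Agent.BpExc.TorCent Cfsg.Agent.BpExc.TorChev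
open Cfsg.Agent.GpExc.Field Cfsg.Agent.BpExc.Tow Cfsg.Agent.BpExc.TowChev Cfsg.Agent.BpExc.Fr
  Cfsg.Agent.BpExc.LangFr Cfsg.Agent.LangThm Cfsg.Agent.BpExc Cfsg.Agent.H129.TorusChar Cfsg.Agent.H129.TorusMain
open Cfsg.Agent.H630.NH Cfsg.Agent.H130.WeylCk Cfsg.Agent.H130.PolyL

universe u v

/-! ### lists -/

/-- the list of the roots -/
def rootL (D : ChevalleyDatum) (l : ℕ) : List (List ℤ) :=
  (List.range D.nroots).map fun r => (List.finRange l).map (vec D l r)

/-- linear combinations -/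
def lc (l : ℕ) : List ℤ → List (List ℤ) → List ℤ
  | [], _ => List.replicate l 0
  | a :: v, m => match m with
    | [] => List.replicate l 0
    | b :: m => addV (b.map (fun x => a * x)) (lc l v m)

/-- the coefficients `⟨b, R^j u⟩`, `j < n`, the last one first -/
def gl (l : ℕ) (m : List (List ℤ)) (b : List ℤ) : ℕ → List ℤ → List ℤ → List ℤ
  | 0, _, acc => acc
  | n + 1, u, acc => gl l m b n (lc l u m) (dot b u :: acc)

/-- the check: the element `(∏ word)^k` of order `n` is regular modulo the primes not dividing `N0` -/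
def RegCk (D : ChevalleyDatum) (l : ℕ) (Al Bl : List (List ℤ)) (word : List (Fin l)) (k n : ℕ)
    (m : List (List ℤ)) (K : List (List ℤ × List ℤ × List ℤ × ℤ)) (N0 : ℤ) : Prop :=
  (m.length = l ∧ Bl.length = l ∧ (∀ b ∈ m, b.length = l) ∧ (∀ b ∈ Bl, b.length = l)) ∧
  (∀ i : Fin l, acn Al word k (bas l i) = m.getD i []) ∧
  (∀ i : Fin l, acn Al word (k * n) (bas l i) = bas l i) ∧
  (∀ v ∈ rootL D l, gl l m (lc l v Bl) n v [] ∈ K.map Prod.fst) ∧
  (∀ t ∈ K, eqL (addL (mulL t.2.1 t.1) (mulL t.2.2.1 (cycL n))) [t.2.2.2] = true ∧ t.2.2.2 ∣ N0)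

instance decRegCk (D : ChevalleyDatum) (l : ℕ) (Al Bl : List (List ℤ)) (word : List (Fin l)) (k n : ℕ)
    (m : List (List ℤ)) (K : List (List ℤ × List ℤ × List ℤ × ℤ)) (N0 : ℤ) :
    Decidable (RegCk D l Al Bl word k n m K N0) := by
  unfold RegCk
  infer_instance

section Lists

variable {l : ℕ}

theorem length_lc : ∀ (v : List ℤ) (m : List (List ℤ)), (∀ b ∈ m, b.length = l) → (lc l v m).length = l
  | [], _, _ => by rw [lc, List.length_replicate]
  | a :: v, [], _ => by rw [lc, List.length_replicate]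
  | a :: v, b :: m, h => by
    rw [lc, length_addV _ _ (by
      rw [List.length_map, h b (List.mem_cons_self ..), length_lc v m fun b hb => h b (List.mem_cons_of_mem _ hb)]),
      length_lc v m fun b hb => h b (List.mem_cons_of_mem _ hb)]

theorem toFn_lc : ∀ (n : ℕ) (v : List ℤ) (m : List (List ℤ)), v.length = n → m.length = n → (∀ b ∈ m, b.length = l) →
    toFn l (lc l v m) = ∑ i : Fin n, v.getD i 0 • toFn l (m.getD i [])
  | 0, [], [], _, _, _ => by
    rw [lc, toFn_replicate, Finset.univ_eq_empty, Finset.sum_empty]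
  | n + 1, a :: v, b :: m, hv, hm, h => by
    have ih := toFn_lc n v m (Nat.succ.inj hv) (Nat.succ.inj hm) fun b hb => h b (List.mem_cons_of_mem _ hb)
    have h1 : (b.map (fun x => a * x)).length = l := by rw [List.length_map, h b (List.mem_cons_self ..)]
    have h2 := length_lc v m fun b hb => h b (List.mem_cons_of_mem _ hb)
    rw [lc, toFn_addV _ _ h1 h2, toFn_smul, ih, Fin.sum_univ_succ]
    rfl

/-- a linear map on lists -/
theorem toFn_lin {R : Module.End ℤ (Fin l → ℤ)} {m : List (List ℤ)} (hm : m.length = l) (hb : ∀ b ∈ m, b.length = l)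
    (h : ∀ i : Fin l, R (Pi.single i 1) = toFn l (m.getD i [])) {v : List ℤ} (hv : v.length = l) :
    toFn l (lc l v m) = R (toFn l v) := by
  rw [toFn_lc l v m hv hm hb, LinearMap.pi_apply_eq_sum_univ R (toFn l v)]
  refine Finset.sum_congr rfl fun i _ => ?_
  have h1 : (fun j => if i = j then (1 : ℤ) else 0) = Pi.single i 1 := by
    funext j
    by_cases hj : i = j
    · subst hj; simp
    · rw [if_neg hj, Pi.single_eq_of_ne (Ne.symm hj)]
  rw [h1, h]
  rfl

theorem eval_gl {R : Module.End ℤ (Fin l → ℤ)} {m : List (List ℤ)} (hm : m.length = l) (hb : ∀ b ∈ m, b.length = l)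
    (h : ∀ i : Fin l, R (Pi.single i 1) = toFn l (m.getD i [])) {b : List ℤ} (hbl : b.length = l) (Q : ℤ) :
    ∀ (n : ℕ) (u acc : List ℤ), u.length = l → (ofL (gl l m b n u acc)).eval Q =
      ∑ j ∈ Finset.range n, Q ^ (n - 1 - j) * fn l b ((R ^ j) (toFn l u)) + Q ^ n * (ofL acc).eval Q
  | 0, u, acc, _ => by rw [gl, Finset.sum_range_zero, pow_zero, zero_add, one_mul]
  | n + 1, u, acc, hu => by
    have ih := eval_gl hm hb h hbl Q n (lc l u m) (dot b u :: acc) (length_lc _ _ hb)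
    rw [gl, ih, Finset.sum_range_succ', toFn_lin hm hb h hu]
    have h1 : ∀ j ∈ Finset.range n, Q ^ (n - 1 - j) * fn l b ((R ^ j) (R (toFn l u))) =
        Q ^ (n + 1 - 1 - (j + 1)) * fn l b ((R ^ (j + 1)) (toFn l u)) := by
      intro j hj
      rw [pow_succ, Module.End.mul_apply]
      congr 2
      omega
    rw [Finset.sum_congr rfl h1, pow_zero, Module.End.one_apply, Nat.sub_zero, Nat.add_sub_cancel]
    have h2 : (ofL (dot b u :: acc)).eval Q = fn l b (toFn l u) + Q * (ofL acc).eval Q := by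
      rw [ofL, Polynomial.eval_add, Polynomial.eval_C, Polynomial.eval_mul, Polynomial.eval_X, dot_eq b u hbl hu]
      rfl
    rw [h2]
    ring

end Lists

variable {D : ChevalleyDatum} {l : ℕ} {M : CoxeterMatrix (Fin l)} (hp : IsType D l M)
  {W : Type*} [Group W] (cs : CoxeterSystem M W)

theorem exists_rootL {a : Fin l → ℤ} (ha : IsRoot cs hp.isCartan a) :
    ∃ v ∈ rootL D l, v.length = l ∧ toFn l v = a := by
  obtain ⟨r, hr, rfl⟩ := (isRoot_iff hp cs a).1 ha
  refine ⟨_, List.mem_map_of_mem (List.mem_range.2 hr), by rw [List.length_map, List.length_finRange], ?_⟩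
  funext j
  show ((List.finRange l).map (vec D l r)).getD j 0 = _
  rw [List.getD_eq_getElem _ _ (by rw [List.length_map, List.length_finRange]; exact j.2), List.getElem_map,
    List.getElem_finRange]
  rfl

theorem rep_single {Al : List (List ℤ)} (hA : MatList (cartanOf D l) Al) (word : List (Fin l)) (k : ℕ)
    {m : List (List ℤ)} (h : ∀ i : Fin l, acn Al word k (bas l i) = m.getD i []) (i : Fin l) :
    rep cs hp.isCartan (cs.wordProd word ^ k) (Pi.single i 1) = toFn l (m.getD i []) := by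
  rw [← h i, toFn_acn cs hp.isCartan hA word _ _ (length_bas i.1), toFn_bas, map_pow]

theorem rep_pow_eq_one {Al : List (List ℤ)} (hA : MatList (cartanOf D l) Al) (word : List (Fin l)) (k n : ℕ)
    (h : ∀ i : Fin l, acn Al word (k * n) (bas l i) = bas l i) :
    rep cs hp.isCartan (cs.wordProd word ^ k) ^ n = 1 := by
  apply LinearMap.pi_ext'
  intro i
  apply LinearMap.ext_ring
  show (rep cs hp.isCartan (cs.wordProd word ^ k) ^ n) (Pi.single i 1) = Pi.single i 1
  rw [← toFn_bas, map_pow, ← pow_mul, ← toFn_acn cs hp.isCartan hA word _ _ (length_bas i.1), h i]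

/-- **Regularity from a table.** -/
theorem regAt_of_ck {Al Bl : List (List ℤ)} (hA : MatList (cartanOf D l) Al) {word : List (Fin l)} {k n : ℕ}
    {m : List (List ℤ)} {K : List (List ℤ × List ℤ × List ℤ × ℤ)} {N0 : ℤ} (H : RegCk D l Al Bl word k n m K N0)
    (hn : n ∈ H130.PolyL.idx) {r : ℕ} (hr : r.Prime) {Q : ℤ} (hQ : ¬ (r : ℤ) ∣ Q) (hrn : orderOf (Q : ZMod r) = n)
    (hrN : ¬ (r : ℤ) ∣ N0) : RegAt cs hp.isCartan (cs.wordProd word ^ k) n r Q := by
  obtain ⟨⟨h1, h2, h3, h4⟩, h5, -, h6, h7⟩ := H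
  have hrZ := Nat.prime_iff_prime_int.1 hr
  intro a ha
  obtain ⟨v, hv, hvl, rfl⟩ := exists_rootL hp cs ha
  have hbl : (lc l v Bl).length = l := length_lc _ _ h4
  refine ⟨(fn l (lc l v Bl)).toAddMonoidHom, fun h => ?_⟩
  have h8 := eval_gl h1 h3 (rep_single hp cs hA word k h5) hbl Q n v [] hvl
  rw [ofL, Polynomial.eval_zero, mul_zero, add_zero] at h8
  have hn0 : 0 < n := by rw [← hrn]; exact ord_pos hr hQ
  have h9 : ∑ j ∈ Finset.range n, Q ^ (n - j) *
      (fn l (lc l v Bl)).toAddMonoidHom ((rep cs hp.isCartan (cs.wordProd word ^ k) ^ j) (toFn l v)) =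
      Q * (ofL (gl l m (lc l v Bl) n v [])).eval Q := by
    rw [h8, Finset.mul_sum]
    refine Finset.sum_congr rfl fun j hj => ?_
    rw [Finset.mem_range] at hj
    have h10 : Q ^ (n - j) = Q * Q ^ (n - 1 - j) := by
      rw [← pow_succ']
      congr 1
      omega
    rw [h10, mul_assoc]
    rfl
  rw [h9] at h
  have h10 := (hrZ.dvd_mul.1 h).resolve_left hQ
  obtain ⟨t, ht, hte⟩ := List.mem_map.1 (h6 v hv)
  obtain ⟨h11, h12⟩ := h7 t ht
  have h13 := congrArg (fun f => f.eval Q) (ofL_eq_of_eqL h11)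
  rw [← hte] at h10
  simp only [ofL_addL, ofL_mulL, Polynomial.eval_add, Polynomial.eval_mul, ofL, Polynomial.eval_C,
    mul_zero, add_zero, ← cyclotomic_eq n hn] at h13
  have h14 := dvd_cyclotomic hr hQ
  rw [hrn] at h14
  apply hrN
  refine dvd_trans ?_ h12
  rw [← h13]
  exact dvd_add (h10.mul_left _) (h14.mul_left _)

/-- the trivial element -/
theorem regAt_one {r : ℕ} (hr : r.Prime) {Q : ℤ} (hQ : ¬ (r : ℤ) ∣ Q) : RegAt cs hp.isCartan 1 1 r Q := by
  have hrZ := Nat.prime_iff_prime_int.1 hr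
  intro a ha
  obtain ⟨i, hi⟩ := exists_coord hp cs ha hr
  refine ⟨coordF l i, fun h => ?_⟩
  rw [Finset.sum_range_one, pow_zero, Module.End.one_apply, Nat.sub_zero, pow_one] at h
  exact (hrZ.dvd_mul.1 h).elim hQ hi

section Cert

variable {k' : Type u} [Field k'] {p e : ℕ} [Fact p.Prime] [CharP k' p] {σ : MulAut ↥(D.group k')}
  {g : (Fin l → ℤ) ≃+ (Fin l → ℤ)} {X : Type v} [Group X] {e0 : X →* ↥(D.group k')} {d : ℕ}
  (S : Setup hp cs p e σ g e0 d)

include S

/-- **The abelian subgroup, from a certificate.** -/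
theorem Setup.exists_torus_cert [IsAlgClosed k'] [Finite W] [Finite X] {ε : ℤ} (hε : ε = 1 ∨ ε = -1)
    {Al : List (List ℤ)} (hA : MatList (cartanOf D l) Al) {word : List (Fin l)} {k : ℕ}
    (hT : HasTor hp cs g ε (cs.wordProd word ^ k)) {Q : ℤ} (hQ : Q = ε * (p ^ e : ℕ)) {n : ℕ} (hn0 : 0 < n)
    (hn : n ∈ H130.PolyL.idx) {a : ℕ} {c : ℤ} {xs ys : List (List ℤ)} (H : Cert Al l n a word k c xs ys)
    {fs : ℤ} {N g' : ℕ} (hcard : g' * Nat.card X = (p ^ e) ^ N * fs.natAbs) {π : Set ℕ}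
    (hπ : ∀ r ∈ π, r.Prime ∧ r ≠ 2 ∧ r ≠ p ∧ ¬ r ∣ d ∧ orderOf (Q : ZMod r) = n ∧ ¬ (r : ℤ) ∣ c ∧
      ∃ R, fs = (Polynomial.cyclotomic n ℤ).eval Q ^ a * R ∧ ¬ (r : ℤ) ∣ R) :
    ∃ T : Subgroup X, IsMulCommutative T ∧ ∀ r ∈ π, ¬ r ∣ T.index := by
  obtain ⟨h1, h2, h3, h4⟩ := H
  refine S.exists_torus hp cs hε hT hQ hn0 (rep_pow_eq_one hp cs hA word k n h1)
    (fun i => toFn l (xs.getD i [])) (fun i => fn l (ys.getD i [])) c ?_ ?_ hcard hπ
  · intro i
    rw [cyclotomic_eq _ hn, ← toFn_horner cs hp.isCartan hA word k _ (h2 i).1, h3 i, toFn_replicate]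
  · intro i i' j hj
    have hdeg := natDegree_cyclotomic_eq hn
    have h5 := h4 i i' ⟨j, by omega⟩
    have h6 : (fn l (ys.getD i [])) ((rep cs hp.isCartan (cs.wordProd word ^ k) ^ j) (toFn l (xs.getD i' []))) =
        dot (ys.getD i []) (acn Al word (k * j) (xs.getD i' [])) := by
      rw [dot_eq _ _ (h2 i).2 (by rw [length_acn, (h2 i').1]), toFn_acn cs hp.isCartan hA word _ _ (h2 i').1, map_pow,
        ← pow_mul]
      rfl
    rw [h6, h5]
    congr 1
    apply propext
    constructor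
    · rintro ⟨h7, h8⟩
      exact ⟨h7, by simp only at h8; omega⟩
    · rintro ⟨h7, h8⟩
      exact ⟨h7, by simp only; omega⟩

end Cert

end Cfsg.Agent.H630.Exc
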