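import Cfsg.Agent.H630.ExcE

/-!
# The row in cross characteristic from the tables (helper630)

* `RegE` : the exclusion of the pairs with `e` the order of `Q` modulo `r` and `s ∤ Q^e - 1`;
* `crossRow_of` : the row of a group with a `Setup` from the regular numbers, the degree bound, the bad primes and the
  abelian subgroups.
-/

set_option autoImplicit false
set_option linter.unusedSectionVars false

namespace Cfsg.Agent.H630.Exc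

open CoxeterSystem Cfsg Cfsg.Lie Cfsg.Lie.ChevalleyDatum
open Cfsg.Agent.ChevalleyStructure Cfsg.Agent.ChevalleyStructure.Elts Cfsg.Agent.ChevalleyStructure.CoxeterGeom
  Cfsg.Agent.ChevalleyStructure.CoxeterGeomTypes Cfsg.Agent.ChevalleyStructure.NPerm
open Cfsg.Agent.Tits.Roots Cfsg.Agent.Tits.Core Cfsg.Agent.Nodes Cfsg.Agent.Nodes.Reps Cfsg.Agent.Nodes.BNOf
  Cfsg.Agent.Nodes.RGDChev Cfsg.Agent.Nodes.Bruhat Cfsg.Agent.Nodes.SubComb Cfsg.Agent.Nodes.Coroot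
open Cfsg.Agent.KFacts.RgdField Cfsg.Agent.KFacts.RgdChevCoord Cfsg.Agent.BpExc.TorCent Cfsg.Agent.BpExc.TorChev
open Cfsg.Agent.GpExc.Field Cfsg.Agent.BpExc.Tow Cfsg.Agent.BpExc.TowChev Cfsg.Agent.BpExc.Fr
  Cfsg.Agent.BpExc.LangFr Cfsg.Agent.LangThm Cfsg.Agent.BpExc Cfsg.Agent.H129.TorusChar Cfsg.Agent.H129.TorusMain
open Cfsg.Agent.H630.NH Cfsg.Agent.H130.WeylCk Cfsg.Agent.H130.PolyL

universe u v

/-! ### arithmetic -/

theorem not_dvd_Q {p e r : ℕ} (hp : p.Prime) (hr : r.Prime) (hrp : r ≠ p) {ε Q : ℤ} (hε : ε = 1 ∨ ε = -1)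
    (hQ : Q = ε * (p ^ e : ℕ)) : ¬ (r : ℤ) ∣ Q := by
  intro h2
  have h3 : r ∣ Q.natAbs := Int.natCast_dvd.1 h2
  have h4 : Q.natAbs = p ^ e := by
    rw [hQ, Int.natAbs_mul]
    rcases hε with rfl | rfl <;> simp
  rw [h4] at h3
  exact hrp ((Nat.prime_dvd_prime_iff_eq hr hp).1 (hr.dvd_of_dvd_pow h3))

/-- the order of `-Q` -/
theorem order_neg {r n : ℕ} (hr : r.Prime) {Q : ℤ} (hn : orderOf (Q : ZMod r) = 2 * n) (hodd : ¬ 2 ∣ n) (hn0 : 0 < n) :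
    orderOf ((-Q : ℤ) : ZMod r) = n := by
  have : Fact r.Prime := ⟨hr⟩
  obtain ⟨x, hx⟩ : ∃ x : ZMod r, x = (Q : ZMod r) := ⟨_, rfl⟩
  rw [Int.cast_neg, ← hx]
  rw [← hx] at hn
  have h1 : x ^ n = -1 := by
    have h2 : (x ^ n) ^ 2 = 1 := by rw [← pow_mul, mul_comm, ← hn, pow_orderOf_eq_one]
    have h2' : (x ^ n - 1) * (x ^ n + 1) = 0 := by
      have e1 : (x ^ n - 1) * (x ^ n + 1) = (x ^ n) ^ 2 - 1 := by ring
      rw [e1, h2, sub_self]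
    rcases mul_eq_zero.1 h2' with h3 | h3
    · exfalso
      rw [sub_eq_zero] at h3
      have h4 := orderOf_dvd_of_pow_eq_one h3
      rw [hn] at h4
      have := Nat.le_of_dvd hn0 h4
      omega
    · exact eq_neg_of_add_eq_zero_left h3
  have hodd' : Odd n := Nat.not_even_iff_odd.1 fun h => hodd h.two_dvd
  refine Nat.dvd_antisymm ?_ ?_
  · apply orderOf_dvd_of_pow_eq_one
    rw [hodd'.neg_pow, h1, neg_neg]
  · have h2 : x ^ (2 * orderOf (-x)) = 1 := by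
      have h3 := pow_orderOf_eq_one (-x)
      have h4 : (-x) ^ (2 * orderOf (-x)) = 1 := by rw [mul_comm, pow_mul, h3, one_pow]
      rwa [(even_two_mul _).neg_pow] at h4
    have h3 := orderOf_dvd_of_pow_eq_one h2
    rw [hn] at h3
    exact Nat.dvd_of_mul_dvd_mul_left two_pos h3

/-! ### the exclusion of pairs -/

section Reg

variable {D : ChevalleyDatum} {l : ℕ} {M : CoxeterMatrix (Fin l)} (hp : IsType D l M) {k' : Type u} [Field k']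
  {W : Type*} [Group W] (cs : CoxeterSystem M W)
  {p e : ℕ} [Fact p.Prime] [CharP k' p] {σ : MulAut ↥(D.group k')}
  {g : (Fin l → ℤ) ≃+ (Fin l → ℤ)} {X : Type v} [Group X] {e0 : X →* ↥(D.group k')} {d : ℕ}
  (S : Setup hp cs p e σ g e0 d)

/-- primes `r` with `Q` of order `n` modulo `r` exclude the primes `s` with `s ∤ Q^n - 1` -/
def RegE (X : Type v) [Group X] (p d : ℕ) (Q : ℤ) (n : ℕ) : Prop :=
  ∀ (π : Set ℕ) (r s : ℕ), r.Prime → s.Prime → r ∈ π → s ∈ π → r ≠ s → r ≠ 2 → r ≠ p → ¬ r ∣ d → s ∣ Nat.card X →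
    orderOf (Q : ZMod r) = n → ¬ orderOf (Q : ZMod s) ∣ n → ¬ Cond π X

include S

theorem Setup.regE_same [IsAlgClosed k'] [Finite W] [Finite X] {ε Q : ℤ} (hε : ε = 1 ∨ ε = -1)
    (hQ : Q = ε * (p ^ e : ℕ)) {w1 : W} (hT : HasTor hp cs g ε w1) {n : ℕ} (hw : rep cs hp.isCartan w1 ^ n = 1)
    (hreg : ∀ r : ℕ, r.Prime → r ≠ 2 → ¬ (r : ℤ) ∣ Q → orderOf (Q : ZMod r) = n → RegAt cs hp.isCartan w1 n r Q) :
    RegE X p d Q n := by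
  intro π r s hrp hsp hr hs hrs hr2 hrc hrd hsX hrn hsn
  exact S.not_cond_reg hp cs hrp hsp hr hs hrs hrc hrd hr2 hsX hε hT hw hQ ((dvd_pow_sub_one_iff n).2 (by rw [hrn]))
    (hreg r hrp hr2 (not_dvd_Q Fact.out hrp hrc hε hQ) hrn) fun h => hsn ((dvd_pow_sub_one_iff n).1 h)

theorem Setup.regE_neg [IsAlgClosed k'] [Finite W] [Finite X] {ε Q : ℤ} (hε : ε = 1 ∨ ε = -1)
    (hQ : Q = ε * (p ^ e : ℕ)) {w1 : W} (hT : HasTor hp cs g (-ε) w1) {n : ℕ} (hn0 : 0 < n) (hodd : ¬ 2 ∣ n)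
    (hw : rep cs hp.isCartan w1 ^ n = 1)
    (hreg : ∀ r : ℕ, r.Prime → r ≠ 2 → ¬ (r : ℤ) ∣ -Q → orderOf ((-Q : ℤ) : ZMod r) = n →
      RegAt cs hp.isCartan w1 n r (-Q)) :
    RegE X p d Q (2 * n) := by
  intro π r s hrp hsp hr hs hrs hr2 hrc hrd hsX hrn hsn
  have h1 := order_neg hrp hrn hodd hn0
  have hε' : -ε = 1 ∨ -ε = -1 := by rcases hε with rfl | rfl <;> simp
  have hQ' : -Q = -ε * (p ^ e : ℕ) := by rw [hQ]; ring
  refine S.not_cond_reg hp cs hrp hsp hr hs hrs hrc hrd hr2 hsX hε' hT hw hQ'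
    ((dvd_pow_sub_one_iff n).2 (by rw [h1])) (hreg r hrp hr2 (not_dvd_Q Fact.out hrp hrc hε' hQ') h1) fun h => hsn ?_
  rw [← dvd_pow_sub_one_iff]
  have h2 : (-Q) ^ (2 * n) = Q ^ (2 * n) := (even_two_mul n).neg_pow Q
  have h3 : (-Q) ^ n - 1 ∣ (-Q) ^ (2 * n) - 1 := ⟨(-Q) ^ n + 1, by ring⟩
  rw [h2] at h3
  exact h.trans h3

end Reg

/-- primes `r` with `e ∣ r - 1` are larger than `l + 1` -/
def Big (l e : ℕ) : Prop := ∀ r < l + 2, r.Prime → ¬ e ∣ r - 1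

instance decBig (l e : ℕ) : Decidable (Big l e) := by unfold Big; infer_instance

section Main

variable {D : ChevalleyDatum} {l : ℕ} {M : CoxeterMatrix (Fin l)} (hp : IsType D l M) {k' : Type u} [Field k']
  {W : Type*} [Group W] (cs : CoxeterSystem M W)
  {p e : ℕ} [hpF : Fact p.Prime] [CharP k' p] {σ : MulAut ↥(D.group k')}
  {g : (Fin l → ℤ) ≃+ (Fin l → ℤ)} {X : Type v} [Group X] {e0 : X →* ↥(D.group k')} {d : ℕ}
  (S : Setup hp cs p e σ g e0 d)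

include S

/-- **The row in cross characteristic.** -/
theorem Setup.crossRow_of [IsAlgClosed k'] [Finite W] [Finite X] (hka : BpExc.TorAll.HAlg p k') {ε Q : ℤ}
    (hε : ε = 1 ∨ ε = -1) (hQ : Q = ε * (p ^ e : ℕ)) {degs es : List ℕ}
    (hes : ∀ i ∈ degs, i ≠ 0 ∧ ∀ n < i + 1, n ∣ i → n ∈ es) {N g' : ℕ}
    (hcard : g' * Nat.card X = (p ^ e) ^ N * ((degs.map (fun i => Q ^ i - 1)).prod).natAbs)
    {H : List ℕ} (hReg : ∀ n ∈ H, RegE X p d Q n) {Sp : ℕ → ℕ → Prop}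
    (hpair : ∀ n ∈ es, ∀ m ∈ es, n ≠ m → (n ∈ H ∧ ¬ m ∣ n) ∨ (m ∈ H ∧ ¬ n ∣ m) ∨
      (l < n.totient + m.totient ∧ Big l n ∧ Big l m) ∨ Sp n m ∨ Sp m n)
    (hSp : ∀ (π : Set ℕ) (r s : ℕ), r.Prime → s.Prime → r ∈ π → s ∈ π → r ≠ s → r ≠ 2 → s ≠ 2 → r ≠ p → s ≠ p →
      ¬ r ∣ d → ¬ s ∣ d → r ∣ Nat.card X → s ∣ Nat.card X → Sp (orderOf (Q : ZMod r)) (orderOf (Q : ZMod s)) →
      ¬ Cond π X)
    (hd : ∀ (π : Set ℕ) (r s : ℕ), r.Prime → s.Prime → r ∈ π → s ∈ π → r ≠ s → r ≠ 2 → s ≠ 2 → r ≠ p → s ≠ p →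
      r ∣ d → r ∣ Nat.card X → s ∣ Nat.card X → ¬ Cond π X)
    (hBad : ∀ (π : Set ℕ) (r s : ℕ), r.Prime → s.Prime → r ∈ π → s ∈ π → r ≠ s → r ≠ 2 → s ≠ 2 → r ≠ p → s ≠ p →
      ¬ r ∣ d → ¬ s ∣ d → r ∣ Nat.card X → s ∣ Nat.card X → orderOf (Q : ZMod r) = orderOf (Q : ZMod s) →
      (∃ i ∈ degs, orderOf (Q : ZMod r) ∣ i ∧ r ∣ i) → ¬ Cond π X)
    (hPos : ∀ n ∈ es, ∀ (π : Set ℕ), (∀ r ∈ π, r.Prime ∧ r ≠ 2 ∧ r ≠ p ∧ ¬ r ∣ d ∧ orderOf (Q : ZMod r) = n ∧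
      (∀ i ∈ degs, n ∣ i → ¬ r ∣ i) ∧ ∃ R, (degs.map (fun i => Q ^ i - 1)).prod = (Polynomial.cyclotomic n ℤ).eval Q ^
        (degs.filter (fun i => n ∣ i)).length * R ∧ ¬ (r : ℤ) ∣ R) → π.Nontrivial →
      ∃ T : Subgroup X, IsMulCommutative T ∧ ∀ r ∈ π, ¬ r ∣ T.index) : CrossRow p X := by
  have hpp : p.Prime := Fact.out
  intro π hπ hnt hc
  have hQr : ∀ r ∈ π, ¬ (r : ℤ) ∣ Q := fun r hr => not_dvd_Q hpp (hπ r hr).1 (hπ r hr).2.2.1 hε hQ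
  -- no prime of `π` divides `d`
  have hdπ : ∀ r ∈ π, ¬ r ∣ d := by
    intro r hr hrd
    obtain ⟨s, hs, hsr⟩ := hnt.exists_ne r
    exact hd π r s (hπ r hr).1 (hπ s hs).1 hr hs hsr.symm (hπ r hr).2.1 (hπ s hs).2.1 (hπ r hr).2.2.1
      (hπ s hs).2.2.1 hrd (hπ r hr).2.2.2 (hπ s hs).2.2.2 hc
  -- the orders are in `es`
  have hord : ∀ r ∈ π, orderOf (Q : ZMod r) ∈ es := by
    intro r hr
    obtain ⟨h1, h2, h3, h4⟩ := hπ r hr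
    have hrZ := Nat.prime_iff_prime_int.1 h1
    have h5 : r ∣ (p ^ e) ^ N * ((degs.map (fun i => Q ^ i - 1)).prod).natAbs := by
      rw [← hcard]; exact h4.mul_left _
    rcases h1.dvd_mul.1 h5 with h6 | h6
    · exact absurd ((Nat.prime_dvd_prime_iff_eq h1 hpp).1 (h1.dvd_of_dvd_pow (h1.dvd_of_dvd_pow h6))) h3
    · have h7 : (r : ℤ) ∣ (degs.map (fun i => Q ^ i - 1)).prod := Int.natCast_dvd.2 h6
      obtain ⟨x, hx, hrx⟩ := (Prime.dvd_prod_iff hrZ).1 h7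
      obtain ⟨i, hi, rfl⟩ := List.mem_map.1 hx
      have h8 := (dvd_pow_sub_one_iff i).1 hrx
      exact (hes i hi).2 _ (Nat.lt_succ_of_le (Nat.le_of_dvd (Nat.pos_of_ne_zero (hes i hi).1) h8)) h8
  have hbig : ∀ r ∈ π, Big l (orderOf (Q : ZMod r)) → l + 1 < r := by
    intro r hr hb
    by_contra hcon
    exact hb r (by omega) (hπ r hr).1 (ord_dvd (hπ r hr).1 (hQr r hr))
  -- different orders
  have hne : ∀ r ∈ π, ∀ s ∈ π, orderOf (Q : ZMod r) = orderOf (Q : ZMod s) := by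
    intro r hr s hs
    by_contra hne
    have hrs : r ≠ s := by rintro rfl; exact hne rfl
    obtain ⟨h1, h2, h3, h4⟩ := hπ r hr
    obtain ⟨g1, g2, g3, g4⟩ := hπ s hs
    rcases hpair _ (hord r hr) _ (hord s hs) hne with ⟨h5, h6⟩ | ⟨h5, h6⟩ | ⟨h5, h6, h7⟩ | h5 | h5
    · exact hReg _ h5 π r s h1 g1 hr hs hrs h2 h3 (hdπ r hr) g4 rfl h6 hc
    · exact hReg _ h5 π s r g1 h1 hs hr hrs.symm g2 g3 (hdπ s hs) h4 rfl h6 hc
    · obtain ⟨x, hx⟩ := exists_mul_order h1 g1 hr hs hrs h4 g4 hc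
      have := S.totient_le hp cs hka h1 g1 h3 g3 (hbig r hr h6) (hbig s hs h7) hx hε hQ hne
      omega
    · exact hSp π r s h1 g1 hr hs hrs h2 g2 h3 g3 (hdπ r hr) (hdπ s hs) h4 g4 h5 hc
    · exact hSp π s r g1 h1 hs hr hrs.symm g2 h2 g3 h3 (hdπ s hs) (hdπ r hr) g4 h4 h5 hc
  obtain ⟨r0, hr0⟩ := hnt.nonempty
  refine hPos _ (hord r0 hr0) π (fun r hr => ?_) hnt
  obtain ⟨h1, h2, h3, h4⟩ := hπ r hr
  have hb : ∀ i ∈ degs, orderOf (Q : ZMod r) ∣ i → ¬ r ∣ i := by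
    intro i hi h5 h6
    obtain ⟨s, hs, hsr⟩ := hnt.exists_ne r
    obtain ⟨g1, g2, g3, g4⟩ := hπ s hs
    exact hBad π r s h1 g1 hr hs hsr.symm h2 g2 h3 g3 (hdπ r hr) (hdπ s hs) h4 g4 (hne r hr s hs) ⟨i, hi, h5, h6⟩ hc
  refine ⟨h1, h2, h3, hdπ r hr, hne r hr r0 hr0, ?_, ?_⟩
  · rw [hne r0 hr0 r hr]; exact hb
  · have h5 := exists_prod h1 (hQr r hr) degs hb
    rwa [hne r hr r0 hr0] at h5

end Main

end Cfsg.Agent.H630.Exc
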