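import Cfsg.Agent.H630.ExcF

/-!
# Bad primes (helper630)

* `Setup.not_cond_sum` : an element of `r`-power order of `W` commuting with `w₁` without fixed points on the torus;
* `Setup.not_cond_count` : the counting argument for `w₁ = 1`;
* `ncard_root` : counting roots in the list.
-/

set_option autoImplicit false
set_option linter.unusedSectionVars false

namespace Cfsg.Agent.H630.Exc

open CoxeterSystem Cfsg Cfsg.Lie Cfsg.Lie.ChevalleyDatum
open Cfsg.Agent.ChevalleyStructure Cfsg.Agent.ChevalleyStructure.Elts Cfsg.Agent.ChevalleyStructure.CoxeterGeom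
  Cfsg.Agent.ChevalleyStructure.CoxeterGeomTypes Cfsg.Agent.ChevalleyStructure.NPerm
open Cfsg.Agent.Tits.Roots Cfsg.Agent.Tits.Core Cfsg.Agent.Nodes Cfsg.Agent.Nodes.Reps Cfsg.Agent.Nodes.BNOf
  Cfsg.Agent.Nodes.RGDChev Cfsg.Agent.Nodes.Bruhat Cfsg.Agent.Nodes.SubComb Cfsg.Agent.Nodes.Coroot
open Cfsg.Agent.KFacts.RgdField Cfsg.Agent.KFacts.RgdChevCoord Cfsg.Agent.BpExc.TorCent Cfsg.Agent.BpExc.TorChev
open Cfsg.Agent.GpExc.Field Cfsg.Agent.BpExc.Tow Cfsg.Agent.BpExc.TowChev Cfsg.Agent.BpExc.Fr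
  Cfsg.Agent.BpExc.LangFr Cfsg.Agent.LangThm Cfsg.Agent.BpExc Cfsg.Agent.H129.TorusChar Cfsg.Agent.H129.TorusMain
open Cfsg.Agent.H630.NH Cfsg.Agent.H130.WeylCk Cfsg.Agent.H130.PolyL

universe u v

section Count

variable {D : ChevalleyDatum} {l : ℕ} {M : CoxeterMatrix (Fin l)} (hp : IsType D l M)
  {W : Type*} [Group W] (cs : CoxeterSystem M W)

theorem toFn_root (r : ℕ) : toFn l ((List.finRange l).map (vec D l r)) = vec D l r := by
  funext j
  show ((List.finRange l).map (vec D l r)).getD j 0 = _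
  rw [List.getD_eq_getElem _ _ (by rw [List.length_map, List.length_finRange]; exact j.2), List.getElem_map,
    List.getElem_finRange]
  rfl

omit [Group W] in
theorem card_filter_range (f : ℕ → List ℤ) (P' : List ℤ → Bool) (n : ℕ) :
    ((Finset.range n).filter fun r => P' (f r) = true).card = ((List.range n).filter (P' ∘ f)).length := by
  induction n with
  | zero => rfl
  | succ n ih =>
    rw [Finset.range_add_one, Finset.filter_insert, List.range_succ, List.filter_append, List.length_append, ← ih]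
    by_cases h : P' (f n) = true
    · rw [if_pos h, Finset.card_insert_of_notMem (by simp), List.filter_cons_of_pos (by simpa using h)]
      rfl
    · rw [if_neg h, List.filter_cons_of_neg (by simpa using h)]
      rfl

/-- Counting roots. -/
theorem ncard_root (P : (Fin l → ℤ) → Prop) (P' : List ℤ → Bool)
    (hP : ∀ v ∈ rootL D l, P' v = true ↔ P (toFn l v)) :
    {a | IsRoot cs hp.isCartan a ∧ P a}.ncard = (rootL D l).countP P' := by
  have h1 : {a | IsRoot cs hp.isCartan a ∧ P a} = (fun r => vec D l r) ''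
      (((Finset.range D.nroots).filter fun r => P' ((List.finRange l).map (vec D l r)) = true : Finset ℕ) : Set ℕ) := by
    ext a
    constructor
    · rintro ⟨ha, hPa⟩
      obtain ⟨r, hr, rfl⟩ := (isRoot_iff hp cs a).1 ha
      refine ⟨r, ?_, rfl⟩
      rw [Finset.mem_coe, Finset.mem_filter, Finset.mem_range]
      refine ⟨hr, (hP _ (List.mem_map_of_mem (List.mem_range.2 hr))).2 ?_⟩
      rw [toFn_root]; exact hPa
    · rintro ⟨r, hr, rfl⟩
      rw [Finset.mem_coe, Finset.mem_filter, Finset.mem_range] at hr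
      refine ⟨(isRoot_iff hp cs _).2 ⟨r, hr.1, rfl⟩, ?_⟩
      have := (hP _ (List.mem_map_of_mem (List.mem_range.2 hr.1))).1 hr.2
      rwa [toFn_root] at this
  have h2 : Set.InjOn (fun r => vec D l r) (((Finset.range D.nroots).filter fun r =>
      P' ((List.finRange l).map (vec D l r)) = true : Finset ℕ) : Set ℕ) := by
    intro r hr s hs h
    rw [Finset.mem_coe, Finset.mem_filter, Finset.mem_range] at hr hs
    exact vec_inj hp hr.1 hs.1 h
  rw [h1, h2.ncard_image, Set.ncard_coe_finset, rootL, List.countP_map, List.countP_eq_length_filter,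
    ← card_filter_range (fun r => (List.finRange l).map (vec D l r)) P' D.nroots]

/-- the sum of the first `n` iterates -/
def sumIt (l : ℕ) (m : List (List ℤ)) : ℕ → List ℤ → List ℤ
  | 0, _ => List.replicate l 0
  | n + 1, v => addV v (sumIt l m n (lc l v m))

theorem length_sumIt {m : List (List ℤ)} (hb : ∀ b ∈ m, b.length = l) : ∀ (n : ℕ) (v : List ℤ), v.length = l →
    (sumIt l m n v).length = l
  | 0, v, _ => by rw [sumIt, List.length_replicate]
  | n + 1, v, hv => by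
    have h1 := length_sumIt hb n (lc l v m) (length_lc _ _ hb)
    rw [sumIt, length_addV _ _ (by rw [hv, h1]), h1]

theorem toFn_sumIt {R : Module.End ℤ (Fin l → ℤ)} {m : List (List ℤ)} (hm : m.length = l) (hb : ∀ b ∈ m, b.length = l)
    (h : ∀ i : Fin l, R (Pi.single i 1) = toFn l (m.getD i [])) : ∀ (n : ℕ) (v : List ℤ), v.length = l →
    toFn l (sumIt l m n v) = ∑ i ∈ Finset.range n, (R ^ i) (toFn l v)
  | 0, v, _ => by rw [sumIt, toFn_replicate, Finset.sum_range_zero]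
  | n + 1, v, hv => by
    have h1 := length_sumIt hb n (lc l v m) (length_lc _ _ hb)
    rw [sumIt, toFn_addV _ _ hv h1, toFn_sumIt hm hb h n _ (length_lc _ _ hb), toFn_lin hm hb h hv,
      Finset.sum_range_succ', pow_zero, Module.End.one_apply, add_comm]
    congr 1

end Count

variable {D : ChevalleyDatum} {l : ℕ} {M : CoxeterMatrix (Fin l)} (hp : IsType D l M) {k' : Type u} [Field k']
  {W : Type*} [Group W] (cs : CoxeterSystem M W)
  {p e : ℕ} [Fact p.Prime] [CharP k' p] {σ : MulAut ↥(D.group k')}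
  {g : (Fin l → ℤ) ≃+ (Fin l → ℤ)} {X : Type v} [Group X] {e0 : X →* ↥(D.group k')} {d : ℕ}
  (S : Setup hp cs p e σ g e0 d)

/-- the action of `w₁` on a torus element -/
theorem cX_w1 {w w1 : W} {ε : ℤ} (hε : ε = 1 ∨ ε = -1) (h : ∀ x, theta hp cs w g x = ε • rep cs hp.isCartan w1 x)
    {Q : ℤ} (hQ : Q = ε * (p ^ e : ℕ)) {t : ↥(D.group k')} (ht : t ∈ TT D k')
    (hθ : ∀ x, cX hp t (theta hp cs w g x) = cX hp t x ^ p ^ e) (j : ℕ) (x : Fin l → ℤ) :
    cX hp t ((rep cs hp.isCartan w1 ^ j) x) = cX hp t x ^ (Q ^ j) := by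
  have hmc := isMC_cX hp ht
  have h1 : ∀ x, cX hp t (rep cs hp.isCartan w1 x) = cX hp t x ^ Q := by
    intro x
    have h2 := hθ x
    rw [h, hmc.zsmul] at h2
    rw [hQ, mul_comm, zpow_mul, zpow_natCast, ← h2, ← zpow_mul]
    rcases hε with rfl | rfl <;> simp
  induction j with
  | zero => rw [pow_zero, pow_zero, Module.End.one_apply, zpow_one]
  | succ j ih => rw [pow_succ', Module.End.mul_apply, h1, ih, pow_succ, zpow_mul]

include S

/-- **Bad primes, first version.** -/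
theorem Setup.not_cond_sum [IsAlgClosed k'] [Finite W] [Finite X] {π : Set ℕ} {r s' : ℕ} (hrp : r.Prime)
    (hsp : s'.Prime) (hr : r ∈ π) (hs' : s' ∈ π) (hrs : r ≠ s') (hrc : r ≠ p) (hrd : ¬ r ∣ d) (hr2 : r ≠ 2)
    (hsX : s' ∣ Nat.card X) {ε Q : ℤ} (hε : ε = 1 ∨ ε = -1) (hQ : Q = ε * (p ^ e : ℕ)) {w1 : W}
    (hT : HasTor hp cs g ε w1) {n : ℕ} (hn0 : 0 < n) (hw : rep cs hp.isCartan w1 ^ n = 1) (hrQ : (r : ℤ) ∣ Q ^ n - 1)
    (hreg : RegAt cs hp.isCartan w1 n r Q) {sW : W}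
    (hcomm : ∀ x, rep cs hp.isCartan sW (rep cs hp.isCartan w1 x) = rep cs hp.isCartan w1 (rep cs hp.isCartan sW x))
    {j : ℕ} (hsj : rep cs hp.isCartan sW ^ r ^ j = 1) {m : ℕ} (c : Fin m → ℤ)
    (hsum : ∀ x, ∑ i ∈ Finset.range (r ^ j), (rep cs hp.isCartan sW ^ i)
      (∑ t : Fin m, c t • (rep cs hp.isCartan w1 ^ (t : ℕ)) x) = 0)
    (hcs : ¬ (s' : ℤ) ∣ ∑ t : Fin m, c t * Q ^ (t : ℕ)) : ¬ Cond π X := by
  obtain ⟨w, hw'⟩ := hT
  have hrZ := Nat.prime_iff_prime_int.1 hrp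
  have hsZ := Nat.prime_iff_prime_int.1 hsp
  have hsj' : sW ^ r ^ j = 1 := rep_injective cs hp.isCartan (by rw [map_pow, hsj, map_one])
  refine S.not_cond_B hp cs hrp hsp hr hs' hrs hrc hrd hsX w (n := 2 * n) (by omega) (fun x => ?_) ?_ (fun a ha => ?_)
    (s := sW) (fun x => ?_) hsj' ?_
  · rw [theta_iter hp cs hw', eps_pow_two hε, one_smul, mul_comm, pow_mul, hw, one_pow, Module.End.one_apply]
  · have h1 : ((p ^ e : ℕ) : ℤ) ^ (2 * n) = Q ^ (2 * n) := by rw [hQ, mul_pow, eps_pow_two hε, one_mul]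
    rw [h1]
    refine hrQ.trans ⟨Q ^ n + 1, ?_⟩
    ring
  · obtain ⟨L, hL⟩ := hreg a ha
    refine ⟨L, fun h1 => ?_⟩
    rw [Lq_eq hp cs hε hw' hw _ hQ] at h1
    rcases hrZ.dvd_mul.1 h1 with h2 | h2
    · have h3 : (r : ℤ) ∣ 2 := by
        have h4 := dvd_sub h2 hrQ
        have h5 : Q ^ n + 1 - (Q ^ n - 1) = 2 := by ring
        rwa [h5] at h4
      have h4 : r ∣ 2 := by exact_mod_cast h3
      exact hr2 ((Nat.prime_dvd_prime_iff_eq hrp Nat.prime_two).1 h4)
    · exact hL h2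
  · rw [hw', hw', map_zsmul, hcomm]
  · intro t ht hθ hts hfix
    have hmc := isMC_cX hp ht
    refine cX_inj hp ht (one_mem _) fun i => ?_
    rw [cX_one]
    obtain ⟨x, hx⟩ : ∃ x : Fin l → ℤ, x = sr i := ⟨_, rfl⟩
    rw [← hx]
    obtain ⟨y, hy⟩ : ∃ y, y = ∑ t : Fin m, c t • (rep cs hp.isCartan w1 ^ (t : ℕ)) x := ⟨_, rfl⟩
    have h0 := hmc.ne_zero x
    have h1 : cX hp t y = cX hp t x ^ (∑ t : Fin m, c t * Q ^ (t : ℕ)) := by
      rw [hy, hmc.sum]
      have h2 : ∀ s : Finset (Fin m), cX hp t x ^ (∑ t ∈ s, c t * Q ^ (t : ℕ)) =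
          ∏ t' ∈ s, cX hp t (c t' • (rep cs hp.isCartan w1 ^ (t' : ℕ)) x) := by
        intro s
        classical
        induction s using Finset.induction_on with
        | empty => simp
        | insert a s ha ih =>
          rw [Finset.sum_insert ha, Finset.prod_insert ha, zpow_add₀ h0, ih, hmc.zsmul,
            cX_w1 hp cs hε hw' hQ ht hθ, ← zpow_mul, mul_comm (Q ^ _)]
      exact (h2 Finset.univ).symm
    have h2 : ∀ i, cX hp t ((rep cs hp.isCartan sW ^ i) y) = cX hp t y := by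
      intro i
      induction i with
      | zero => rw [pow_zero, Module.End.one_apply]
      | succ i ih => rw [pow_succ', Module.End.mul_apply, hfix, ih]
    have h3 : cX hp t y ^ r ^ j = 1 := by
      have h4 := hmc.sum (Finset.range (r ^ j)) (fun i => (rep cs hp.isCartan sW ^ i) y)
      rw [hy, hsum, ← hy, hmc.zero, Finset.prod_congr rfl (fun i _ => h2 i), Finset.prod_const,
        Finset.card_range] at h4
      exact h4.symm
    have h4 : cX hp t x ^ ((∑ t : Fin m, c t * Q ^ (t : ℕ)) * (r ^ j : ℕ)) = 1 := by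
      rw [zpow_mul, ← h1, zpow_natCast, h3]
    have h5 : cX hp t x ^ (s' : ℤ) = 1 := by
      rw [zpow_natCast, ← cX_pow hp ht, hts, cX_one]
    have hco : IsCoprime ((∑ t : Fin m, c t * Q ^ (t : ℕ)) * (r ^ j : ℕ)) (s' : ℤ) := by
      rw [isCoprime_comm, hsZ.irreducible.coprime_iff_not_dvd]
      intro h
      rcases hsZ.dvd_mul.1 h with h | h
      · exact hcs h
      · rw [Nat.cast_pow] at h
        have h6 := hsZ.dvd_of_dvd_pow h
        exact hrs ((Nat.prime_dvd_prime_iff_eq hsp hrp).1 (Int.natCast_dvd_natCast.1 h6)).symm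
    obtain ⟨a, b, hab⟩ := hco
    calc cX hp t x = cX hp t x ^ (1 : ℤ) := (zpow_one _).symm
      _ = 1 := by
        rw [← hab, zpow_add₀ h0, mul_comm a, mul_comm b, zpow_mul, h4, zpow_mul, h5, one_zpow, one_zpow, one_mul]

/-- **Bad primes, second version.** -/
theorem Setup.not_cond_count [IsAlgClosed k'] [Finite W] [Finite X] {π : Set ℕ} {r s' : ℕ} (hrp : r.Prime)
    (hsp : s'.Prime) (hr : r ∈ π) (hs' : s' ∈ π) (hrs : r ≠ s') (hrc : r ≠ p) (hsc : s' ≠ p) (hrd : ¬ r ∣ d)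
    (hsd : ¬ s' ∣ d) (hr2 : r ≠ 2) (hs2 : s' ≠ 2)
    {ε Q : ℤ} (hε : ε = 1 ∨ ε = -1) (hQ : Q = ε * (p ^ e : ℕ))
    (hT : HasTor hp cs g ε (1 : W)) (hrQ : (r : ℤ) ∣ Q - 1) (hsQ : (s' : ℤ) ∣ Q - 1) {sW : W}
    {j : ℕ} (hsj : rep cs hp.isCartan sW ^ r ^ j = 1) (L : (Fin l → ℤ) →+ ℤ)
    (hL : ∃ a, ¬ (s' : ℤ) ∣ L a)
    (hcard : {a | IsRoot cs hp.isCartan a ∧ (s' : ℤ) ∣ L a}.ncard <
      {a | IsRoot cs hp.isCartan a ∧ ∑ i ∈ Finset.range (r ^ j), (rep cs hp.isCartan sW ^ i) a = 0}.ncard) :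
    ¬ Cond π X := by
  intro hc
  obtain ⟨w, hw'⟩ := hT
  have hpp : p.Prime := Fact.out
  have hsZ := Nat.prime_iff_prime_int.1 hsp
  have hQr := not_dvd_Q hpp hrp hrc hε hQ
  have hQs := not_dvd_Q hpp hsp hsc hε hQ
  have hw : rep cs hp.isCartan (1 : W) ^ 1 = 1 := by rw [map_one, one_pow]
  have hsj' : sW ^ r ^ j = 1 := rep_injective cs hp.isCartan (by rw [map_pow, hsj, map_one])
  have hrZ := Nat.prime_iff_prime_int.1 hrp
  have hpow : ∀ {r : ℕ}, (r : ℤ) ∣ Q - 1 → (r : ℤ) ∣ ((p ^ e : ℕ) : ℤ) ^ (2 * 1) - 1 := by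
    intro r h
    have h1 : ((p ^ e : ℕ) : ℤ) ^ (2 * 1) = Q ^ (2 * 1) := by rw [hQ, mul_pow, eps_pow_two hε, one_mul]
    rw [h1]
    exact h.trans ⟨Q + 1, by ring⟩
  have hLq : ∀ (L : (Fin l → ℤ) →+ ℤ) (a : Fin l → ℤ), Lq L (theta hp cs w g) (p ^ e) (2 * 1) a = (Q + 1) * (Q * L a) := by
    intro L a
    rw [Lq_eq hp cs hε hw' hw _ hQ, Finset.sum_range_one, pow_zero, Module.End.one_apply, Nat.sub_zero, pow_one]
  have hiff : ∀ {r : ℕ}, r.Prime → r ≠ 2 → ¬ (r : ℤ) ∣ Q → (r : ℤ) ∣ Q - 1 → ∀ (L : (Fin l → ℤ) →+ ℤ) (a : Fin l → ℤ),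
      (r : ℤ) ∣ Lq L (theta hp cs w g) (p ^ e) (2 * 1) a → (r : ℤ) ∣ L a := by
    intro r hr hr2 hrQ0 hrQ L a h
    have hrZ := Nat.prime_iff_prime_int.1 hr
    rw [hLq] at h
    rcases hrZ.dvd_mul.1 h with h2 | h2
    · exfalso
      have h3 : (r : ℤ) ∣ 2 := by
        have h4 := dvd_sub h2 hrQ
        have h5 : Q + 1 - (Q - 1) = 2 := by ring
        rwa [h5] at h4
      have h4 : r ∣ 2 := by exact_mod_cast h3
      exact hr2 ((Nat.prime_dvd_prime_iff_eq hr Nat.prime_two).1 h4)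
    · exact (hrZ.dvd_mul.1 h2).resolve_left hrQ0
  have key := S.ncard_le_of_cond hp cs hrp hsp hr hs' hrs hrc hsc hrd hsd w (n := 2 * 1) (by omega) (fun x => by
      rw [theta_iter hp cs hw', eps_pow_two hε, one_smul, mul_comm, pow_mul, hw, one_pow, Module.End.one_apply])
    (hpow hrQ) (hpow hsQ) (fun a ha => by
      obtain ⟨i, hi⟩ := exists_coord hp cs ha hrp
      exact ⟨coordF l i, fun h => hi (hiff hrp hr2 hQr hrQ _ _ h)⟩) (s := sW) (fun x => by
      rw [hw', hw', map_zsmul, map_one, Module.End.one_apply, Module.End.one_apply]) hsj' L (by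
      obtain ⟨a, ha⟩ := hL
      exact ⟨a, fun h => ha (hiff hsp hs2 hQs hsQ _ _ h)⟩) hc
  have h1 : {a | IsRoot cs hp.isCartan a ∧ (s' : ℤ) ∣ Lq L (theta hp cs w g) (p ^ e) (2 * 1) a} ⊆
      {a | IsRoot cs hp.isCartan a ∧ (s' : ℤ) ∣ L a} := fun a ha => ⟨ha.1, hiff hsp hs2 hQs hsQ _ _ ha.2⟩
  have h2 := Set.ncard_le_ncard h1 ((finite_roots hp cs).subset fun a ha => ha.1)
  have h3 : {a | IsRoot cs hp.isCartan a ∧ ∑ i ∈ Finset.range (r ^ j), rep cs hp.isCartan (sW ^ i) a = 0} =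
      {a | IsRoot cs hp.isCartan a ∧ ∑ i ∈ Finset.range (r ^ j), (rep cs hp.isCartan sW ^ i) a = 0} := by
    ext a
    simp only [map_pow]
  rw [h3] at key
  omega

end Cfsg.Agent.H630.Exc
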