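import Cfsg.Agent.H630.ExcJ
import Cfsg.Agent.H630.ExcE

/-!
# Torsion of twisted tori given by eigenvectors; polynomials on lists (helper630)

* `exists_torsionL` : the element `ζ ^ L` for `L (θ x) ≡ q L(x)`;
* `RegT`, `Setup.pow_eq_oneT`, `Setup.not_cond_BT` : theorems A and B for general torsion elements;
* `polyL`, `itL` : polynomials in an endomorphism on lists; `regR_of_ck`.
-/

set_option autoImplicit false
set_option linter.unusedSectionVars false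

namespace Cfsg.Agent.H630.Exc

open CoxeterSystem Cfsg Cfsg.Lie Cfsg.Lie.ChevalleyDatum
open Cfsg.Agent.ChevalleyStructure Cfsg.Agent.ChevalleyStructure.Elts Cfsg.Agent.ChevalleyStructure.CoxeterGeom
  Cfsg.Agent.ChevalleyStructure.CoxeterGeomTypes Cfsg.Agent.ChevalleyStructure.NPerm
open Cfsg.Agent.Tits.Roots Cfsg.Agent.Tits.Core Cfsg.Agent.Nodes Cfsg.Agent.Nodes.Reps Cfsg.Agent.Nodes.BNOf
  Cfsg.Agent.Nodes.RGDChev Cfsg.Agent.Nodes.Bruhat Cfsg.Agent.Nodes.SubComb Cfsg.Agent.Nodes.Coroot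
open Cfsg.Agent.KFacts.RgdField Cfsg.Agent.KFacts.RgdChevCoord Cfsg.Agent.BpExc.TorCent Cfsg.Agent.BpExc.TorChev
open Cfsg.Agent.GpExc.Field Cfsg.Agent.BpExc.Tow Cfsg.Agent.BpExc.TowChev Cfsg.Agent.BpExc.Fr
  Cfsg.Agent.BpExc.LangFr Cfsg.Agent.LangThm Cfsg.Agent.BpExc Cfsg.Agent.H129.TorusChar Cfsg.Agent.H129.TorusMain
open Cfsg.Agent.H129.TorAct (cX_tau tau_mem exists_theta)
open Cfsg.Agent.H630.NH Cfsg.Agent.H130.WeylCk Cfsg.Agent.H130.PolyL

universe u v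

section T

variable {D : ChevalleyDatum} {l : ℕ} {M : CoxeterMatrix (Fin l)} (hp : IsType D l M) {k : Type u} [Field k]
  {W : Type*} [Group W] (cs : CoxeterSystem M W)

/-- **Torsion elements from eigenvectors.** -/
theorem exists_torsionL [IsAlgClosed k] {d' : ℕ} {B' : Fin l → Fin l → ℤ} (hB : InvC D l d' B') (hd' : d' ≠ 0)
    {θ : (Fin l → ℤ) →+ (Fin l → ℤ)} {q : ℕ} {r : ℕ} (hr : (r : k) ≠ 0) (L : (Fin l → ℤ) →+ ℤ)
    (hL : ∀ x, (r : ℤ) ∣ L (θ x) - q * L x) :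
    ∃ t ∈ TT D k, (∀ x, cX hp t (θ x) = cX hp t x ^ q) ∧ t ^ r = 1 ∧ ∀ x, cX hp t x = 1 ↔ (r : ℤ) ∣ L x := by
  have hr0 : NeZero (r : k) := ⟨hr⟩
  obtain ⟨ζ, hζ⟩ := HasEnoughRootsOfUnity.exists_primitiveRoot k r
  have hz0 : ζ ≠ 0 := by
    rintro rfl
    have h1 := hζ.pow_eq_one
    have h2 : r ≠ 0 := by rintro rfl; exact hr Nat.cast_zero
    rw [zero_pow h2] at h1
    exact zero_ne_one h1
  have hφ : IsMC (fun x : Fin l → ℤ => ζ ^ L x) := by
    refine ⟨?_, fun x y => ?_⟩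
    · show ζ ^ L 0 = 1
      rw [map_zero, zpow_zero]
    · show ζ ^ L (x + y) = _
      rw [map_add, zpow_add₀ hz0]
  obtain ⟨t, ht, hc⟩ := exists_cX hp hB hd' hφ (fun i => IsAlgClosed.exists_pow_nat_eq _ (Nat.pos_of_ne_zero hd'))
  refine ⟨t, ht, fun x => ?_, ?_, fun x => ?_⟩
  · rw [hc, hc, ← zpow_natCast, ← zpow_mul]
    have h2 : ζ ^ (L (θ x) - q * L x) = 1 := (hζ.zpow_eq_one_iff_dvd _).2 (hL x)
    rw [zpow_sub₀ hz0, div_eq_one_iff_eq (zpow_ne_zero _ hz0)] at h2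
    rw [h2, mul_comm]
  · refine cX_inj hp (pow_mem ht r) (one_mem _) fun i => ?_
    rw [cX_pow hp ht, cX_one, hc, ← zpow_natCast, ← zpow_mul, mul_comm, zpow_mul, zpow_natCast, hζ.pow_eq_one, one_zpow]
  · rw [hc]
    exact hζ.zpow_eq_one_iff_dvd _

/-- every root is nontrivial on the elements of exponent `r` of the torus -/
def RegT (k : Type u) [Field k] (hp : IsType D l M) (cs : CoxeterSystem M W) (w : W)
    (g : (Fin l → ℤ) ≃+ (Fin l → ℤ)) (q r : ℕ) : Prop :=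
  ∀ a, IsRoot cs hp.isCartan a → ∃ t ∈ TT D k, (∀ x, cX hp t (theta hp cs w g x) = cX hp t x ^ q) ∧
    t ^ r = 1 ∧ cX hp t a ≠ 1

variable {p e : ℕ} [Fact p.Prime] [CharP k p] {σ : MulAut ↥(D.group k)} {g : (Fin l → ℤ) ≃+ (Fin l → ℤ)}
  {X : Type v} [Group X] {e0 : X →* ↥(D.group k)} {d : ℕ} (S : Setup hp cs p e σ g e0 d)

include S

/-- the elements of `X` -/
theorem Setup.exists_of_torsion [IsAlgClosed k] [Finite W] {hN : NSys M (TT D k) (nc hp k)} {w : W} {n' z : ↥(D.group k)}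
    (hn' : Rp cs hN w n') (hz : n' = z⁻¹ * σ z) {r : ℕ} (hr : r.Prime) (hrd : ¬ r ∣ d) {t : ↥(D.group k)}
    (ht : t ∈ TT D k) (h1 : ∀ x, cX hp t (theta hp cs w g x) = cX hp t x ^ p ^ e) {j : ℕ} (h2 : t ^ r ^ j = 1) :
    ∃ x : X, z⁻¹ * e0 x * z = t ∧ x ^ r ^ j = 1 := by
  obtain ⟨x, hx⟩ := S.exists_of_tau hp cs hz ((tau_iff hp cs S.lf S.frob S.fr hn' ht).2 h1) hr hrd ⟨j, h2⟩
  refine ⟨x, hx, ?_⟩
  apply S.inj
  rw [map_pow, map_one]
  have h1 : e0 x = z * t * z⁻¹ := by rw [← hx]; group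
  rw [h1, conj_pow, h2]; group

/-- **Theorem A.** -/
theorem Setup.pow_eq_oneT [IsAlgClosed k] [Finite W] [Finite X] {π : Set ℕ} {r s : ℕ} (hrp : r.Prime) (hsp : s.Prime)
    (hr : r ∈ π) (hs : s ∈ π) (hrs : r ≠ s) (hrd : ¬ r ∣ d) (w : W) (hreg : RegT k hp cs w g (p ^ e) r)
    {N : ℕ} (hN : ∀ t ∈ TT D k, (∀ x, cX hp t (theta hp cs w g x) = cX hp t x ^ p ^ e) → t ^ N = 1)
    (hc : Cond π X) {y : X} (hy : ∃ m, orderOf y = s ^ m) : y ^ N = 1 := by
  have : Fact r.Prime := ⟨hrp⟩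
  have hNs := S.nsys hp cs
  obtain ⟨n', hn'⟩ := exists_rp cs hNs w
  obtain ⟨z, hz⟩ := lang_all hp cs S.pos S.frob S.fr 1 n'
  rw [map_one, one_mul] at hz
  refine S.pow_eq_one_of hp cs hrp hsp hr hs hrs hn' hz (tXr hp S.inj z r) ?_ (fun x hx => hx.1) ?_ hN hc hy
  · rintro ⟨x, hx⟩
    exact ⟨1, Subtype.ext (by rw [pow_one]; exact hx.2)⟩
  · intro a ha
    obtain ⟨t, ht, h1, h2, h3⟩ := hreg a ha
    obtain ⟨x, hx, hx1⟩ := S.exists_of_torsion hp cs hn' hz hrp hrd ht h1 (j := 1) (by rw [pow_one]; exact h2)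
    rw [pow_one] at hx1
    exact ⟨x, ⟨by rw [mem_tX, hx]; exact ht, hx1⟩, by rw [hx]; exact h3⟩

/-- **Theorem B.** -/
theorem Setup.not_cond_BT [IsAlgClosed k] [Finite W] [Finite X] {π : Set ℕ} {r s' : ℕ} (hrp : r.Prime)
    (hsp : s'.Prime) (hr : r ∈ π) (hs' : s' ∈ π) (hrs : r ≠ s') (hrd : ¬ r ∣ d) (hsX : s' ∣ Nat.card X) (w : W)
    {n : ℕ} (hn0 : 0 < n) (hθ : ∀ x, (theta hp cs w g)^[n] x = x) (hreg : RegT k hp cs w g (p ^ e) r)
    {s : W} (hs : ∀ x, rep cs hp.isCartan s (theta hp cs w g x) = theta hp cs w g (rep cs hp.isCartan s x))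
    {j : ℕ} (hsr : s ^ r ^ j = 1)
    (hfree : ∀ t ∈ TT D k, (∀ x, cX hp t (theta hp cs w g x) = cX hp t x ^ p ^ e) → t ^ s' = 1 →
      (∀ x, cX hp t (rep cs hp.isCartan s x) = cX hp t x) → t = 1) : ¬ Cond π X := by
  have : Fact r.Prime := ⟨hrp⟩
  have : Fact s'.Prime := ⟨hsp⟩
  have hNs := S.nsys hp cs
  obtain ⟨n', hn'⟩ := exists_rp cs hNs w
  obtain ⟨z, hz⟩ := lang_all hp cs S.pos S.frob S.fr 1 n'
  rw [map_one, one_mul] at hz
  obtain ⟨x, hx, hxs⟩ := S.exists_rep hp cs hn0 hθ hn' hz hs hrp hrd hsr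
  refine not_cond_of_centralizer hr hs' hrs hsX _ (isPGroup_E hp cs S.inj hx hxs) ?_
  intro y hy hyc
  have hcs : (z⁻¹ * e0 y * z) ^ s' = 1 := by
    rw [S.conj_pow_eq hp cs, ← hy, pow_orderOf_eq_one, map_one]
    group
  have hyT : z⁻¹ * e0 y * z ∈ TT D k := by
    refine mem_TT_of_pow hp cs S.lf p hNs (A := (fun x : X => z⁻¹ * e0 x * z) '' (tXr hp S.inj z r : Set X))
      ((Set.toFinite _).image _) ?_ ?_ (r := r) ?_ hsp.pos ((Nat.coprime_primes hsp hrp).2 (Ne.symm hrs)) ?_ hcs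
    · rintro _ ⟨x, hx, rfl⟩
      exact hx.1
    · intro a ha
      obtain ⟨t, ht, h1, h2, h3⟩ := hreg a ha
      obtain ⟨x, hx, hx1⟩ := S.exists_of_torsion hp cs hn' hz hrp hrd ht h1 (j := 1) (by rw [pow_one]; exact h2)
      rw [pow_one] at hx1
      refine ⟨_, ⟨x, ⟨by rw [mem_tX, hx]; exact ht, hx1⟩, rfl⟩, ?_⟩
      show cX hp (z⁻¹ * e0 x * z) a ≠ 1
      rw [hx]; exact h3
    · rintro _ ⟨x, hx, rfl⟩
      show (z⁻¹ * e0 x * z) ^ r = 1
      rw [S.conj_pow_eq hp cs, hx.2, map_one]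
      group
    · rintro _ ⟨x, hx, rfl⟩
      have h2 := hyc x (Subgroup.mem_sup_right hx)
      calc z⁻¹ * e0 y * z * (z⁻¹ * e0 x * z) = z⁻¹ * (e0 (y * x)) * z := by rw [map_mul]; group
        _ = z⁻¹ * (e0 (x * y)) * z := by rw [h2]
        _ = _ := by rw [map_mul]; group
  have h1 : z⁻¹ * e0 y * z = 1 := by
    refine hfree _ hyT ((tau_iff hp cs S.lf S.frob S.fr hn' hyT).1 (S.tau hp cs hz y)) hcs ?_
    refine fix_of_rp hp cs S.lf p hxs hyT ?_
    have h2 := hyc x (Subgroup.mem_sup_left (Subgroup.mem_zpowers x))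
    calc z⁻¹ * e0 x * z * (z⁻¹ * e0 y * z) = z⁻¹ * (e0 (x * y)) * z := by rw [map_mul]; group
      _ = z⁻¹ * (e0 (y * x)) * z := by rw [h2]
      _ = _ := by rw [map_mul]; group
  have h4 : e0 y = 1 := by
    have : e0 y = z * (z⁻¹ * e0 y * z) * z⁻¹ := by group
    rw [this, h1]; group
  have h5 : y = 1 := S.inj (by rw [h4, map_one])
  rw [h5, orderOf_one] at hy
  exact hsp.one_lt.ne hy

end T

/-! ### polynomials on lists -/

section Lists

variable {l : ℕ}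

/-- polynomials in an endomorphism, on lists -/
def polyL (l : ℕ) (m : List (List ℤ)) : List ℤ → List ℤ → List ℤ
  | [], _ => List.replicate l 0
  | c :: cs, v => addV (v.map (fun x => c * x)) (polyL l m cs (lc l v m))

/-- iterates, on lists -/
def itL (l : ℕ) (m : List (List ℤ)) : ℕ → List ℤ → List ℤ
  | 0, v => v
  | n + 1, v => itL l m n (lc l v m)

theorem length_polyL {m : List (List ℤ)} (hb : ∀ b ∈ m, b.length = l) : ∀ (cs v : List ℤ), v.length = l →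
    (polyL l m cs v).length = l
  | [], v, _ => by rw [polyL, List.length_replicate]
  | c :: cs, v, hv => by
    have h1 := length_polyL hb cs (lc l v m) (length_lc _ _ hb)
    rw [polyL, length_addV _ _ (by rw [List.length_map, hv, h1]), h1]

open Polynomial in
theorem toFn_polyL {R : Module.End ℤ (Fin l → ℤ)} {m : List (List ℤ)} (hm : m.length = l) (hb : ∀ b ∈ m, b.length = l)
    (h : ∀ i : Fin l, R (Pi.single i 1) = toFn l (m.getD i [])) : ∀ (cs v : List ℤ), v.length = l →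
    toFn l (polyL l m cs v) = aeval R (ofL cs) (toFn l v)
  | [], v, _ => by rw [polyL, toFn_replicate, ofL, map_zero, LinearMap.zero_apply]
  | c :: cs, v, hv => by
    have h1 := length_polyL hb cs (lc l v m) (length_lc _ _ hb)
    rw [polyL, toFn_addV _ _ (by rw [List.length_map, hv]) h1, toFn_smul,
      toFn_polyL hm hb h cs _ (length_lc _ _ hb), toFn_lin hm hb h hv, ofL, map_add, mul_comm X, map_mul, aeval_X,
      LinearMap.add_apply, Module.End.mul_apply, aeval_C]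
    rfl

theorem toFn_itL {R : Module.End ℤ (Fin l → ℤ)} {m : List (List ℤ)} (hm : m.length = l) (hb : ∀ b ∈ m, b.length = l)
    (h : ∀ i : Fin l, R (Pi.single i 1) = toFn l (m.getD i [])) : ∀ (n : ℕ) (v : List ℤ), v.length = l →
    (itL l m n v).length = l ∧ toFn l (itL l m n v) = (R ^ n) (toFn l v)
  | 0, v, hv => ⟨hv, by rw [itL, pow_zero, Module.End.one_apply]⟩
  | n + 1, v, hv => by
    obtain ⟨h1, h2⟩ := toFn_itL hm hb h n (lc l v m) (length_lc _ _ hb)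
    exact ⟨h1, by rw [itL, h2, toFn_lin hm hb h hv, pow_succ, Module.End.mul_apply]⟩

theorem end_ext {R R' : Module.End ℤ (Fin l → ℤ)} (h : ∀ i : Fin l, R (toFn l (bas l i)) = R' (toFn l (bas l i))) :
    R = R' := by
  apply LinearMap.pi_ext'
  intro i
  apply LinearMap.ext_ring
  have := h i
  rw [toFn_bas] at this
  exact this

/-- the check: `R` with the matrix `m` is regular modulo the primes not dividing `N0` -/
def RegRCk (D : ChevalleyDatum) (l : ℕ) (Bl : List (List ℤ)) (n : ℕ) (m : List (List ℤ))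
    (K : List (List ℤ × List ℤ × List ℤ × ℤ)) (N0 : ℤ) : Prop :=
  (m.length = l ∧ Bl.length = l ∧ (∀ b ∈ m, b.length = l) ∧ (∀ b ∈ Bl, b.length = l)) ∧
  (∀ v ∈ rootL D l, gl l m (lc l v Bl) n v [] ∈ K.map Prod.fst) ∧
  (∀ t ∈ K, eqL (addL (mulL t.2.1 t.1) (mulL t.2.2.1 (cycL n))) [t.2.2.2] = true ∧ t.2.2.2 ∣ N0)

instance decRegRCk (D : ChevalleyDatum) (l : ℕ) (Bl : List (List ℤ)) (n : ℕ)
    (m : List (List ℤ)) (K : List (List ℤ × List ℤ × List ℤ × ℤ)) (N0 : ℤ) :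
    Decidable (RegRCk D l Bl n m K N0) := by
  unfold RegRCk
  infer_instance

/-- **Regularity from a table.** -/
theorem regR_of_ck {D : ChevalleyDatum} {M : CoxeterMatrix (Fin l)} (hp : IsType D l M)
    {W : Type*} [Group W] (cs : CoxeterSystem M W) {R : Module.End ℤ (Fin l → ℤ)} {Bl : List (List ℤ)} {n : ℕ}
    {m : List (List ℤ)} (hm : ∀ i : Fin l, R (Pi.single i 1) = toFn l (m.getD i []))
    {K : List (List ℤ × List ℤ × List ℤ × ℤ)} {N0 : ℤ} (H : RegRCk D l Bl n m K N0)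
    (hn : n ∈ H130.PolyL.idx) {r : ℕ} (hr : r.Prime) {Q : ℤ} (hQ : ¬ (r : ℤ) ∣ Q) (hrn : orderOf (Q : ZMod r) = n)
    (hrN : ¬ (r : ℤ) ∣ N0) (a : Fin l → ℤ) (ha : IsRoot cs hp.isCartan a) : ∃ L : (Fin l → ℤ) →+ ℤ,
      ¬ (r : ℤ) ∣ ∑ j ∈ Finset.range n, Q ^ (n - j) * L ((R ^ j) a) := by
  obtain ⟨⟨h1, h2, h3, h4⟩, h6, h7⟩ := H
  have hrZ := Nat.prime_iff_prime_int.1 hr
  obtain ⟨v, hv, hvl, rfl⟩ := exists_rootL hp cs ha
  have hbl : (lc l v Bl).length = l := length_lc _ _ h4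
  refine ⟨(fn l (lc l v Bl)).toAddMonoidHom, fun h => ?_⟩
  have h8 := eval_gl h1 h3 hm hbl Q n v [] hvl
  rw [ofL, Polynomial.eval_zero, mul_zero, add_zero] at h8
  have hn0 : 0 < n := by rw [← hrn]; exact ord_pos hr hQ
  have h9 : ∑ j ∈ Finset.range n, Q ^ (n - j) *
      (fn l (lc l v Bl)).toAddMonoidHom ((R ^ j) (toFn l v)) =
      Q * (ofL (gl l m (lc l v Bl) n v [])).eval Q := by
    rw [h8, Finset.mul_sum]
    refine Finset.sum_congr rfl fun j hj => ?_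
    rw [Finset.mem_range] at hj
    have h10 : Q ^ (n - j) = Q * Q ^ (n - 1 - j) := by
      rw [← pow_succ']
      congr 1
      omega
    rw [h10, mul_assoc]
    rfl
  rw [h9] at h
  have h10 := (hrZ.dvd_mul.1 h).resolve_left hQ
  obtain ⟨t, ht, hte⟩ := List.mem_map.1 (h6 v hv)
  obtain ⟨h11, h12⟩ := h7 t ht
  have h13 := congrArg (fun f => f.eval Q) (ofL_eq_of_eqL h11)
  rw [← hte] at h10
  simp only [ofL_addL, ofL_mulL, Polynomial.eval_add, Polynomial.eval_mul, ofL, Polynomial.eval_C,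
    mul_zero, add_zero, ← cyclotomic_eq n hn] at h13
  have h14 := dvd_cyclotomic hr hQ
  rw [hrn] at h14
  apply hrN
  refine dvd_trans ?_ h12
  rw [← h13]
  exact dvd_add (h10.mul_left _) (h14.mul_left _)

end Lists

end Cfsg.Agent.H630.Exc
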