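import Cfsg.Agent.H630.ExcH

/-!
# Tables for the bad primes (helper630; generated)
-/

set_option autoImplicit false

namespace Cfsg.Agent.H630.Exc

open Cfsg.Agent.H130.WeylCk Cfsg.Agent.H130.PolyL Cfsg.Agent.H130.WeylTab
  Cfsg.Agent.ChevalleyStructure.CoxeterGeomTypes

theorem sum_E8_three : SumCk 8 alE8 [0, 1, 2, 3, 4, 5, 6, 7] 10 3
  [[0, 1, 1, 2, 1, 1, 1, 0], [1, 1, 2, 3, 2, 2, 1, 1], [1, 1, 1, 2, 2, 1, 1, 1], [-1, -1, -1, -2, -1, -1, -1, -1], [0, 0, -1, -1, -1, 0, 0, 0], [0, -1, 0, -1, -1, -1, 0, 0], [-1, 0, -1, -1, -1, -1, -1, 0], [0, -1, -1, -1, -1, -1, -1, -1]] := by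
  decide +kernel

theorem sum_E8_five : SumCk 8 alE8 [0, 1, 2, 3, 4, 5, 6, 7] 6 5
  [[1, 1, 2, 2, 2, 1, 1, 1], [1, 1, 2, 3, 2, 1, 1, 0], [0, 1, 1, 2, 1, 1, 0, 0], [0, 0, -1, -1, 0, 0, 0, 0], [0, -1, 0, -1, -1, 0, 0, 0], [-1, 0, -1, -1, -1, -1, 0, 0], [0, -1, -1, -1, -1, -1, -1, 0], [-1, -1, -1, -2, -1, -1, -1, -1]] := by
  decide +kernel

theorem sum_E8_five4 : SumCk 8 alE8 [3, 6, 5, 0, 7, 1, 2, 4, 0, 3, 4, 2, 5, 4] 4 5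
  [[1, 2, 3, 4, 3, 2, 1, 0], [0, 1, 1, 2, 2, 1, 1, 1], [-1, -1, -2, -2, -2, -1, -1, 0], [1, 1, 1, 1, 1, 1, 1, 0], [0, -1, 0, 0, 0, 0, 0, 0], [-2, -2, -3, -5, -4, -3, -2, -1], [2, 2, 3, 4, 3, 2, 1, 1], [-1, -1, -2, -2, -1, -1, -1, -1]] := by
  decide +kernel

theorem sum_E6_three : SumCk 6 alE6 [0, 1, 2, 3, 4, 5] 4 3
  [[0, 1, 1, 1, 1, 1], [0, 0, 1, 1, 1, 0], [0, 0, 0, 1, 0, 0], [0, 0, -1, -1, 0, 0], [0, -1, 0, -1, -1, 0], [-1, 0, -1, -1, -1, -1]] := by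
  decide +kernel

theorem sum_F4_three : SumCk 4 alF4 [0, 1, 2, 3] 4 3
  [[0, 1, 1, 0], [1, 1, 1, 1], [-2, -2, -2, -1], [0, -2, -1, -1]] := by
  decide +kernel

theorem sum_G2_three : SumCk 2 alG2 [0, 1] 2 3
  [[1, 1], [-3, -2]] := by
  decide +kernel

theorem count_E8_seven : CountCk Cfsg.Lie.chevE8 8 alE8 [0, 2, 3, 4, 5, 6] 1 7
  [[0, 0, 1, 0, 0, 0, 0, 0], [1, 1, 1, 1, 0, 0, 0, 0], [0, 0, 0, 1, 0, 0, 0, 0], [0, 0, 0, 0, 1, 0, 0, 0], [0, 0, 0, 0, 0, 1, 0, 0], [0, 0, 0, 0, 0, 0, 1, 0], [-1, 0, -1, -1, -1, -1, -1, 0], [1, 0, 1, 1, 1, 1, 1, 1]]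
  [0, 0, 0, 1, 0, 0, 0, 0] 7 := by
  decide +kernel

theorem count_E7_three : CountCk Cfsg.Lie.chevE7 7 alE7 [0, 1, 2, 3, 4, 5, 6] 6 3
  [[0, 0, 1, 1, 1, 0, 0], [1, 1, 1, 2, 2, 1, 1], [0, 1, 0, 1, 1, 1, 0], [0, -1, 0, -1, -1, 0, 0], [-1, 0, -1, -1, -1, -1, 0], [0, -1, -1, -1, -1, -1, -1], [0, 0, 0, -1, 0, 0, 0]]
  [1, 0, 0, 0, 0, 0, 0] 3 := by
  decide +kernel

theorem count_E7_five : CountCk Cfsg.Lie.chevE7 7 alE7 [0, 2, 3, 4] 1 5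
  [[0, 0, 1, 0, 0, 0, 0], [1, 1, 1, 1, 0, 0, 0], [0, 0, 0, 1, 0, 0, 0], [0, 0, 0, 0, 1, 0, 0], [-1, 0, -1, -1, -1, 0, 0], [1, 0, 1, 1, 1, 1, 0], [0, 0, 0, 0, 0, 0, 1]]
  [1, 0, 0, 1, 0, 0, 0] 7 := by
  decide +kernel

theorem count_E7_seven : CountCk Cfsg.Lie.chevE7 7 alE7 [0, 2, 3, 4, 5, 6] 1 7
  [[0, 0, 1, 0, 0, 0, 0], [1, 1, 1, 1, 0, 0, 0], [0, 0, 0, 1, 0, 0, 0], [0, 0, 0, 0, 1, 0, 0], [0, 0, 0, 0, 0, 1, 0], [0, 0, 0, 0, 0, 0, 1], [-1, 0, -1, -1, -1, -1, -1]]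
  [0, 0, 0, 1, 0, 0, 0] 5 := by
  decide +kernel

theorem count_E6_five : CountCk Cfsg.Lie.chevE6 6 alE6 [0, 2, 3, 4] 1 5
  [[0, 0, 1, 0, 0, 0], [1, 1, 1, 1, 0, 0], [0, 0, 0, 1, 0, 0], [0, 0, 0, 0, 1, 0], [-1, 0, -1, -1, -1, 0], [1, 0, 1, 1, 1, 1]]
  [0, 0, 0, 1, 0, 0] 4 := by
  decide +kernel

theorem neg_E8 : ∀ i : Fin 8, acn alE8 ([0, 1, 2, 3, 4, 5, 6, 7] : List (Fin 8)) 15 (bas 8 i) = (bas 8 i).map (fun x => -1 * x) := by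
  decide +kernel

theorem neg_E7 : ∀ i : Fin 7, acn alE7 ([0, 1, 2, 3, 4, 5, 6] : List (Fin 7)) 9 (bas 7 i) = (bas 7 i).map (fun x => -1 * x) := by
  decide +kernel

theorem neg_F4 : ∀ i : Fin 4, acn alF4 ([0, 1, 2, 3] : List (Fin 4)) 6 (bas 4 i) = (bas 4 i).map (fun x => -1 * x) := by
  decide +kernel

theorem neg_G2 : ∀ i : Fin 2, acn alG2 ([0, 1] : List (Fin 2)) 3 (bas 2 i) = (bas 2 i).map (fun x => -1 * x) := by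
  decide +kernel

end Cfsg.Agent.H630.Exc
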