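import Cfsg.Agent.H630.KnownLie
import Cfsg.Agent.H669.NHAlt
import Cfsg.Agent.OddHalf.Known
import Cfsg.Agent.H759.NH.SuzTits

/-!
# Nilpotent Hall subgroups: the rows of the known simple groups, the sporadic groups as an input (S4597, S4599, S4600)
-/

set_option autoImplicit false

namespace Cfsg.Agent.H630.NH

open Cfsg

universe u

/-- **Rows of the known simple groups** (the sporadic groups as an input). -/
theorem row_known (hspor : ∀ (X : Type u) [Group X] [Finite X] [IsSimpleGroup X], IsSporadicGroup X → Row X)
    {X : Type u} [Group X] [Finite X] [IsSimpleGroup X] (hX : ¬ IsMulCommutative X) (h : IsKnownSimple' X) : Row X := by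
  rcases Cfsg.Agent.OddHalf.Known.classify hX h with h | ⟨p, hp, -, h⟩ | (h | h) | h
  · obtain ⟨n, hn, ⟨e⟩⟩ := h
    exact (H669.NHAlt.row_alt n hn).congr e.symm
  · exact row_lie hp h
  · exact row_lie Nat.prime_two h
  · exact H759.NH.row_tits h
  · exact hspor X h

end Cfsg.Agent.H630.NH
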