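import Cfsg.Agent.H241.NHMEleven
import Cfsg.Agent.H322.NH.HeRu
import Cfsg.Agent.H846.NHRows
import Cfsg.Agent.H981.NHJanko
import Cfsg.Agent.H978.NH.Co
import Cfsg.Agent.H265.NH.CoOne
import Cfsg.Agent.H995.NHFiTwo
import Cfsg.Agent.H995.NHFiThree
import Cfsg.Agent.H353.NHFiTF
import Cfsg.Agent.H164.LyNHc
import Cfsg.Agent.H865.NH.Th
import Cfsg.Agent.H865.NH.JFour
import Cfsg.Agent.H759.NH.SuzTits
import Cfsg.Agent.H443.NHHN.Row
import Cfsg.Agent.H433.NHMat
import Cfsg.Agent.H433.NHOn
import Cfsg.Agent.H630.NHBaby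

/-!
# Nilpotent Hall subgroups: the rows of the sporadic groups (S4597, S4599, S4600)
-/

set_option autoImplicit false

namespace Cfsg.Agent.H630.NH

open Cfsg

universe u

/-- **Rows of the sporadic groups** (the Monster as input). -/
theorem row_spor_of {X : Type u} [Group X] [Finite X] [IsSimpleGroup X] (h : IsSporadicGroup X)
    (hM : Spor.IsoM X → Row X) : Row X := by
  rcases h with h | h | h | h | h | h | h | h | h | h | h | h | h | h | h | h | h | h |
      h | h | h | h | h | h | h | h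
  · exact H241.NH.row_m11 h
  · exact H433.NHMat.row_m12 h
  · exact H433.NHMat.row_m22 h
  · exact H433.NHMat.row_m23 h
  · exact H433.NHMat.row_m24 h
  · exact H981.NH.row_j1 h
  · exact H981.NH.row_j2 h
  · exact H981.NH.row_j3 h
  · exact H865.NH.JFour.row_j4 h
  · exact H265.NH.CoOne.row_co1 h
  · exact H978.NH.row_co2 h
  · exact H978.NH.row_co3 h
  · exact H846.NHRows.row_mcl h
  · exact H846.NHRows.row_hs h
  · exact H759.NH.row_suz h
  · exact H322.NH.row_he h
  · exact H322.NH.row_ru h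
  · exact H433.NHOn.row_on h
  · exact H164.LyNH.row_ly h
  · exact H995.NH.row_fi22 h
  · exact H995.NH.row_fi23 h
  · exact H353.NHFiTF.row_fi24 h
  · exact H443.NHHN.row_hn h
  · exact H865.NH.Th.row_th h
  · exact H630.Baby.row_b h
  · exact hM h

end Cfsg.Agent.H630.NH
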