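import Cfsg.Agent.H630.Known
import Cfsg.Agent.H630.KnownSpor
import Cfsg.Agent.H631.Known
import Cfsg.Agent.H631.Spor
import Cfsg.Agent.H241.NHThree
import Cfsg.Agent.H241.NHMonE
import Cfsg.Agent.S0000
import Cfsg.Agent.S3331

/-!
# Nilpotent Hall subgroups: all simple groups (S4597, S4599, S4600)
-/

set_option autoImplicit false

namespace Cfsg.Agent.H630.NH

open Cfsg

universe u

/-- **The rows of the sporadic groups.** -/
theorem row_spor {X : Type u} [Group X] [Finite X] [IsSimpleGroup X] (h : IsSporadicGroup X) : Row X :=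
  row_spor_of h (H241.Mon.row_m (H241.NH.three_of fun X hX hC => Cfsg.Agent.S3331.result X hX hC))

/-- **The row of every finite simple group.** -/
theorem row_simple {X : Type u} [Group X] [Finite X] [IsSimpleGroup X] (hX : ¬ IsMulCommutative X) : Row X :=
  row_known (fun _ _ _ _ h => row_spor h) hX (Cfsg.Agent.S0000.result (G := X))

/-- Every odd prime divisor `q` of the order of a simple group has a `q`-element of even class size. -/
theorem two_simple {X : Type u} [Group X] [Finite X] [IsSimpleGroup X] (hX : ¬ IsMulCommutative X) (q : ℕ)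
    (hq : q.Prime) (hq2 : q ≠ 2) (hd : q ∣ Nat.card X) :
    ∃ y : X, (∃ k : ℕ, orderOf y = q ^ k) ∧ 2 ∣ (Subgroup.centralizer ({y} : Set X)).index := by
  haveI : Fact q.Prime := ⟨hq⟩
  exact H631.bad_known (fun X _ _ q _ h hq2 hd => H631.bad_spor X q h hq2 hd) hX
    (Cfsg.Agent.S0000.result (G := X)) q hq2 hd

end Cfsg.Agent.H630.NH
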