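import Cfsg.Agent.H630.ExcRowsA
import Cfsg.Agent.H630.ExcRowsC
import Cfsg.Agent.H630.ExcRowsD
import Cfsg.Agent.H630.ExcRowsE
import Cfsg.Agent.H201.RowSU
import Cfsg.Agent.H625.NHPslCross
import Cfsg.Agent.H17.CR.Symp
import Cfsg.Agent.H17.CR.Orth
import Cfsg.Agent.H669.NHLie
import Cfsg.Agent.H345.NHSzRee
import Cfsg.Agent.H759.TwF.Main
import Cfsg.Prelude.Def_LieTypeChar

/-!
# Nilpotent Hall subgroups: the rows of the groups of Lie type (S4597, S4599, S4600)

`row_lie`: every finite simple group of Lie type of characteristic `r` satisfies `Row`.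
-/

set_option autoImplicit false
set_option linter.style.haveILetI false

namespace Cfsg.Agent.H630.NH

open Cfsg Cfsg.Agent.H630.Exc

universe u

/-- The quotient by the center. -/
theorem CrossRow.mk {r : ℕ} {G : Type u} [Group G] [Finite G] (h : CrossRow r G) :
    CrossRow r (G ⧸ Subgroup.center G) := by
  refine CrossRow.quot (QuotientGroup.mk' (Subgroup.center G)) (QuotientGroup.mk'_surjective _) ?_ h
  rw [QuotientGroup.ker_mk']

/-- **Rows of the groups of Lie type.** -/
theorem row_lie {r : ℕ} (hr : r.Prime) {X : Type u} [Group X] [Finite X] [IsSimpleGroup X]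
    (hX : IsLieTypeChar r X) : Row X := by
  haveI : Fact r.Prime := ⟨hr⟩
  have hX' := hX
  have key : ∀ {M : Type} [Group M], Nonempty (X ≃* M) → CrossRow r M → Row X := fun ⟨e⟩ h =>
    H669.NHLie.row_of_cross_lie hr hX' (h.congr e.symm)
  rcases hX with h | h | h | h | h | h | h | h | ⟨-, h⟩ | ⟨-, h⟩ | ⟨-, h⟩
  · obtain ⟨F, _, _, _, n, hn, -, e⟩ := h
    exact key e (CrossRow.mk (H625.NHPsl.crossRow_SL r F n hn))
  · obtain ⟨F, _, _, _, m, hm, -, e⟩ := h
    exact key e (CrossRow.mk (H17.CR.crossRow_Sp r F m (by omega)))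
  · obtain ⟨F, _, _, _, n, q, hF, hn, -, e⟩ := h
    exact key e (CrossRow.mk (H201.RowSU.crossRow_SU r F n q hF hn))
  · obtain ⟨F, _, _, _, m, hm, hF, e⟩ := h
    exact key e (H17.CR.crossRow_POmegaOdd r F m hm hF)
  · obtain ⟨F, _, _, _, m, hm, e⟩ := h
    exact key e (H17.CR.crossRow_POmegaPlus r F m hm)
  · obtain ⟨F, _, _, _, m, a, b, hm, hab, e⟩ := h
    exact key e (H17.CR.crossRow_POmegaMinus r F m a b hm hab)
  · obtain ⟨F, _, _, _, h⟩ := h
    rcases h with ⟨-, e⟩ | e | e | e | e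
    · exact key e (crossRow_G2 r F)
    · exact key e (crossRow_F4 r F)
    · exact key e (crossRow_E6 r F)
    · exact key e (crossRow_E7 r F)
    · exact key e (crossRow_E8 r F)
  · obtain ⟨K, _, _, _, q, hq, h⟩ := h
    rcases h with ⟨hK, e⟩ | ⟨hK, e⟩
    · exact key e (crossRow_twE6 r K hq hK)
    · exact key e (crossRow_twD4 r K hq hK)
  · exact H345.NHSzRee.row_suzuki h
  · exact H759.TwF.row_2F4 h
  · exact H345.NHSzRee.row_ree h

end Cfsg.Agent.H630.NH
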